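import Groth.Agent.ZeroCyc.Norm
import Mathlib.FieldTheory.IsAlgClosed.Basic
import Mathlib.RingTheory.Ideal.GoingUp
import Mathlib.RingTheory.Polynomial.Basic
import Mathlib.Algebra.Polynomial.Basis

/-!
# Geometric points of a law, Cayley–Hamilton, kernels after base change

* `ZeroCyc.exists_points`: over an algebraically closed field a law is a product of `d` points.
* `ZeroCyc.chEl`, `ZeroCyc.ev_add_chEl`: Cayley–Hamilton.
* `ZeroCyc.nrm`, `ZeroCyc.bcLaw`: the case of target `A`, base change.
* `ZeroCyc.exists_point_eq`: the points of the image are the points of the law.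
-/

universe u

open scoped TensorProduct

noncomputable section

namespace ZeroCyc

section Extend

variable {R T : Type u} [CommRing R] [CommRing T] [Algebra R T]

theorem exists_extend {K : Type u} [Field K] [IsAlgClosed K] [Algebra.IsIntegral R T]
    (hinj : Function.Injective (algebraMap R T)) (ψ : R →+* K) :
    ∃ Ψ : T →+* K, Ψ.comp (algebraMap R T) = ψ := by
  let p := RingHom.ker ψ
  have : p.IsPrime := RingHom.ker_isPrime ψ
  have hle : RingHom.ker (algebraMap R T) ≤ p := by
    rw [(RingHom.injective_iff_ker_eq_bot _).mp hinj]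
    exact bot_le
  obtain ⟨Q, -, hQ, hQp⟩ := Ideal.exists_ideal_over_prime_of_isIntegral (R := R) (S := T) p ⊥
    (by rw [← RingHom.ker_eq_comap_bot]; exact hle)
  let f : R ⧸ p →+* T ⧸ Q := Ideal.quotientMap Q (algebraMap R T) hQp.ge
  let g : R ⧸ p →+* K := RingHom.kerLift ψ
  algebraize [f, g]
  have hf : Function.Injective f := Ideal.quotientMap_injective' hQp.le
  have hg : Function.Injective g := RingHom.kerLift_injective ψ
  have : Algebra.IsIntegral (R ⧸ p) (T ⧸ Q) := by
    refine ⟨fun x => ?_⟩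
    obtain ⟨t, rfl⟩ := Ideal.Quotient.mk_surjective x
    obtain ⟨P, hP, hPt⟩ := Algebra.IsIntegral.isIntegral (R := R) t
    refine ⟨P.map (Ideal.Quotient.mk p), hP.map _, ?_⟩
    rw [Polynomial.eval₂_map]
    have : (algebraMap (R ⧸ p) (T ⧸ Q)).comp (Ideal.Quotient.mk p) =
        (Ideal.Quotient.mk Q).comp (algebraMap R T) := RingHom.ext fun r => rfl
    rw [this, ← Polynomial.hom_eval₂, hPt, map_zero]
  have : Module.IsTorsionFree (R ⧸ p) (T ⧸ Q) :=
    Module.isTorsionFree_iff_algebraMap_injective.mpr hf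
  have : Module.IsTorsionFree (R ⧸ p) K := Module.isTorsionFree_iff_algebraMap_injective.mpr hg
  have : Algebra.IsAlgebraic (R ⧸ p) (T ⧸ Q) := Algebra.IsIntegral.isAlgebraic
  let Φ : T ⧸ Q →ₐ[R ⧸ p] K := IsAlgClosed.lift
  refine ⟨Φ.toRingHom.comp (Ideal.Quotient.mk Q), RingHom.ext fun r => ?_⟩
  show Φ (Ideal.Quotient.mk Q (algebraMap R T r)) = ψ r
  exact (Φ.commutes (Ideal.Quotient.mk p r))

end Extend

variable {A : Type u} [CommRing A] {B C : Type u} [CommRing B] [Algebra A B] [CommRing C]
  [Algebra A C] {d : ℕ}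

theorem val_isIntegral (t : Tp A B d) : (SymTen.TS A B d).val.toRingHom.IsIntegralElem t := by
  rcases subsingleton_or_nontrivial (Tp A B d) with hT | hT
  · exact ⟨Polynomial.X, Polynomial.monic_X, Subsingleton.elim _ _⟩
  let P : Polynomial (Tp A B d) :=
    ∏ σ : Equiv.Perm (Fin d), (Polynomial.X - Polynomial.C (SymTen.perm A B d σ t))
  have hP : ∀ n, P.coeff n ∈ SymTen.TS A B d := by
    intro n
    refine mem_TS_of_perm fun τ => ?_
    have hmap : P.map (SymTen.perm A B d τ).toRingHom = P := by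
      rw [Polynomial.map_prod]
      refine Fintype.prod_equiv (Equiv.mulLeft τ) _ _ fun σ => ?_
      rw [Polynomial.map_sub, Polynomial.map_X, Polynomial.map_C, Equiv.coe_mulLeft,
        ← perm_comp_perm]
      rfl
    conv_rhs => rw [← hmap]
    rw [Polynomial.coeff_map]
    rfl
  obtain ⟨P', hP', hd, hm⟩ := Polynomial.lifts_and_degree_eq_and_monic
    (f := (SymTen.TS A B d).val.toRingHom)
    ((Polynomial.lifts_iff_coeff_lifts P).mpr fun n => ⟨⟨_, hP n⟩, rfl⟩)
    (Polynomial.monic_prod_of_monic _ _ fun σ _ => Polynomial.monic_X_sub_C _)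
  refine ⟨P', hm, ?_⟩
  rw [← Polynomial.eval_map, hP', Polynomial.eval_prod]
  refine Finset.prod_eq_zero (Finset.mem_univ 1) ?_
  have h1 : SymTen.perm A B d 1 = AlgHom.id A _ := by
    refine AlgHom.ext fun s => ?_
    rw [SymTen.perm_apply]
    induction s using PiTensorProduct.induction_on with
    | smul_tprod r f => simp [PiTensorProduct.reindex_tprod]; rfl
    | add x y hx hy => simp only [map_add, hx, hy]
  simp [h1]

theorem exists_extend_TS {K : Type u} [Field K] [IsAlgClosed K] [Algebra A K]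
    (ψ : SymTen.TS A B d →ₐ[A] K) :
    ∃ Ψ : Tp A B d →ₐ[A] K, Ψ.comp (SymTen.TS A B d).val = ψ := by
  let _ : Algebra (SymTen.TS A B d) (Tp A B d) := (SymTen.TS A B d).val.toRingHom.toAlgebra
  have : Algebra.IsIntegral (SymTen.TS A B d) (Tp A B d) := ⟨fun t => val_isIntegral t⟩
  obtain ⟨Ψ, hΨ⟩ := exists_extend (R := SymTen.TS A B d) (T := Tp A B d)
    Subtype.val_injective ψ.toRingHom
  refine ⟨{ Ψ with commutes' := fun a => ?_ }, AlgHom.ext fun t => RingHom.congr_fun hΨ t⟩
  exact (RingHom.congr_fun hΨ (algebraMap A (SymTen.TS A B d) a)).trans (ψ.commutes a)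

/-- The element `X ⊗ 1 + 1 ⊗ b`. -/
theorem ev_X_add {S : Type u} [CommSemiring S] [Algebra A S] (g : B →ₐ[A] S) (s : S) (b : B) :
    evMap g (s • (1 : S ⊗[A] B) + (1 : S) ⊗ₜ[A] b) = s + g b := by
  rw [map_add, evMap_smul, map_one, mul_one, evMap_tmul, one_mul]

theorem eq_zero_of_prod_eq_X_pow {K : Type u} [Field K] {ι : Type*} [Fintype ι] (a : ι → K)
    (h : ∏ i, (Polynomial.X + Polynomial.C (a i)) = Polynomial.X ^ Fintype.card ι) (i : ι) :
    a i = 0 := by
  have := congr_arg (Polynomial.eval (-a i)) h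
  rw [Polynomial.eval_prod, Finset.prod_eq_zero (Finset.mem_univ i) (by simp), Polynomial.eval_pow,
    Polynomial.eval_X] at this
  have := this.symm
  by_contra ha
  exact pow_ne_zero _ (neg_ne_zero.mpr ha) this

/-- Over an algebraically closed field a law is a product of `d` points. -/
theorem exists_points (F : PolLaw.MulLaw A B C d) {K : Type u} [Field K] [IsAlgClosed K]
    [Algebra A K] (c : C →ₐ[A] K) :
    ∃ β : Fin d → (B →ₐ[A] K), ∀ (S : Type u) [CommRing S] [Algebra A S] (i : K →ₐ[A] S)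
      (x : S ⊗[A] B), ev F (i.comp c) x = ∏ l, evMap (i.comp (β l)) x := by
  obtain ⟨Ψ, hΨ⟩ := exists_extend_TS (c.comp (presLift F))
  have key : ∀ (S : Type u) [CommRing S] [Algebra A S] (i : K →ₐ[A] S) (y : S ⊗[A] Pres A B),
      ev F (i.comp c) (lT (presMap A B) S y) = ∏ l, evMap ((i.comp Ψ).comp (slot l)) y := by
    intro S _ _ i y
    rw [← presLift_ev, AlgHom.comp_assoc, ← hΨ, ← AlgHom.comp_assoc, ev_diag]
  let Ci : K →ₐ[A] Polynomial K := IsScalarTower.toAlgHom A K (Polynomial K)
  have hker : ∀ l (j : Pres A B), presMap A B j = 0 → Ψ (slot l j) = 0 := by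
    intro l j hj
    refine eq_zero_of_prod_eq_X_pow (fun l => Ψ (slot l j)) ?_ l
    have h := key (Polynomial K) Ci ((Polynomial.X : Polynomial K) • 1 + 1 ⊗ₜ[A] j)
    rw [map_add, map_smul, map_one, lT_tmul, hj, TensorProduct.tmul_zero, add_zero, ev_smul, ev_one,
      mul_one] at h
    simp only [ev_X_add] at h
    rw [Fintype.card_fin, h]
    rfl
  let β : Fin d → (B →ₐ[A] K) := fun l =>
    AlgHom.liftOfSurjective (presMap A B) presMap_surjective (Ψ.comp (slot l))
      fun j hj => hker l j hj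
  have hβ : ∀ l, (β l).comp (presMap A B) = Ψ.comp (slot l) := fun l =>
    AlgHom.liftOfSurjective_comp _ _ _ _
  refine ⟨β, fun S _ _ i x => ?_⟩
  obtain ⟨y, rfl⟩ := lT_surjective (presMap_surjective (A := A) (B := B)) S x
  rw [key S i y]
  refine Finset.prod_congr rfl fun l _ => ?_
  rw [evMap_lT, AlgHom.comp_assoc, AlgHom.comp_assoc, hβ]

/-- The points of a law over an algebraically closed field kill its kernel. -/
theorem point_eq_zero_of_ker {F : PolLaw.MulLaw A B C d} {K : Type u} [Field K] [Algebra A K]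
    {c : C →ₐ[A] K} {β : Fin d → (B →ₐ[A] K)}
    (hβ : ∀ (S : Type u) [CommRing S] [Algebra A S] (i : K →ₐ[A] S) (x : S ⊗[A] B),
      ev F (i.comp c) x = ∏ l, evMap (i.comp (β l)) x)
    {b : B} (hb : b ∈ PolLaw.ker F.law) (l : Fin d) : β l b = 0 := by
  refine eq_zero_of_prod_eq_X_pow (fun l => β l b) ?_ l
  have h := hβ (Polynomial K) (IsScalarTower.toAlgHom A K (Polynomial K))
    ((Polynomial.X : Polynomial K) • 1 + 1 * (1 ⊗ₜ[A] b))
  rw [ev, hb, ← ev, ev_smul, ev_one, mul_one, one_mul] at h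
  simp only [ev_X_add] at h
  rw [Fintype.card_fin, h]
  rfl

section CH

variable (F : PolLaw.MulLaw A B C d)

/-- The characteristic element `F(1 ⊗ b - X ⊗ 1)`. -/
def chiEl (b : B) : Polynomial A ⊗[A] C :=
  F.law.toFun' (Polynomial A) ((1 : Polynomial A) ⊗ₜ[A] b - Polynomial.X ⊗ₜ[A] (1 : B))

/-- `χ_b(b)` in `S ⊗ B`, the coefficients read through `g`. -/
def chEl {S : Type u} [CommRing S] [Algebra A S] (g : C →ₐ[A] S) (b : B) : S ⊗[A] B :=
  Algebra.TensorProduct.lift
    (Polynomial.aeval ((1 : S) ⊗ₜ[A] b))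
    ((Algebra.TensorProduct.includeLeft : S →ₐ[A] S ⊗[A] B).comp g)
    (fun _ _ => Commute.all _ _) (chiEl F b)

end CH

theorem lift_chiEl {S : Type u} [CommRing S] [Algebra A S] (F : PolLaw.MulLaw A B C d) (b : B)
    (g : C →ₐ[A] S) (s : S) :
    Algebra.TensorProduct.lift (Polynomial.aeval s) g (fun _ _ => Commute.all _ _) (chiEl F b) =
      ev F g ((1 : S) ⊗ₜ[A] b - s ⊗ₜ[A] (1 : B)) := by
  have hx : rT B (Polynomial.aeval s : Polynomial A →ₐ[A] S)
      ((1 : Polynomial A) ⊗ₜ[A] b - Polynomial.X ⊗ₜ[A] (1 : B)) = 1 ⊗ₜ[A] b - s ⊗ₜ[A] 1 := by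
    rw [map_sub, rT_tmul, rT_tmul, map_one, Polynomial.aeval_X]
  rw [ev, ← hx, ← mulLaw_natural, chiEl]
  generalize F.law.toFun' (Polynomial A) _ = z
  induction z using TensorProduct.induction_on with
  | zero => simp
  | add a c ha hc => simp only [map_add, ha, hc]
  | tmul p c => simp

theorem evMap_chEl {S : Type u} [CommRing S] [Algebra A S] (F : PolLaw.MulLaw A B C d) (b : B)
    (g : C →ₐ[A] S) (β : B →ₐ[A] S) :
    evMap β (chEl F g b) = ev F g ((1 : S) ⊗ₜ[A] b - β b ⊗ₜ[A] (1 : B)) := by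
  rw [← lift_chiEl, chEl]
  generalize chiEl F b = z
  induction z using TensorProduct.induction_on with
  | zero => simp
  | add a c ha hc => simp only [map_add, ha, hc]
  | tmul p c =>
    simp only [Algebra.TensorProduct.lift_tmul, map_mul, AlgHom.comp_apply,
      Algebra.TensorProduct.includeLeft_apply, evMap_tmul, map_one, mul_one]
    rw [← Polynomial.aeval_algHom_apply, evMap_tmul, one_mul]

theorem chEl_natural {S T : Type u} [CommRing S] [Algebra A S] [CommRing T] [Algebra A T]
    (F : PolLaw.MulLaw A B C d) (h : S →ₐ[A] T) (g : C →ₐ[A] S) (b : B) :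
    rT B h (chEl F g b) = chEl F (h.comp g) b := by
  rw [chEl, chEl]
  generalize chiEl F b = z
  induction z using TensorProduct.induction_on with
  | zero => simp
  | add a c ha hc => simp only [map_add, ha, hc]
  | tmul p c =>
    simp only [Algebra.TensorProduct.lift_tmul, map_mul, AlgHom.comp_apply,
      Algebra.TensorProduct.includeLeft_apply, rT_tmul]
    rw [← Polynomial.aeval_algHom_apply, rT_tmul, map_one]

theorem lT_chEl {S : Type u} [CommRing S] [Algebra A S] (F : PolLaw.MulLaw A B C d) (g : C →ₐ[A] S)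
    (t : Pres A B) :
    lT (presMap A B) S (chEl (tau A (Pres A B) d) (g.comp (presLift F)) t) =
      chEl F g (presMap A B t) := by
  have hc : lT (presLift F) (Polynomial A) (chiEl (tau A (Pres A B) d) t) = chiEl F (presMap A B t) := by
    have e := congr_arg (fun G : PolLaw.MulLaw A (Pres A B) C d => G.law.toFun' (Polynomial A)
      ((1 : Polynomial A) ⊗ₜ[A] t - Polynomial.X ⊗ₜ[A] (1 : Pres A B))) (presLift_tau F)
    rw [chiEl, chiEl, lT_eq]
    refine e.trans ?_
    show F.law.toFun' _ ((presMap A B).toLinearMap.lTensor _ _) = _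
    rw [← lT_eq, map_sub, lT_tmul, lT_tmul, map_one]
  rw [chEl, chEl, ← hc]
  generalize chiEl (tau A (Pres A B) d) t = z
  induction z using TensorProduct.induction_on with
  | zero => simp
  | add a c ha hc => simp only [map_add, ha, hc]
  | tmul p c =>
    simp only [lT_tmul, Algebra.TensorProduct.lift_tmul, map_mul, AlgHom.comp_apply,
      Algebra.TensorProduct.includeLeft_apply, map_one]
    congr 1
    show ((lT (presMap A B) S).restrictScalars A) _ = _
    rw [← Polynomial.aeval_algHom_apply]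
    simp

set_option maxHeartbeats 400000 in
theorem tau_add_chEl {R : Type u} [CommRing R] [Algebra A R] [Module.Free A R] (t : B)
    (p q : R ⊗[A] B) :
    ev (tau A B d) (Algebra.TensorProduct.includeRight : SymTen.TS A B d →ₐ[A] R ⊗[A] SymTen.TS A B d)
        (rT B (Algebra.TensorProduct.includeLeft : R →ₐ[A] R ⊗[A] SymTen.TS A B d) p +
          rT B (Algebra.TensorProduct.includeLeft : R →ₐ[A] R ⊗[A] SymTen.TS A B d) q *
            chEl (tau A B d) Algebra.TensorProduct.includeRight t) =
      ev (tau A B d) (Algebra.TensorProduct.includeRight : SymTen.TS A B d →ₐ[A] R ⊗[A] SymTen.TS A B d)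
        (rT B (Algebra.TensorProduct.includeLeft : R →ₐ[A] R ⊗[A] SymTen.TS A B d) p) := by
  apply lTensor_injective (i := (SymTen.TS A B d).val.toLinearMap) Subtype.val_injective (R := R)
  rw [← lT_eq (SymTen.TS A B d).val, ← lT_eq (SymTen.TS A B d).val]
  let ν : R ⊗[A] SymTen.TS A B d →ₐ[A] R ⊗[A] Tp A B d :=
    (lT (SymTen.TS A B d).val R).restrictScalars A
  show ν (ev _ _ _) = ν (ev _ _ _)
  rw [← ev_natural, ← ev_natural, map_add, map_mul, chEl_natural]
  let io : Tp A B d →ₐ[A] R ⊗[A] Tp A B d := Algebra.TensorProduct.includeRight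
  have h1 : ν.comp Algebra.TensorProduct.includeRight = io.comp (SymTen.TS A B d).val :=
    AlgHom.ext fun s => by simp [ν, io]
  rw [h1, ev_diag, ev_diag]
  refine Finset.prod_congr rfl fun l _ => ?_
  rw [map_add, map_mul, evMap_chEl, ev_diag]
  rw [Finset.prod_eq_zero (Finset.mem_univ l), mul_zero, add_zero]
  rw [map_sub, evMap_tmul, evMap_tmul, map_one, mul_one, one_mul, sub_self]

/-- Cayley–Hamilton: `χ_b(b)` lies in the kernel. -/
theorem ev_add_chEl (F : PolLaw.MulLaw A B C d) {S : Type u} [CommRing S] [Algebra A S]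
    (g : C →ₐ[A] S) (b : B) (x w : S ⊗[A] B) :
    ev F g (x + w * chEl F g b) = ev F g x := by
  obtain ⟨t, rfl⟩ := presMap_surjective (A := A) b
  obtain ⟨x, rfl⟩ := lT_surjective (presMap_surjective (A := A) (B := B)) S x
  obtain ⟨w, rfl⟩ := lT_surjective (presMap_surjective (A := A) (B := B)) S w
  rw [← lT_chEl, ← map_mul, ← map_add, ← presLift_ev, ← presLift_ev]
  obtain ⟨p, rfl⟩ := exists_lift_ring x
  obtain ⟨q, rfl⟩ := exists_lift_ring w
  let h : MvPolynomial S A ⊗[A] SymTen.TS A (Pres A B) d →ₐ[A] S :=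
    Algebra.TensorProduct.lift (cover A S) (g.comp (presLift F)) fun _ _ => Commute.all _ _
  have hg : h.comp Algebra.TensorProduct.includeRight = g.comp (presLift F) := by
    ext s; simp [h]
  have hl : h.comp Algebra.TensorProduct.includeLeft = cover A S := AlgHom.ext fun r => by simp [h]
  have := congr_arg h (tau_add_chEl (B := Pres A B) (d := d) t p q)
  rw [← ev_natural, ← ev_natural, map_add, map_mul, chEl_natural, hg, rT_comp, rT_comp, hl] at this
  exact this

section Base

variable (F : PolLaw.MulLaw A B A d)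

/-- The value in `S` of a law with target `A`. -/
def nrm (S : Type u) [CommSemiring S] [Algebra A S] (x : S ⊗[A] B) : S :=
  ev F (Algebra.ofId A S) x

theorem ev_eq_nrm {S : Type u} [CommSemiring S] [Algebra A S] (g : A →ₐ[A] S) (x : S ⊗[A] B) :
    ev F g x = nrm F S x := by
  rw [Subsingleton.elim g (Algebra.ofId A S)]
  rfl

theorem evMap_ofId {S : Type u} [CommSemiring S] [Algebra A S] (z : S ⊗[A] A) :
    evMap (Algebra.ofId A S) z = TensorProduct.rid A S z := by
  induction z using TensorProduct.induction_on with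
  | zero => simp
  | add a b ha hb => simp [ha, hb]
  | tmul s a => simp [Algebra.smul_def, mul_comm, Algebra.ofId_apply]

theorem toFun_eq_nrm {S : Type u} [CommSemiring S] [Algebra A S] (x : S ⊗[A] B) :
    F.law.toFun' S x = nrm F S x ⊗ₜ[A] (1 : A) := by
  apply (TensorProduct.rid A S).injective
  rw [TensorProduct.rid_tmul, one_smul, ← evMap_ofId]
  rfl

theorem nrm_natural {S T : Type u} [CommSemiring S] [Algebra A S] [CommSemiring T] [Algebra A T]
    (h : S →ₐ[A] T) (x : S ⊗[A] B) : nrm F T (rT B h x) = h (nrm F S x) := by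
  rw [← ev_eq_nrm F (h.comp (Algebra.ofId A S)), ev_natural]
  rfl

/-- The characteristic polynomial. -/
def chiPol (b : B) : Polynomial A :=
  nrm F (Polynomial A) ((1 : Polynomial A) ⊗ₜ[A] b - Polynomial.X ⊗ₜ[A] (1 : B))

theorem chEl_eq (S : Type u) [CommRing S] [Algebra A S] (g : A →ₐ[A] S) (b : B) :
    chEl F g b = (1 : S) ⊗ₜ[A] Polynomial.aeval b (chiPol F b) := by
  rw [chEl, chiEl, toFun_eq_nrm, Algebra.TensorProduct.lift_tmul, map_one, mul_one]
  exact Polynomial.aeval_algHom_apply (Algebra.TensorProduct.includeRight : B →ₐ[A] S ⊗[A] B) b _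

theorem mem_ker_iff {b : B} :
    b ∈ PolLaw.ker F.law ↔ ∀ (S : Type u) [CommRing S] [Algebra A S] (x w : S ⊗[A] B),
      nrm F S (x + w * (1 ⊗ₜ[A] b)) = nrm F S x := by
  constructor
  · intro hb S _ _ x w
    show evMap _ (F.law.toFun' S _) = evMap _ _
    rw [hb S x w]
  · intro h S _ _ x w
    obtain ⟨p, rfl⟩ := exists_lift_ring x
    obtain ⟨q, rfl⟩ := exists_lift_ring w
    have e : (1 : S) ⊗ₜ[A] b = rT B (cover A S) (1 ⊗ₜ[A] b) := by rw [rT_tmul, map_one]
    rw [e, ← map_mul, ← map_add, toFun_eq_nrm, toFun_eq_nrm, nrm_natural, nrm_natural, h]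

theorem aeval_chiPol_mem_ker (b : B) : Polynomial.aeval b (chiPol F b) ∈ PolLaw.ker F.law := by
  rw [mem_ker_iff]
  intro S _ _ x w
  rw [← chEl_eq F S (Algebra.ofId A S) b]
  exact ev_add_chEl F (Algebra.ofId A S) b x w

theorem chiPol_of_mem_ker {b : B} (hb : b ∈ PolLaw.ker F.law) :
    chiPol F b = (-Polynomial.X) ^ d := by
  have h := (mem_ker_iff F).mp hb (Polynomial A) ((-Polynomial.X : Polynomial A) • 1) 1
  have e : (1 : Polynomial A) ⊗ₜ[A] b - Polynomial.X ⊗ₜ[A] (1 : B) =
      (-Polynomial.X : Polynomial A) • (1 : Polynomial A ⊗[A] B) + 1 * (1 ⊗ₜ[A] b) := by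
    rw [Algebra.TensorProduct.one_def, TensorProduct.smul_tmul', smul_eq_mul, mul_one,
      TensorProduct.neg_tmul, Algebra.TensorProduct.tmul_mul_tmul, one_mul, one_mul]
    abel
  rw [chiPol, e, h]
  show ev F _ _ = _
  rw [ev_smul, ev_one, mul_one]

theorem pow_mem_span_of_mem_ker {b : B} (hb : b ∈ PolLaw.ker F.law) :
    b ^ d ∈ Ideal.span (Set.range fun b : B => Polynomial.aeval b (chiPol F b)) := by
  have : Polynomial.aeval b (chiPol F b) ∈
      Ideal.span (Set.range fun b : B => Polynomial.aeval b (chiPol F b)) :=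
    Ideal.subset_span ⟨b, rfl⟩
  rw [chiPol_of_mem_ker F hb, map_pow, map_neg, Polynomial.aeval_X, neg_pow] at this
  exact (Ideal.unit_mul_mem_iff_mem _ (isUnit_one.neg.pow d)).mp this

end Base

section BaseChange

variable (F : PolLaw.MulLaw A B A d) (A' : Type u) [CommRing A'] [Algebra A A']

/-- `R ⊗[A'] (A' ⊗[A] B) = R ⊗[A] B`, as ring maps. -/
def cancelMap (R : Type u) [CommRing R] [Algebra A R] [Algebra A' R] [IsScalarTower A A' R] :
    R ⊗[A'] (A' ⊗[A] B) ≃ₐ[R] R ⊗[A] B :=
  Algebra.TensorProduct.cancelBaseChange A A' R R B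

variable {A'} in
theorem cancelMap_one_tmul (R : Type u) [CommRing R] [Algebra A R] [Algebra A' R]
    [IsScalarTower A A' R] (b' : A' ⊗[A] B) :
    cancelMap A' R ((1 : R) ⊗ₜ[A'] b') =
      Algebra.TensorProduct.map (IsScalarTower.toAlgHom A A' R) (AlgHom.id A B) b' := by
  induction b' using TensorProduct.induction_on with
  | zero => simp
  | add a b ha hb => simp only [TensorProduct.tmul_add, map_add, ha, hb]
  | tmul a b => simp [cancelMap, Algebra.smul_def]

/-- The base change of a family. -/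
def bcFam : Fam A' (A' ⊗[A] B) A' d where
  val R _ _ _ x :=
    letI : Algebra A R := ((algebraMap A' R).comp (algebraMap A A')).toAlgebra
    haveI : IsScalarTower A A' R := IsScalarTower.of_algebraMap_eq fun _ => rfl
    nrm F R (cancelMap A' R x)
  natural {S T} _ _ _ _ h g x := by
    let : Algebra A S := ((algebraMap A' S).comp (algebraMap A A')).toAlgebra
    let : Algebra A T := ((algebraMap A' T).comp (algebraMap A A')).toAlgebra
    have : IsScalarTower A A' S := IsScalarTower.of_algebraMap_eq fun _ => rfl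
    have : IsScalarTower A A' T := IsScalarTower.of_algebraMap_eq fun _ => rfl
    show nrm F T (cancelMap A' T (rT _ h x)) = h (nrm F S (cancelMap A' S x))
    show _ = (h.restrictScalars A) _
    rw [← nrm_natural]
    congr 1
    induction x using TensorProduct.induction_on with
    | zero => simp
    | add a b ha hb => simp only [map_add, ha, hb]
    | tmul s y =>
      induction y using TensorProduct.induction_on with
      | zero => simp
      | add a b ha hb => simp only [TensorProduct.tmul_add, map_add, ha, hb]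
      | tmul a b => simp [cancelMap]
  map_one g := by simp [nrm]
  map_mul g x y := by simp [nrm, ev_mul]
  map_smul g s x := by simp [nrm, ev_smul]

/-- The base change of a law. -/
def bcLaw : PolLaw.MulLaw A' (A' ⊗[A] B) A' d := (bcFam F A').toLaw

theorem nrm_bcLaw {R : Type u} [CommRing R] [Algebra A R] [Algebra A' R] [IsScalarTower A A' R]
    (x : R ⊗[A'] (A' ⊗[A] B)) : nrm (bcLaw F A') R x = nrm F R (cancelMap A' R x) := by
  refine (Fam.ev_toLaw _ _ x).trans ?_
  have e : ‹Algebra A R› = ((algebraMap A' R).comp (algebraMap A A')).toAlgebra :=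
    Algebra.algebra_ext _ _ fun a => IsScalarTower.algebraMap_apply A A' R a
  subst e
  rfl

theorem ker_bcLaw : PolLaw.ker (bcLaw F A').law = PolLaw.kerBC F.law A' := by
  ext b'
  rw [mem_ker_iff]
  constructor
  · intro h R _ _ _ _ x w
    let : CommRing R := testRing A R
    obtain ⟨x', rfl⟩ := (cancelMap (B := B) A' R).surjective x
    obtain ⟨w', rfl⟩ := (cancelMap (B := B) A' R).surjective w
    have := h R x' w'
    rw [nrm_bcLaw, nrm_bcLaw, map_add, map_mul, cancelMap_one_tmul] at this
    rw [toFun_eq_nrm, toFun_eq_nrm]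
    exact congrArg (fun r : R => r ⊗ₜ[A] (1 : A)) this
  · intro h R _ _ x w
    let : Algebra A R := ((algebraMap A' R).comp (algebraMap A A')).toAlgebra
    have : IsScalarTower A A' R := IsScalarTower.of_algebraMap_eq fun _ => rfl
    rw [nrm_bcLaw, nrm_bcLaw, map_add, map_mul, cancelMap_one_tmul]
    exact congr_arg (evMap _) (h R (cancelMap A' R x) (cancelMap A' R w))

theorem map_ker_le_kerBC :
    (PolLaw.ker F.law).map (Algebra.TensorProduct.includeRight : B →ₐ[A] A' ⊗[A] B) ≤
      PolLaw.kerBC F.law A' := by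
  rw [Ideal.map_le_iff_le_comap]
  intro b hb R _ _ _ _ x w
  have := hb R x w
  simpa using this

theorem mem_kerBC_iff {b' : A' ⊗[A] B} :
    b' ∈ PolLaw.kerBC F.law A' ↔ ∀ (R : Type u) [CommRing R] [Algebra A R] [Algebra A' R]
      [IsScalarTower A A' R] (x w : R ⊗[A] B),
      nrm F R (x + w * Algebra.TensorProduct.map (IsScalarTower.toAlgHom A A' R) (AlgHom.id A B) b') =
        nrm F R x := by
  constructor
  · intro h R _ _ _ _ x w
    exact congr_arg (evMap _) (h R x w)
  · intro h R _ _ _ _ x w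
    let : CommRing R := testRing A R
    rw [toFun_eq_nrm, toFun_eq_nrm, h]

theorem mem_kerBC_iff_hom {b' : A' ⊗[A] B} :
    b' ∈ PolLaw.kerBC F.law A' ↔ ∀ (R : Type u) [CommRing R] [Algebra A R] (a : A' →ₐ[A] R)
      (x w : R ⊗[A] B), nrm F R (x + w * rT B a b') = nrm F R x := by
  rw [mem_kerBC_iff]
  constructor
  · intro h R _ _ a x w
    algebraize [a.toRingHom]
    have : IsScalarTower A A' R := IsScalarTower.of_algebraMap_eq fun r => (a.commutes r).symm
    exact h R x w
  · intro h R _ _ _ _ x w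
    exact h R (IsScalarTower.toAlgHom A A' R) x w

end BaseChange

section PolyBase

variable (F : PolLaw.MulLaw A B A d)

theorem comp_C_mul_X_injective {R : Type u} [CommRing R] {z : R} (hz : IsSMulRegular R z) :
    Function.Injective fun p : Polynomial R => p.comp (Polynomial.C z * Polynomial.X) := by
  intro p q h
  ext n
  have h' := congr_arg (fun r => Polynomial.coeff r n) h
  simp only [Polynomial.comp_C_mul_X_coeff] at h'
  refine (hz.pow n) ?_
  simpa [mul_comm] using h'

theorem smul_eq_tmul_mul {S : Type u} [CommRing S] [Algebra A S] (s : S) (x : S ⊗[A] B) :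
    s • x = (s ⊗ₜ[A] (1 : B)) * x := by
  induction x using TensorProduct.induction_on with
  | zero => simp
  | add a b ha hb => rw [smul_add, mul_add, ha, hb]
  | tmul t b => rw [TensorProduct.smul_tmul', Algebra.TensorProduct.tmul_mul_tmul, smul_eq_mul, one_mul]

theorem mem_kerBC_of_X_mul {b : Polynomial A ⊗[A] B}
    (h : ((Polynomial.X : Polynomial A) ⊗ₜ[A] (1 : B)) * b ∈ PolLaw.kerBC F.law (Polynomial A)) :
    b ∈ PolLaw.kerBC F.law (Polynomial A) := by
  rw [mem_kerBC_iff_hom] at h ⊢
  intro R _ _ a x w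
  let c₁ : R →ₐ[A] Polynomial R := IsScalarTower.toAlgHom A R (Polynomial R)
  let c₂ : Polynomial R →ₐ[A] Polynomial (Polynomial R) :=
    IsScalarTower.toAlgHom A (Polynomial R) (Polynomial (Polynomial R))
  let aZ : Polynomial A →ₐ[A] Polynomial R := Polynomial.aeval (Polynomial.X : Polynomial R)
  let Z : Polynomial (Polynomial R) := Polynomial.C (Polynomial.X : Polynomial R)
  let arg : Polynomial (Polynomial R) ⊗[A] B := rT B (c₂.comp c₁) w * rT B c₂ (rT B aZ b)
  let Q := nrm F (Polynomial (Polynomial R))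
    (rT B (c₂.comp c₁) x + (Polynomial.X : Polynomial (Polynomial R)) • arg)
  let s₂ : Polynomial (Polynomial R) →ₐ[A] Polynomial (Polynomial R) :=
    (Polynomial.aeval (R := Polynomial R) (Z * Polynomial.X)).restrictScalars A
  have key := h (Polynomial (Polynomial R)) (c₂.comp aZ) (rT B (c₂.comp c₁) x)
    ((Polynomial.X : Polynomial (Polynomial R)) • rT B (c₂.comp c₁) w)
  have hcc : s₂.comp (c₂.comp c₁) = c₂.comp c₁ := AlgHom.ext fun r => by simp [s₂, c₂]
  have hc : s₂.comp c₂ = c₂ := AlgHom.ext fun r => by simp [s₂, c₂]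
  have hs : s₂ Q = nrm F (Polynomial (Polynomial R)) (rT B (c₂.comp c₁) x) := by
    rw [← key, ← nrm_natural, map_add, rT_smul]
    simp only [arg, map_mul, rT_comp, hcc, hc, rT_tmul, ← AlgHom.comp_assoc]
    congr 2
    have hX : s₂ Polynomial.X = Z * Polynomial.X := by simp [s₂]
    have hZ : (c₂.comp aZ) Polynomial.X = Z := by simp [c₂, aZ, Z, Polynomial.algebraMap_eq]
    rw [hX, hZ, smul_eq_tmul_mul, smul_eq_tmul_mul]
    rw [show (Z * Polynomial.X) ⊗ₜ[A] (1 : B) =
      Z ⊗ₜ[A] (1 : B) * (Polynomial.X : Polynomial (Polynomial R)) ⊗ₜ[A] (1 : B) by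
        rw [Algebra.TensorProduct.tmul_mul_tmul, mul_one]]
    ring
  have hQ : Q = nrm F (Polynomial (Polynomial R)) (rT B (c₂.comp c₁) x) := by
    apply comp_C_mul_X_injective (z := (Polynomial.X : Polynomial R))
      (fun a b hab => Polynomial.monic_X.isRegular.left hab)
    show Polynomial.comp Q _ = Polynomial.comp _ _
    have e : ∀ p, s₂ p = p.comp (Z * Polynomial.X) := fun p => by
      simp [s₂, Polynomial.comp, Polynomial.aeval_def, Polynomial.algebraMap_eq]
    rw [← e, ← e, hs, ← nrm_natural, rT_comp, hcc]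
  let e₁ : Polynomial R →ₐ[A] R := (Polynomial.aeval (R := R) (a Polynomial.X)).restrictScalars A
  let e₂ : Polynomial (Polynomial R) →ₐ[A] R :=
    e₁.comp ((Polynomial.aeval (R := Polynomial R) (1 : Polynomial R)).restrictScalars A)
  have h1 : e₂.comp (c₂.comp c₁) = AlgHom.id A R := AlgHom.ext fun r => by simp [e₁, e₂, c₁, c₂]
  have h2 : e₂.comp c₂ = e₁ := AlgHom.ext fun r => by simp [e₂, c₂]
  have h3 : e₁.comp aZ = a := Polynomial.algHom_ext (by simp [e₁, aZ])
  have := congr_arg e₂ hQ
  rw [← nrm_natural, ← nrm_natural, map_add, rT_smul] at this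
  have h4 : e₂.comp (c₂.comp aZ) = a := by rw [← AlgHom.comp_assoc, h2, h3]
  simp only [arg, map_mul, rT_comp, h1, h4, rT_id] at this
  have hX : e₂ Polynomial.X = 1 := by simp [e₂]
  rwa [hX, one_smul] at this

theorem kerBC_polynomial :
    PolLaw.kerBC F.law (Polynomial A) =
      (PolLaw.ker F.law).map (Algebra.TensorProduct.includeRight : B →ₐ[A] Polynomial A ⊗[A] B) := by
  refine le_antisymm ?_ (map_ker_le_kerBC F (Polynomial A))
  have key : ∀ (N : ℕ) (m : ℕ → B),
      ∑ i ∈ Finset.range N, ((Polynomial.X : Polynomial A) ^ i) ⊗ₜ[A] m i ∈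
          PolLaw.kerBC F.law (Polynomial A) →
        ∑ i ∈ Finset.range N, ((Polynomial.X : Polynomial A) ^ i) ⊗ₜ[A] m i ∈
          (PolLaw.ker F.law).map
            (Algebra.TensorProduct.includeRight : B →ₐ[A] Polynomial A ⊗[A] B) := by
    intro N
    induction N with
    | zero => intro m _; simp
    | succ N ih =>
      intro m hm
      have hsplit : ∑ i ∈ Finset.range (N + 1), ((Polynomial.X : Polynomial A) ^ i) ⊗ₜ[A] m i =
          (Polynomial.X : Polynomial A) ⊗ₜ[A] (1 : B) *
            (∑ i ∈ Finset.range N, ((Polynomial.X : Polynomial A) ^ i) ⊗ₜ[A] m (i + 1)) +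
          (1 : Polynomial A) ⊗ₜ[A] m 0 := by
        rw [Finset.sum_range_succ', Finset.mul_sum, pow_zero]
        congr 1
        exact Finset.sum_congr rfl fun i _ => by
          rw [Algebra.TensorProduct.tmul_mul_tmul, one_mul, pow_succ']
      have h0 : m 0 ∈ PolLaw.ker F.law := by
        rw [mem_ker_iff]
        intro S _ _ x w
        let a0 : Polynomial A →ₐ[A] S := Polynomial.aeval (0 : S)
        algebraize [a0.toRingHom]
        have : IsScalarTower A (Polynomial A) S :=
          IsScalarTower.of_algebraMap_eq fun a => (a0.commutes a).symm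
        have := (mem_kerBC_iff F (Polynomial A)).mp hm S x w
        rw [hsplit, map_add, map_mul, Algebra.TensorProduct.map_tmul, Algebra.TensorProduct.map_tmul]
          at this
        have hX : (IsScalarTower.toAlgHom A (Polynomial A) S) Polynomial.X = 0 := by
          show a0 Polynomial.X = 0
          simp [a0]
        rwa [hX, TensorProduct.zero_tmul, zero_mul, zero_add, map_one] at this
      have h0' : (1 : Polynomial A) ⊗ₜ[A] m 0 ∈ (PolLaw.ker F.law).map
          (Algebra.TensorProduct.includeRight : B →ₐ[A] Polynomial A ⊗[A] B) :=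
        Ideal.mem_map_of_mem _ h0
      rw [hsplit] at hm ⊢
      refine add_mem (Ideal.mul_mem_left _ _ (ih _ (mem_kerBC_of_X_mul F ?_))) h0'
      have := sub_mem hm (map_ker_le_kerBC F (Polynomial A) h0')
      rwa [add_sub_cancel_right] at this
  intro b hb
  classical
  obtain ⟨c, rfl⟩ := TensorProduct.eq_repr_basis_left (N := B) (Polynomial.basisMonomials A) b
  obtain ⟨N, hN⟩ := c.support.exists_nat_subset_range
  rw [Finsupp.sum_of_support_subset c hN _ fun i _ => TensorProduct.tmul_zero _ _] at hb ⊢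
  simp only [Polynomial.coe_basisMonomials, Polynomial.monomial_one_right_eq_X_pow] at hb ⊢
  exact key N c hb

/-- The characteristic value of `∑ eⱼ Xʲ` at itself. -/
def genVal {n : ℕ} (e : Fin n → B) : Polynomial A ⊗[A] B :=
  Polynomial.aeval (∑ l : Fin n, ((Polynomial.X : Polynomial A) ^ (l : ℕ)) ⊗ₜ[A] e l)
    (chiPol (bcLaw F (Polynomial A)) (∑ l : Fin n, ((Polynomial.X : Polynomial A) ^ (l : ℕ)) ⊗ₜ[A] e l))

theorem genVal_mem {n : ℕ} (e : Fin n → B) :
    genVal F e ∈ (PolLaw.ker F.law).map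
      (Algebra.TensorProduct.includeRight : B →ₐ[A] Polynomial A ⊗[A] B) := by
  have hmem := aeval_chiPol_mem_ker (bcLaw F (Polynomial A))
    (∑ l : Fin n, ((Polynomial.X : Polynomial A) ^ (l : ℕ)) ⊗ₜ[A] e l)
  rwa [ker_bcLaw, kerBC_polynomial] at hmem

/-- A point killing the characteristic value of `∑ eⱼ Xʲ` agrees with some point of the law on the `eⱼ`. -/
theorem exists_point_agree {K : Type u} [Field K] [Algebra A K] {β : Fin d → (B →ₐ[A] K)}
    (hβ : ∀ (S : Type u) [CommRing S] [Algebra A S] (i : K →ₐ[A] S) (x : S ⊗[A] B),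
      ev F (i.comp (Algebra.ofId A K)) x = ∏ l, evMap (i.comp (β l)) x)
    (β' : B →ₐ[A] K) {n : ℕ} (e : Fin n → B)
    (hu0 : Algebra.TensorProduct.map (Polynomial.aeval (Polynomial.X : Polynomial K) :
        Polynomial A →ₐ[A] Polynomial K) (AlgHom.id A B) (genVal F e) ∈
      RingHom.ker (evMap ((IsScalarTower.toAlgHom A K (Polynomial K)).comp β')).toRingHom) :
    ∃ l, ∀ j, β l (e j) = β' (e j) := by
  classical
  let A' := Polynomial A
  let z : A' ⊗[A] B := ∑ l : Fin n, ((Polynomial.X : A') ^ (l : ℕ)) ⊗ₜ[A] e l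
  let KX := Polynomial K
  let CK : K →ₐ[A] KX := IsScalarTower.toAlgHom A K KX
  let aX : A' →ₐ[A] KX := Polynomial.aeval (Polynomial.X : KX)
  algebraize [aX.toRingHom]
  have : IsScalarTower A A' KX := IsScalarTower.of_algebraMap_eq fun a => (aX.commutes a).symm
  let pr : (B →ₐ[A] K) → (A' ⊗[A] B →ₐ[A'] KX) := fun γ =>
    Algebra.TensorProduct.lift (Algebra.ofId A' KX) (CK.comp γ) fun _ _ => Commute.all _ _
  have hu : pr β' (Polynomial.aeval z (chiPol (bcLaw F A') z)) = 0 := by
    have e0 : ∀ y : A' ⊗[A] B, pr β' y = evMap (CK.comp β') (Algebra.TensorProduct.map aX (AlgHom.id A B) y) := by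
      intro y
      induction y using TensorProduct.induction_on with
      | zero => simp
      | add a b ha hb => simp only [map_add, ha, hb]
      | tmul a b => simp [pr, Algebra.ofId_apply]; exact Or.inl rfl
    rw [e0]
    exact hu0
  rw [← Polynomial.aeval_algHom_apply, chiPol] at hu
  rw [show Polynomial.aeval (pr β' z) (nrm (bcLaw F A') (Polynomial A') _) =
    (Polynomial.aeval (pr β' z) : Polynomial A' →ₐ[A'] KX) (nrm (bcLaw F A') (Polynomial A') _)
    from rfl, ← nrm_natural, map_sub, rT_tmul, rT_tmul, map_one, Polynomial.aeval_X, nrm_bcLaw,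
    map_sub, cancelMap_one_tmul] at hu
  have hprod : nrm F KX (Algebra.TensorProduct.map (IsScalarTower.toAlgHom A A' KX) (AlgHom.id A B) z -
      cancelMap A' KX ((pr β' z) ⊗ₜ[A'] (1 : A' ⊗[A] B))) =
      ∏ l, (pr (β l) z - pr β' z) := by
    rw [← ev_eq_nrm F (CK.comp (Algebra.ofId A K)), hβ KX CK]
    refine Finset.prod_congr rfl fun l _ => ?_
    rw [map_sub]
    congr 1
    · generalize z = y
      induction y using TensorProduct.induction_on with
      | zero => simp
      | add a b ha hb => simp only [map_add, ha, hb]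
      | tmul a b => simp [pr, Algebra.ofId_apply]
    · simp [cancelMap, Algebra.TensorProduct.one_def]
  rw [hprod] at hu
  obtain ⟨l, -, hl⟩ := Finset.prod_eq_zero_iff.mp hu
  refine ⟨l, fun j => sub_eq_zero.mp ?_⟩
  have hm : algebraMap A' KX Polynomial.X = Polynomial.X := Polynomial.aeval_X _
  have hcoef : ∀ γ : B →ₐ[A] K, (pr γ z : KX).coeff (j : ℕ) = γ (e j) := by
    intro γ
    have hp : pr γ z = ∑ i : Fin n, (Polynomial.X : KX) ^ (i : ℕ) * Polynomial.C (γ (e i)) := by
      simp only [z, map_sum, pr, Algebra.TensorProduct.lift_tmul, map_pow, Algebra.ofId_apply, hm]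
      rfl
    rw [hp, Polynomial.finsetSum_coeff]
    simp [Polynomial.coeff_X_pow, Fin.val_inj]
  have := congr_arg (fun p : KX => p.coeff (j : ℕ)) hl
  rw [← hcoef (β l), ← hcoef β']
  exact (Polynomial.coeff_sub _ _ _).symm.trans (this.trans (Polynomial.coeff_zero _))

/-- The `K`-points of the image of a law are among the points of the law. -/
theorem exists_point_eq {K : Type u} [Field K] [Algebra A K] {β : Fin d → (B →ₐ[A] K)}
    (hβ : ∀ (S : Type u) [CommRing S] [Algebra A S] (i : K →ₐ[A] S) (x : S ⊗[A] B),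
      ev F (i.comp (Algebra.ofId A K)) x = ∏ l, evMap (i.comp (β l)) x)
    (β' : B →ₐ[A] K) (hβ' : ∀ b ∈ PolLaw.ker F.law, β' b = 0) : ∃ l, β l = β' := by
  by_contra hne
  push Not at hne
  choose e he using fun l => (DFunLike.ne_iff.mp (hne l))
  let Ψ : Polynomial A ⊗[A] B →+* Polynomial K :=
    (evMap ((IsScalarTower.toAlgHom A K (Polynomial K)).comp β')).toRingHom.comp
      (Algebra.TensorProduct.map (Polynomial.aeval (Polynomial.X : Polynomial K) :
        Polynomial A →ₐ[A] Polynomial K) (AlgHom.id A B)).toRingHom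
  have hle : (PolLaw.ker F.law).map (Algebra.TensorProduct.includeRight : B →ₐ[A] Polynomial A ⊗[A] B) ≤
      RingHom.ker Ψ := by
    rw [Ideal.map_le_iff_le_comap]
    intro b hb
    simp [Ψ, hβ' b hb]
  obtain ⟨l, hl⟩ := exists_point_agree F hβ β' e (hle (genVal_mem F e))
  exact he l (hl l)

end PolyBase

end ZeroCyc
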