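import Groth.Agent.ZeroCyc.Norm
import Mathlib.RingTheory.Flat.EquationalCriterion
import Mathlib.LinearAlgebra.TensorProduct.Vanishing
import Mathlib.LinearAlgebra.Multilinear.Curry

/-!
# Symmetric tensors of flat algebras

* `ZeroCyc.exists_factor`: finitely many tensors killed in a tensor power of a flat module are killed
  in the tensor power of a finite free module mapping to it.
* `ZeroCyc.isGammaD_tau`: `TS^d(B)` is `Γ^d(B)` when `B` is flat or `d!` is invertible.
* `ZeroCyc.flat_TS`: `TS^d(B)` is flat when `B` is.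
-/

universe u

open scoped TensorProduct

noncomputable section

namespace ZeroCyc

variable {A : Type u} [CommRing A]

section Factor

variable {M : Type u} [AddCommGroup M] [Module A M]

theorem exists_factor_one [Module.Flat A M] {N : Type u} [AddCommGroup N] [Module A N] {n : ℕ}
    (g : (Fin n → A) →ₗ[A] M) (u : N ⊗[A] (Fin n → A)) (hu : g.lTensor N u = 0) :
    ∃ (m : ℕ) (a : (Fin n → A) →ₗ[A] (Fin m → A)) (g' : (Fin m → A) →ₗ[A] M),
      g' ∘ₗ a = g ∧ a.lTensor N u = 0 := by
  classical
  obtain ⟨c, hc⟩ := TensorProduct.eq_repr_basis_right (M := N) (Pi.basisFun A (Fin n)) u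
  rw [Finsupp.sum_fintype _ _ fun _ => by simp] at hc
  subst hc
  rw [map_sum] at hu
  simp only [LinearMap.lTensor_tmul] at hu
  obtain ⟨k, a, y, h₁, h₂⟩ :=
    TensorProduct.vanishesTrivially_of_sum_tmul_eq_zero_of_rTensor_injective A
      (Module.Flat.rTensor_preserves_injective_linearMap _ Subtype.val_injective) hu
  refine ⟨k, (Pi.basisFun A (Fin n)).constr A a, (Pi.basisFun A (Fin k)).constr A y,
    (Pi.basisFun A (Fin n)).ext fun i => ?_, ?_⟩
  · rw [LinearMap.comp_apply, Module.Basis.constr_basis, Module.Basis.constr_apply_fintype]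
    simpa using (h₁ i).symm
  · rw [map_sum]
    simp only [LinearMap.lTensor_tmul, Module.Basis.constr_basis]
    have ha : ∀ i, a i = ∑ j, a i j • (Pi.basisFun A (Fin k)) j := fun i => by
      conv_lhs => rw [← (Pi.basisFun A (Fin k)).sum_repr (a i)]
      simp
    calc ∑ i, c i ⊗ₜ[A] a i = ∑ i, c i ⊗ₜ[A] ∑ j, a i j • (Pi.basisFun A (Fin k)) j := by
          simp only [← ha]
      _ = ∑ j, (∑ i, a i j • c i) ⊗ₜ[A] (Pi.basisFun A (Fin k)) j := by
          simp only [TensorProduct.tmul_sum, TensorProduct.sum_tmul, TensorProduct.smul_tmul]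
          rw [Finset.sum_comm]
      _ = 0 := by simp [h₂]

variable (A) in
/-- Adjoining a factor on the left. -/
def consMap (L : Type u) [AddCommGroup L] [Module A L] (d : ℕ) :
    L ⊗[A] (⨂[A] _ : Fin d, L) →ₗ[A] ⨂[A] _ : Fin (d + 1), L :=
  TensorProduct.lift (PiTensorProduct.lift.toLinearMap ∘ₗ
    (PiTensorProduct.tprod A : MultilinearMap A (fun _ : Fin (d + 1) => L) _).curryLeft)

theorem consMap_tprod {L : Type u} [AddCommGroup L] [Module A L] {d : ℕ} (x : L) (f : Fin d → L) :
    consMap A L d (x ⊗ₜ[A] PiTensorProduct.tprod A f) =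
      PiTensorProduct.tprod A (Fin.cons x f : Fin (d + 1) → L) := by
  simp [consMap]

theorem consMap_bijective (L : Type u) [AddCommGroup L] [Module A L] (d : ℕ) :
    Function.Bijective (consMap A L d) := by
  let inner : L →ₗ[A] MultilinearMap A (fun _ : Fin d => L) (L ⊗[A] (⨂[A] _ : Fin d, L)) :=
    { toFun := fun x => (TensorProduct.mk A L _ x).compMultilinearMap (PiTensorProduct.tprod A)
      map_add' := fun x y => by ext f; simp
      map_smul' := fun r x => by ext f; simp }
  let g : MultilinearMap A (fun _ : Fin (d + 1) => L) (L ⊗[A] (⨂[A] _ : Fin d, L)) := inner.uncurryLeft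
  let inv := PiTensorProduct.lift g
  have h1 : inv ∘ₗ consMap A L d = LinearMap.id := by
    apply TensorProduct.ext'
    intro x t
    induction t using PiTensorProduct.induction_on with
    | smul_tprod r f =>
      simp [inv, g, inner, consMap_tprod]
    | add a b ha hb => simp only [TensorProduct.tmul_add, map_add, ha, hb]
  have h2 : consMap A L d ∘ₗ inv = LinearMap.id := by
    ext f
    simp [inv, g, inner, consMap_tprod, Fin.cons_self_tail]
  exact ⟨Function.LeftInverse.injective (LinearMap.congr_fun h1),
    Function.RightInverse.surjective (LinearMap.congr_fun h2)⟩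

theorem map_consMap {L L' : Type u} [AddCommGroup L] [Module A L] [AddCommGroup L'] [Module A L']
    (f : L →ₗ[A] L') (d : ℕ) :
    PiTensorProduct.map (fun _ : Fin (d + 1) => f) ∘ₗ consMap A L d =
      consMap A L' d ∘ₗ TensorProduct.map f (PiTensorProduct.map (fun _ : Fin d => f)) := by
  apply TensorProduct.ext'
  intro x t
  induction t using PiTensorProduct.induction_on with
  | smul_tprod r g =>
    simp only [LinearMap.comp_apply, TensorProduct.tmul_smul, map_smul, TensorProduct.map_tmul,
      consMap_tprod, PiTensorProduct.map_tprod]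
    congr 2
    funext i
    refine Fin.cases ?_ (fun j => ?_) i <;> simp
  | add a b ha hb => simp only [TensorProduct.tmul_add, map_add, ha, hb]

theorem exists_factor_single [Module.Flat A M] (d : ℕ) :
    ∀ {N : Type u} [AddCommGroup N] [Module A N] {n : ℕ} (g : (Fin n → A) →ₗ[A] M)
      (u : N ⊗[A] (⨂[A] _ : Fin d, (Fin n → A))),
      (PiTensorProduct.map fun _ : Fin d => g).lTensor N u = 0 →
        ∃ (m : ℕ) (a : (Fin n → A) →ₗ[A] (Fin m → A)) (g' : (Fin m → A) →ₗ[A] M),
          g' ∘ₗ a = g ∧ (PiTensorProduct.map fun _ : Fin d => a).lTensor N u = 0 := by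
  induction d with
  | zero =>
    intro N _ _ n g u hu
    have e : (PiTensorProduct.map fun _ : Fin 0 => g) =
        ((PiTensorProduct.isEmptyEquiv (R := A) (s := fun _ : Fin 0 => (Fin n → A)) (Fin 0)).trans
          (PiTensorProduct.isEmptyEquiv (R := A) (s := fun _ : Fin 0 => M) (Fin 0)).symm).toLinearMap := by
      ext f
      simp only [LinearMap.compMultilinearMap_apply, PiTensorProduct.map_tprod,
        LinearEquiv.coe_coe, LinearEquiv.trans_apply, PiTensorProduct.isEmptyEquiv_apply_tprod]
      rw [LinearEquiv.eq_symm_apply, PiTensorProduct.isEmptyEquiv_apply_tprod]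
    rw [e, ← LinearEquiv.coe_lTensor, LinearEquiv.coe_coe, LinearEquiv.map_eq_zero_iff] at hu
    exact ⟨n, LinearMap.id, g, LinearMap.comp_id g, by rw [hu, map_zero]⟩
  | succ d ih =>
    intro N _ _ n g u hu
    obtain ⟨u', hu'⟩ :=
      LinearMap.lTensor_surjective N (consMap_bijective (A := A) (Fin n → A) d).surjective u
    subst hu'
    obtain ⟨w, rfl⟩ := (TensorProduct.assoc A N (Fin n → A) (⨂[A] _ : Fin d, (Fin n → A))).surjective u'
    have hw : TensorProduct.map (g.lTensor N) (PiTensorProduct.map fun _ : Fin d => g) w = 0 := by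
      have hz : (TensorProduct.map g (PiTensorProduct.map fun _ : Fin d => g)).lTensor N
          (TensorProduct.assoc A N (Fin n → A) (⨂[A] _ : Fin d, (Fin n → A)) w) = 0 := by
        apply ((LinearEquiv.ofBijective _ (consMap_bijective (A := A) M d)).lTensor N).injective
        rw [map_zero]
        show (consMap A M d).lTensor N _ = 0
        rw [← LinearMap.comp_apply, ← LinearMap.lTensor_comp]
        rw [← LinearMap.comp_apply, ← LinearMap.lTensor_comp, map_consMap] at hu
        exact hu
      apply (TensorProduct.assoc A N M (⨂[A] _ : Fin d, M)).injective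
      rw [map_zero]
      refine Eq.trans ?_ hz
      clear hu hz
      induction w using TensorProduct.induction_on with
      | zero => simp
      | add a b ha hb => simp only [map_add, ha, hb]
      | tmul x t =>
        induction x using TensorProduct.induction_on with
        | zero => simp
        | add a b ha hb => simp only [TensorProduct.add_tmul, map_add, ha, hb]
        | tmul p q => simp
    have hw' : (PiTensorProduct.map fun _ : Fin d => g).lTensor (N ⊗[A] M)
        ((g.lTensor N).rTensor _ w) = 0 := by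
      rw [← LinearMap.comp_apply, LinearMap.lTensor_comp_rTensor]
      exact hw
    obtain ⟨m, a, g1, hga, ha⟩ := ih g _ hw'
    let z := TensorProduct.map (a.lTensor N) (PiTensorProduct.map fun _ : Fin d => a) w
    let ρ := TensorProduct.rightComm A N (Fin m → A) (⨂[A] _ : Fin d, (Fin m → A))
    have hz : g1.lTensor (N ⊗[A] (⨂[A] _ : Fin d, (Fin m → A))) (ρ z) = 0 := by
      have h1 : (g1.lTensor N).rTensor _ z = 0 := by
        rw [← ha, ← LinearMap.comp_apply, ← LinearMap.comp_apply, LinearMap.rTensor_comp_map,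
          LinearMap.lTensor_comp_rTensor, ← LinearMap.lTensor_comp, hga]
      have h2 : g1.lTensor (N ⊗[A] (⨂[A] _ : Fin d, (Fin m → A))) (ρ z) =
          TensorProduct.rightComm A N M (⨂[A] _ : Fin d, (Fin m → A))
            ((g1.lTensor N).rTensor _ z) := by
        generalize z = z'
        induction z' using TensorProduct.induction_on with
        | zero => simp
        | add a b ha hb => simp only [map_add, ha, hb]
        | tmul x t =>
          induction x using TensorProduct.induction_on with
          | zero => simp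
          | add a b ha hb => simp only [TensorProduct.add_tmul, map_add, ha, hb]
          | tmul p q => simp [ρ]
      rw [h2, h1, map_zero]
    obtain ⟨k, a2, g2, hga2, ha2⟩ := exists_factor_one g1 _ hz
    refine ⟨k, a2 ∘ₗ a, g2, by rw [← LinearMap.comp_assoc, hga2, hga], ?_⟩
    have h3 : TensorProduct.map ((a2 ∘ₗ a).lTensor N)
        (PiTensorProduct.map fun _ : Fin d => a2 ∘ₗ a) w = 0 := by
      have h4 : TensorProduct.map ((a2 ∘ₗ a).lTensor N)
          (PiTensorProduct.map fun _ : Fin d => a2 ∘ₗ a) w =
          TensorProduct.map (a2.lTensor N) (PiTensorProduct.map fun _ : Fin d => a2) z := by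
        rw [LinearMap.lTensor_comp, PiTensorProduct.map_comp, TensorProduct.map_comp]
        rfl
      have h5 : (a2.lTensor N).rTensor _ z = 0 := by
        apply (TensorProduct.rightComm A N (Fin k → A) (⨂[A] _ : Fin d, (Fin m → A))).injective
        rw [map_zero, ← ha2]
        generalize z = z'
        induction z' using TensorProduct.induction_on with
        | zero => simp
        | add a b ha hb => simp only [map_add, ha, hb]
        | tmul x t =>
          induction x using TensorProduct.induction_on with
          | zero => simp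
          | add a b ha hb => simp only [TensorProduct.add_tmul, map_add, ha, hb]
          | tmul p q => simp [ρ]
      rw [h4, ← LinearMap.lTensor_comp_rTensor, LinearMap.comp_apply, h5, map_zero]
    rw [← LinearMap.comp_apply, ← LinearMap.lTensor_comp, map_consMap, LinearMap.lTensor_comp,
      LinearMap.comp_apply]
    refine Eq.trans ?_ (map_zero ((consMap A (Fin k → A) d).lTensor N))
    congr 1
    rw [← map_zero (TensorProduct.assoc A N (Fin k → A) (⨂[A] _ : Fin d, (Fin k → A))), ← h3]
    clear hu hw hw' ha h3 hz ha2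
    induction w using TensorProduct.induction_on with
    | zero => simp
    | add a b ha hb => simp only [map_add, ha, hb]
    | tmul x t =>
      induction x using TensorProduct.induction_on with
      | zero => simp
      | add a b ha hb => simp only [TensorProduct.add_tmul, map_add, ha, hb]
      | tmul p q => simp

theorem exists_factor [Module.Flat A M] {d n : ℕ} (g : (Fin n → A) →ₗ[A] M) {κ : Type*}
    (s : Finset κ) (u : κ → ⨂[A] _ : Fin d, (Fin n → A))
    (hu : ∀ i ∈ s, PiTensorProduct.map (fun _ : Fin d => g) (u i) = 0) :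
    ∃ (m : ℕ) (a : (Fin n → A) →ₗ[A] (Fin m → A)) (g' : (Fin m → A) →ₗ[A] M),
      g' ∘ₗ a = g ∧ ∀ i ∈ s, PiTensorProduct.map (fun _ : Fin d => a) (u i) = 0 := by
  classical
  induction s using Finset.induction_on with
  | empty => exact ⟨n, LinearMap.id, g, LinearMap.comp_id g, by simp⟩
  | insert i s hi ih =>
    obtain ⟨m, a, g', hga, ha⟩ := ih fun j hj => hu j (Finset.mem_insert_of_mem hj)
    have h0 : (PiTensorProduct.map fun _ : Fin d => g').lTensor A
        ((1 : A) ⊗ₜ[A] PiTensorProduct.map (fun _ : Fin d => a) (u i)) = 0 := by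
      rw [LinearMap.lTensor_tmul, ← LinearMap.comp_apply, ← PiTensorProduct.map_comp, hga,
        hu i (Finset.mem_insert_self i s), TensorProduct.tmul_zero]
    obtain ⟨k, a2, g2, hga2, ha2⟩ := exists_factor_single d g' _ h0
    refine ⟨k, a2 ∘ₗ a, g2, by rw [← LinearMap.comp_assoc, hga2, hga], fun j hj => ?_⟩
    rw [PiTensorProduct.map_comp, LinearMap.comp_apply]
    rcases Finset.mem_insert.mp hj with rfl | hj
    · have := congr_arg (TensorProduct.lid A _) ha2
      simpa using this
    · rw [ha j hj, map_zero]

end Factor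

variable {B C : Type u} [CommRing B] [Algebra A B] [CommRing C] [Algebra A C] {d : ℕ}

theorem permL_map_apply {M N : Type u} [AddCommGroup M] [Module A M] [AddCommGroup N] [Module A N]
    (f : M →ₗ[A] N) (σ : Equiv.Perm (Fin d)) (t : ⨂[A] _ : Fin d, M) :
    PiTensorProduct.map (fun _ : Fin d => f) (permL A M d σ t) =
      permL A N d σ (PiTensorProduct.map (fun _ : Fin d => f) t) :=
  LinearMap.congr_fun (permL_map f σ) t

theorem mem_TS_iff_permL {t : Tp A B d} : t ∈ SymTen.TS A B d ↔ ∀ σ, permL A B d σ t = t :=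
  SymTen.mem_TS_iff A B d t

/-- The composite with a law only depends on the composite with the presentation map. -/
theorem powLift_map_congr (F : PolLaw.MulLaw A B C d) {n : ℕ}
    (h h' : (Fin n → A) →ₗ[A] Pres A B)
    (hh : (presMap A B).toLinearMap ∘ₗ h = (presMap A B).toLinearMap ∘ₗ h')
    (u : ⨂[A] _ : Fin d, (Fin n → A)) (hu : ∀ σ, permL A (Fin n → A) d σ u = u) :
    powLift (MvPolynomial.basisMonomials B A) (F.precomp (presMap A B))
        (PiTensorProduct.map (fun _ : Fin d => h) u) =
      powLift (MvPolynomial.basisMonomials B A) (F.precomp (presMap A B))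
        (PiTensorProduct.map (fun _ : Fin d => h') u) := by
  classical
  let b := (Pi.basisFun A (Fin n)).reindex (Equiv.ulift.{u}.symm)
  let G := F.precomp (presMap A B)
  let pl := powLift (MvPolynomial.basisMonomials B A) G
  suffices hW : u ∈ LinearMap.ker (pl ∘ₗ PiTensorProduct.map (fun _ : Fin d => h) -
      pl ∘ₗ PiTensorProduct.map (fun _ : Fin d => h')) by
    simpa [sub_eq_zero] using hW
  refine mem_of_invariant b ∅ _ (fun s c0 _ => ?_) u fun σ _ => hu σ
  have key : ∀ (f : (Fin n → A) →ₗ[A] Pres A B),
      pl (PiTensorProduct.map (fun _ : Fin d => f)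
        (orbSum b (fun l => if l ∈ (∅ : Finset (Fin d)) then {c0 l} else s) (wt c0))) =
      cf (MvPolynomial.lcoeff A (wt c0)) (F.law.toFun' _
        (∑ i ∈ s, MvPolynomial.X i ⊗ₜ[A] ((presMap A B).toLinearMap ∘ₗ f) (b i))) := by
    intro f
    have h1 : PiTensorProduct.map (fun _ : Fin d => f)
        (orbSum b (fun l => if l ∈ (∅ : Finset (Fin d)) then {c0 l} else s) (wt c0)) =
        cf (MvPolynomial.lcoeff A (wt c0))
          (∏ l : Fin d, lT (slot l) _ (∑ i ∈ s, MvPolynomial.X i ⊗ₜ[A] f (b i))) := by
      rw [cf_prod_slot_X (fun _ => s)]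
      simp [orbSum, map_sum, PiTensorProduct.map_tprod]
    rw [h1, ← cf_lTensor, powLift_diag]
    show cf _ (F.law.toFun' _ ((presMap A B).toLinearMap.lTensor _ _)) = _
    simp [map_sum]
  rw [LinearMap.mem_ker, LinearMap.sub_apply, LinearMap.comp_apply, LinearMap.comp_apply,
    key h, key h', hh, sub_self]

theorem exists_finite_support {κ : Type u} (b : Module.Basis κ A B) {ι : Type*} (s : Finset ι)
    (u : ι → Tp A B d) :
    ∃ (n : ℕ) (h : (Fin n → A) →ₗ[A] B) (r : B →ₗ[A] (Fin n → A)),
      ∀ i ∈ s, PiTensorProduct.map (fun _ : Fin d => h)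
        (PiTensorProduct.map (fun _ : Fin d => r) (u i)) = u i := by
  classical
  let T : Finset κ := s.biUnion fun i => ((powBasis b).repr (u i)).support.biUnion
    fun c => Finset.univ.image c
  let e := T.equivFin
  let h : (Fin T.card → A) →ₗ[A] B := (Pi.basisFun A _).constr A fun k => b (e.symm k)
  let r : B →ₗ[A] (Fin T.card → A) :=
    b.constr A fun k => if hk : k ∈ T then Pi.single (e ⟨k, hk⟩) 1 else 0
  refine ⟨T.card, h, r, fun i hi => ?_⟩
  conv_rhs => rw [← (powBasis b).linearCombination_repr (u i), Finsupp.linearCombination_apply]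
  conv_lhs => rw [← (powBasis b).linearCombination_repr (u i), Finsupp.linearCombination_apply]
  simp only [Finsupp.sum, map_sum, map_smul, powBasis_apply, PiTensorProduct.map_tprod]
  refine Finset.sum_congr rfl fun c hc => ?_
  congr 2
  funext l
  have hl : c l ∈ T := Finset.mem_biUnion.mpr ⟨i, hi, Finset.mem_biUnion.mpr
    ⟨c, hc, Finset.mem_image_of_mem _ (Finset.mem_univ l)⟩⟩
  simp only [r, Module.Basis.constr_basis, dif_pos hl]
  rw [← Pi.basisFun_apply]
  simp only [h, Module.Basis.constr_basis, Equiv.symm_apply_apply]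

theorem exists_lift_linear {n : ℕ} (g : (Fin n → A) →ₗ[A] B) :
    ∃ g' : (Fin n → A) →ₗ[A] Pres A B, (presMap A B).toLinearMap ∘ₗ g' = g :=
  ⟨(Pi.basisFun A (Fin n)).constr A fun k =>
      Function.surjInv presMap_surjective (g (Pi.basisFun A (Fin n) k)),
    (Pi.basisFun A (Fin n)).ext fun k => by
      simp [Function.surjInv_eq (presMap_surjective (A := A) (B := B))]⟩

theorem tmap_map {n : ℕ} (h : (Fin n → A) →ₗ[A] Pres A B) (u : ⨂[A] _ : Fin d, (Fin n → A)) :
    SymTen.tmap A d (presMap A B) (PiTensorProduct.map (fun _ : Fin d => h) u) =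
      PiTensorProduct.map (fun _ : Fin d => (presMap A B).toLinearMap ∘ₗ h) u := by
  rw [tmap_eq_map, PiTensorProduct.map_comp, LinearMap.comp_apply]

theorem TSmap_surjective_of_flat [Module.Flat A B] :
    Function.Surjective (SymTen.TSmap A d (presMap A B)) := by
  classical
  rintro ⟨t, ht⟩
  obtain ⟨u, rfl⟩ := tmap_surjective (d := d) (presMap_surjective (A := A) (B := B)) t
  obtain ⟨n, h, r, hhr⟩ := exists_finite_support (MvPolynomial.basisMonomials B A) {()} fun _ => u
  have hu := hhr () (Finset.mem_singleton_self _)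
  let u1 := PiTensorProduct.map (fun _ : Fin d => r) u
  let g := (presMap A B).toLinearMap ∘ₗ h
  obtain ⟨m, a, g', hga, ha⟩ := exists_factor g (Finset.univ : Finset (Equiv.Perm (Fin d)))
    (fun σ => permL A _ d σ u1 - u1) (fun σ _ => by
      rw [map_sub, permL_map_apply, ← tmap_map h u1, hu]
      rw [(mem_TS_iff_permL.mp ht) σ, sub_self])
  obtain ⟨g'', hg''⟩ := exists_lift_linear g'
  let w := PiTensorProduct.map (fun _ : Fin d => g'') (PiTensorProduct.map (fun _ : Fin d => a) u1)
  have hw : w ∈ SymTen.TS A (Pres A B) d := by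
    rw [mem_TS_iff_permL]
    intro σ
    have hs := ha σ (Finset.mem_univ σ)
    rw [map_sub, sub_eq_zero] at hs
    simp only [w]
    rw [← permL_map_apply, ← permL_map_apply, hs]
  refine ⟨⟨w, hw⟩, Subtype.ext ?_⟩
  show SymTen.tmap A d (presMap A B) w = SymTen.tmap A d (presMap A B) u
  rw [tmap_map, hg'', ← LinearMap.comp_apply, ← PiTensorProduct.map_comp, hga, ← tmap_map h u1, hu]

theorem presLift_eq_zero_of_flat [Module.Flat A B] (F : PolLaw.MulLaw A B C d)
    {u : SymTen.TS A (Pres A B) d} (hu : SymTen.TSmap A d (presMap A B) u = 0) :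
    presLift F u = 0 := by
  classical
  obtain ⟨n, h, r, hhr⟩ :=
    exists_finite_support (MvPolynomial.basisMonomials B A) {()} fun _ => (u : Tp A (Pres A B) d)
  have hu1 := hhr () (Finset.mem_singleton_self _)
  let u1 := PiTensorProduct.map (fun _ : Fin d => r) (u : Tp A (Pres A B) d)
  have hu0 : SymTen.tmap A d (presMap A B) (u : Tp A (Pres A B) d) = 0 := congr_arg Subtype.val hu
  obtain ⟨m, a, g', hga, ha⟩ := exists_factor ((presMap A B).toLinearMap ∘ₗ h) {()}
    (fun _ => u1) (fun _ _ => by rw [← tmap_map h u1, hu1, hu0])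
  obtain ⟨g'', hg''⟩ := exists_lift_linear g'
  have hs : ∀ σ, permL A _ d σ u1 = u1 := fun σ => by
    simp only [u1]
    rw [← permL_map_apply, (mem_TS_iff_permL.mp u.2) σ]
  show powLift _ (F.precomp (presMap A B)) (u : Tp A (Pres A B) d) = 0
  rw [← hu1, powLift_map_congr F h (g'' ∘ₗ a) (by rw [← LinearMap.comp_assoc, hg'', hga]) u1 hs,
    PiTensorProduct.map_comp, LinearMap.comp_apply, ha () (Finset.mem_singleton_self _), map_zero,
    map_zero]

theorem TSmap_surjective_of_isUnit (h : IsUnit ((d.factorial : ℕ) : A)) :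
    Function.Surjective (SymTen.TSmap A d (presMap A B)) := by
  rintro ⟨t, ht⟩
  obtain ⟨u, rfl⟩ := tmap_surjective (d := d) (presMap_surjective (A := A) (B := B)) t
  let v := ∑ σ : Equiv.Perm (Fin d), SymTen.perm A (Pres A B) d σ u
  have hv : v ∈ SymTen.TS A (Pres A B) d := mem_TS_of_perm fun τ => by
    rw [map_sum]
    exact Fintype.sum_equiv (Equiv.mulLeft τ) _ _ fun σ => AlgHom.congr_fun (perm_comp_perm τ σ) u
  refine ⟨(↑h.unit⁻¹ : A) • ⟨v, hv⟩, Subtype.ext ?_⟩
  show SymTen.tmap A d (presMap A B) ((↑h.unit⁻¹ : A) • v) = SymTen.tmap A d (presMap A B) u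
  simp only [v, map_smul, map_sum, perm_tmap, perm_eq_of_mem_TS ht]
  rw [Finset.sum_const, Finset.card_univ, Fintype.card_perm, Fintype.card_fin, ← Nat.cast_smul_eq_nsmul A,
    smul_smul, IsUnit.val_inv_mul, one_smul]

theorem presLift_eq_zero_of_isUnit (h : IsUnit ((d.factorial : ℕ) : A)) (F : PolLaw.MulLaw A B C d)
    {u : SymTen.TS A (Pres A B) d} (hu : SymTen.TSmap A d (presMap A B) u = 0) :
    presLift F u = 0 := by
  have hu0 : SymTen.tmap A d (presMap A B) (u : Tp A (Pres A B) d) = 0 := congr_arg Subtype.val hu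
  have key := normLaw_spec F (Polynomial A)
    (lT (SymTen.TS A (Pres A B) d).val _ (1 + (Polynomial.X : Polynomial A) ⊗ₜ[A] u))
  rw [permTS_val, map_pow, map_add, map_add, map_one, map_one, lT_tmul, lT_tmul, Subalgebra.coe_val,
    hu0, TensorProduct.tmul_zero, add_zero, ((normLaw F).mult (Polynomial A)).1, map_add, map_one,
    lT_tmul] at key
  have := congr_arg (cf (Polynomial.lcoeff A 1)) key
  rw [cf_one_add_pow, Algebra.TensorProduct.one_def, cf_tmul] at this
  simp only [Polynomial.lcoeff_apply, Polynomial.coeff_one, one_ne_zero, if_false, zero_smul] at this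
  rw [← Nat.cast_smul_eq_nsmul A] at this
  exact h.smul_eq_zero.mp this.symm

theorem isGammaD_tau_of_surjective (hs : Function.Surjective (SymTen.TSmap A d (presMap A B)))
    (hk : ∀ (C : Type u) [CommRing C] [Algebra A C] (F : PolLaw.MulLaw A B C d)
      (u : SymTen.TS A (Pres A B) d), SymTen.TSmap A d (presMap A B) u = 0 → presLift F u = 0) :
    PolLaw.IsGammaD (tau A B d) := by
  intro C' _ _ F
  have hle : RingHom.ker (SymTen.TSmap A d (presMap A B)).toRingHom ≤
      RingHom.ker (presLift F).toRingHom :=
    fun u hu => hk C' F u hu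
  let f := AlgHom.liftOfSurjective (SymTen.TSmap A d (presMap A B)) hs (presLift F) hle
  have hf : f.comp (SymTen.TSmap A d (presMap A B)) = presLift F :=
    AlgHom.liftOfSurjective_comp _ hs _ hle
  refine ⟨f, ?_, fun g hg => ?_⟩
  · refine law_ext fun R _ _ _ x => ?_
    obtain ⟨y, rfl⟩ := lT_surjective (presMap_surjective (A := A) (B := B)) R x
    have e := congr_arg (fun G : PolLaw.MulLaw A (Pres A B) C' d => G.law.toFun' R y) (presLift_tau F)
    have e' : lT (presLift F) R ((tau A (Pres A B) d).law.toFun' R y) =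
        F.law.toFun' R (lT (presMap A B) R y) := by
      rw [lT_eq, lT_eq]; exact e
    have e2 := congr_arg (fun G : PolLaw.MulLaw A (Pres A B) (SymTen.TS A B d) d => G.law.toFun' R y)
      (tau_natural (d := d) (presMap A B))
    have e2' : lT (SymTen.TSmap A d (presMap A B)) R ((tau A (Pres A B) d).law.toFun' R y) =
        (tau A B d).law.toFun' R (lT (presMap A B) R y) := by
      rw [lT_eq, lT_eq]; exact e2
    show f.toLinearMap.lTensor R ((tau A B d).law.toFun' R (lT (presMap A B) R y)) = _
    rw [← e2', ← lT_eq, lT_comp, hf, e']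
  · apply AlgHom.ext
    intro t
    obtain ⟨u, rfl⟩ := hs t
    have : g.comp (SymTen.TSmap A d (presMap A B)) = presLift F := by
      refine algHom_ext_of_coefSub (coefSub_tau_of_basis (MvPolynomial.basisMonomials B A)) ?_
      rw [presLift_tau]
      refine mulLaw_ext_free fun R _ _ _ y => ?_
      have e2 := congr_arg (fun G : PolLaw.MulLaw A (Pres A B) (SymTen.TS A B d) d => G.law.toFun' R y)
        (tau_natural (d := d) (presMap A B))
      have e3 := congr_arg (fun G : PolynomialLaw A B C' => G.toFun' R ((presMap A B).toLinearMap.lTensor R y)) hg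
      refine Eq.trans ?_ e3
      show (g.comp (SymTen.TSmap A d (presMap A B))).toLinearMap.lTensor R _ = g.toLinearMap.lTensor R _
      rw [AlgHom.comp_toLinearMap, LinearMap.lTensor_comp, LinearMap.comp_apply]
      congr 1
    exact (AlgHom.congr_fun this u).trans (AlgHom.congr_fun hf u).symm

theorem isGammaD_tau (h : Module.Flat A B ∨ IsUnit ((d.factorial : ℕ) : A)) :
    PolLaw.IsGammaD (tau A B d) := by
  rcases h with h | h
  · exact isGammaD_tau_of_surjective TSmap_surjective_of_flat
      fun C _ _ F u hu => presLift_eq_zero_of_flat F hu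
  · exact isGammaD_tau_of_surjective (TSmap_surjective_of_isUnit h)
      fun C _ _ F u hu => presLift_eq_zero_of_isUnit h F hu

theorem flat_TS_of_basis {κ : Type u} (b : Module.Basis κ A B) :
    Module.Flat A (SymTen.TS A B d) := by
  have : Module.Free A (Tp A B d) := Module.Free.of_basis (powBasis b)
  have hid : freeLift b (tau A B d) = AlgHom.id A (SymTen.TS A B d) := by
    refine algHom_ext_of_coefSub (coefSub_tau_of_basis b) ?_
    rw [freeLift_tau]
    refine mulLaw_ext_free fun R _ _ _ x => ?_
    show _ = (AlgHom.id A _).toLinearMap.lTensor R _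
    simp
  exact Module.Flat.of_retract (SymTen.TS A B d).val.toLinearMap (powLift b (tau A B d))
    (LinearMap.ext fun t => AlgHom.congr_fun hid t)

theorem flat_TS [Module.Flat A B] : Module.Flat A (SymTen.TS A B d) := by
  classical
  have := flat_TS_of_basis (d := d) (MvPolynomial.basisMonomials B A)
  rw [Module.Flat.iff_forall_isTrivialRelation]
  intro l f x hfx
  choose w hw using fun i => TSmap_surjective_of_flat (A := A) (B := B) (d := d) (x i)
  let W : Option (Fin l) → Tp A (Pres A B) d := fun o => o.elim (∑ i, f i • (w i : Tp A (Pres A B) d))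
    fun i => (w i : Tp A (Pres A B) d)
  obtain ⟨n, h, r, hhr⟩ := exists_finite_support (MvPolynomial.basisMonomials B A) Finset.univ W
  let u1 := PiTensorProduct.map (fun _ : Fin d => r) (W none)
  have hz : SymTen.tmap A d (presMap A B) (W none) = 0 := by
    simp only [W, Option.elim_none, map_sum, map_smul]
    have := congr_arg Subtype.val hfx
    simp only [← hw] at this
    rw [AddSubmonoidClass.coe_finsetSum] at this
    exact this
  obtain ⟨m, a, g', hga, ha⟩ := exists_factor ((presMap A B).toLinearMap ∘ₗ h) {()} (fun _ => u1)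
    (fun _ _ => by rw [← tmap_map h u1, hhr none (Finset.mem_univ _), hz])
  obtain ⟨g'', hg''⟩ := exists_lift_linear g'
  let k : Pres A B →ₗ[A] Pres A B := (g'' ∘ₗ a) ∘ₗ r
  have hk : ∀ i, PiTensorProduct.map (fun _ : Fin d => k) (W (some i)) ∈ SymTen.TS A (Pres A B) d := by
    intro i
    rw [mem_TS_iff_permL]
    intro σ
    rw [← permL_map_apply]
    exact congr_arg _ (mem_TS_iff_permL.mp (w i).2 σ)
  let w' : Fin l → SymTen.TS A (Pres A B) d := fun i => ⟨_, hk i⟩
  have hrel : ∑ i, f i • w' i = 0 := by
    apply Subtype.ext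
    simp only [w', AddSubmonoidClass.coe_finsetSum, SetLike.val_smul, ZeroMemClass.coe_zero]
    rw [← map_zero (PiTensorProduct.map (fun _ : Fin d => g'')), ← ha () (Finset.mem_singleton_self _)]
    simp only [u1, ← LinearMap.comp_apply, ← PiTensorProduct.map_comp]
    simp [W, k, LinearMap.comp_assoc, map_sum, map_smul]
  have hx : ∀ i, SymTen.TSmap A d (presMap A B) (w' i) = x i := by
    intro i
    rw [← hw i]
    apply Subtype.ext
    show SymTen.tmap A d (presMap A B) (PiTensorProduct.map (fun _ : Fin d => k) (W (some i))) =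
      SymTen.tmap A d (presMap A B) (w i : Tp A (Pres A B) d)
    conv_rhs => rw [show (w i : Tp A (Pres A B) d) = W (some i) from rfl,
      ← hhr (some i) (Finset.mem_univ _)]
    rw [tmap_map]
    simp only [k, tmap_eq_map, ← LinearMap.comp_apply, ← PiTensorProduct.map_comp]
    rw [← LinearMap.comp_assoc, ← LinearMap.comp_assoc, hg'', hga]
  obtain ⟨k', c, y, h1, h2⟩ := (Module.Flat.iff_forall_isTrivialRelation.mp inferInstance) hrel
  exact ⟨k', c, fun j => SymTen.TSmap A d (presMap A B) (y j),
    fun i => by rw [← hx i, h1 i, map_sum]; simp only [map_smul], h2⟩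

end ZeroCyc
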