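import Groth.Agent.ZeroCyc.Universal
import Mathlib.RingTheory.IntegralClosure.Algebra.Basic
import Mathlib.RingTheory.Finiteness.Basic

/-!
# Finiteness properties of the coefficient algebra
-/

universe u

open scoped TensorProduct

noncomputable section

namespace ZeroCyc

variable {A : Type u} [CommRing A] {B C : Type u} [CommRing B] [Algebra A B] [CommRing C]
  [Algebra A C] {d : ℕ}

/-- If finitely many elements span `B`, then finitely many elements span the coefficients. -/
theorem coefSub_fg [Module.Finite A B] (F : PolLaw.MulLaw A B C d) : (coefSub F).FG := by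
  classical
  obtain ⟨n, b, hb⟩ := Module.Finite.exists_fin (R := A) (M := B)
  let κ := ULift.{u} (Fin n)
  let gen : MvPolynomial κ A ⊗[A] B := ∑ j : κ, MvPolynomial.X j ⊗ₜ[A] b j.down
  let e := TensorProduct.equivFinsuppOfBasisLeft (N := C) (MvPolynomial.basisMonomials κ A)
  let c := e (F.law.toFun' _ gen)
  refine ⟨c.support.image c, le_antisymm (Submodule.span_le.mpr ?_) (Submodule.span_le.mpr ?_)⟩
  · intro x hx
    rw [Finset.coe_image] at hx
    obtain ⟨k, -, rfl⟩ := hx
    rw [SetLike.mem_coe]
    simp only [c, e, TensorProduct.equivFinsuppOfBasisLeft_apply]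
    exact cf_mem_coefSub F _ gen
  · rintro y ⟨R, _, _, _, φ, x, rfl⟩
    obtain ⟨r, hr⟩ : ∃ r : κ → R, x = ∑ j, r j ⊗ₜ[A] b j.down := by
      induction x using TensorProduct.induction_on with
      | zero => exact ⟨0, by simp⟩
      | tmul s m =>
        have hm : m ∈ Submodule.span A (Set.range b) := hb ▸ Submodule.mem_top
        obtain ⟨a, rfl⟩ := (Submodule.mem_span_range_iff_exists_fun A).mp hm
        refine ⟨fun j => a j.down • s, ?_⟩
        rw [TensorProduct.tmul_sum]
        exact Fintype.sum_equiv Equiv.ulift.symm _ _ fun i => by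
          simp [TensorProduct.smul_tmul]
      | add u v hu hv =>
        obtain ⟨p, rfl⟩ := hu
        obtain ⟨q, rfl⟩ := hv
        exact ⟨p + q, by simp [TensorProduct.add_tmul, Finset.sum_add_distrib]⟩
    let h : MvPolynomial κ A →ₐ[A] R := MvPolynomial.aeval r
    have hx : rT B h gen = x := by simp [hr, gen, h]
    rw [← hx, ← mulLaw_natural, rT_eq, cf_rTensor, SetLike.mem_coe]
    have hz : F.law.toFun' _ gen = e.symm c := (e.symm_apply_apply _).symm
    rw [hz]
    simp only [e, TensorProduct.equivFinsuppOfBasisLeft_symm_apply, Finsupp.sum, map_sum, cf_tmul]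
    refine Submodule.sum_mem _ fun k hk => Submodule.smul_mem _ _ (Submodule.subset_span ?_)
    rw [Finset.coe_image]
    exact ⟨k, hk, rfl⟩

theorem finite_of_coefSub [Module.Finite A B] {F : PolLaw.MulLaw A B C d} (hF : coefSub F = ⊤) :
    Module.Finite A C :=
  ⟨hF ▸ coefSub_fg F⟩

theorem isIntegral_of_coefSub [Algebra.IsIntegral A B] {F : PolLaw.MulLaw A B C d}
    (hF : coefSub F = ⊤) : Algebra.IsIntegral A C := by
  classical
  refine ⟨fun c => ?_⟩
  have hc : c ∈ coefSub F := hF ▸ Submodule.mem_top
  have hmem : coefSub F ≤ Subalgebra.toSubmodule (integralClosure A C) := by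
    rw [coefSub, Submodule.span_le]
    rintro y ⟨R, _, _, _, φ, x, rfl⟩
    obtain ⟨n, s, m, rfl⟩ := exists_fin_sum x
    let B0 := Algebra.adjoin A (Set.range m)
    have : Module.Finite A B0 := Module.Finite.iff_fg.mpr
      (fg_adjoin_of_finite (Set.finite_range m) fun x _ => Algebra.IsIntegral.isIntegral x)
    let F0 := F.precomp B0.val
    have hy : cf φ (F.law.toFun' R (∑ j, s j ⊗ₜ[A] m j)) ∈ coefSub F0 := by
      refine Submodule.subset_span ⟨R, inferInstance, inferInstance, inferInstance, φ,
        ∑ j, s j ⊗ₜ[A] (⟨m j, Algebra.subset_adjoin ⟨j, rfl⟩⟩ : B0), ?_⟩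
      show cf φ (F.law.toFun' R (B0.val.toLinearMap.lTensor R _)) = _
      simp
    have : Module.Finite A (coefAlg F0) := Module.Finite.iff_fg.mpr (coefSub_fg F0)
    exact (Algebra.IsIntegral.isIntegral (R := A)
      (⟨_, hy⟩ : coefAlg F0)).map (coefAlg F0).val
  exact hmem hc

end ZeroCyc
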