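import Groth.Agent.ZeroCyc.Universal
import Mathlib.Data.Fintype.Perm
import Mathlib.Data.Nat.Choose.Sum

/-!
# The norm law `T^d(B) → Γ^d(B)` of degree `d!`
-/

universe u

open scoped TensorProduct

noncomputable section

namespace ZeroCyc

variable {A : Type u} [CommRing A] {B C : Type u} [CommRing B] [Algebra A B] [CommRing C]
  [Algebra A C] {d : ℕ}

variable (A B d) in
/-- The family of the law `z ↦ ∏ σ z`. -/
def permFam : Fam A (Tp A B d) (Tp A B d) d.factorial where
  val _ _ _ g z := ∏ σ : Equiv.Perm (Fin d), evMap (g.comp (SymTen.perm A B d σ)) z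
  natural h g x := by
    rw [map_prod]
    exact Finset.prod_congr rfl fun σ _ => by rw [AlgHom.comp_assoc, evMap_natural]
  map_one g := by simp
  map_mul g x y := by simp [Finset.prod_mul_distrib]
  map_smul g s x := by
    simp only [evMap_smul, Finset.prod_mul_distrib, Finset.prod_const, Finset.card_univ,
      Fintype.card_perm, Fintype.card_fin]

variable (A B d) in
/-- The law `z ↦ ∏ σ z` on the tensor power. -/
def permLaw : PolLaw.MulLaw A (Tp A B d) (Tp A B d) d.factorial := (permFam A B d).toLaw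

theorem lT_comp {B' B'' : Type u} [CommRing B'] [Algebra A B'] [CommRing B''] [Algebra A B'']
    (f : B →ₐ[A] B') (g : B' →ₐ[A] B'') (S : Type u) [CommSemiring S] [Algebra A S]
    (x : S ⊗[A] B) : lT g S (lT f S x) = lT (g.comp f) S x := by
  induction x using TensorProduct.induction_on with
  | zero => simp
  | tmul s b => simp
  | add a b ha hb => simp only [map_add, ha, hb]

theorem lT_id (S : Type u) [CommSemiring S] [Algebra A S] (x : S ⊗[A] B) :
    lT (AlgHom.id A B) S x = x := by
  induction x using TensorProduct.induction_on with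
  | zero => simp
  | tmul s b => simp
  | add a b ha hb => simp only [map_add, ha, hb]

theorem permLaw_apply (S : Type u) [CommSemiring S] [Algebra A S] (z : S ⊗[A] Tp A B d) :
    (permLaw A B d).law.toFun' S z = ∏ σ, lT (SymTen.perm A B d σ) S z := by
  refine Eq.trans (b := ∏ σ : Equiv.Perm (Fin d), evMap
    ((Algebra.TensorProduct.includeRight : Tp A B d →ₐ[A] S ⊗[A] Tp A B d).comp
      (SymTen.perm A B d σ))
    (rT (Tp A B d) (Algebra.TensorProduct.includeLeft : S →ₐ[A] S ⊗[A] Tp A B d) z)) rfl ?_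
  refine Finset.prod_congr rfl fun σ _ => ?_
  induction z using TensorProduct.induction_on with
  | zero => simp
  | tmul s b => simp [Algebra.TensorProduct.tmul_mul_tmul]
  | add a b ha hb => simp only [map_add, ha, hb]

theorem perm_comp_perm (σ σ' : Equiv.Perm (Fin d)) :
    (SymTen.perm A B d σ).comp (SymTen.perm A B d σ') = SymTen.perm A B d (σ * σ') := by
  apply PiTensorProduct.algHom_ext
  intro l
  show ((SymTen.perm A B d σ).comp (SymTen.perm A B d σ')).comp (slot l) =
    (SymTen.perm A B d (σ * σ')).comp (slot l)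
  rw [AlgHom.comp_assoc, perm_slot, perm_slot, perm_slot]
  rfl

theorem permLaw_landsIn :
    LandsIn (SymTen.TS A B d).val.toLinearMap (permLaw A B d).law := by
  intro R _ _ _ z
  refine mem_range_TS fun τ => ?_
  rw [permLaw_apply, map_prod]
  refine Fintype.prod_equiv (Equiv.mulLeft τ) _ _ fun σ => ?_
  rw [Equiv.coe_mulLeft, ← perm_comp_perm]
  induction z using TensorProduct.induction_on with
  | zero => simp
  | tmul s b => simp
  | add a b ha hb => simp only [map_add, ha, hb]

variable (A B d) in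
/-- The law `z ↦ ∏ σ z` into symmetric tensors. -/
def permTS : PolLaw.MulLaw A (Tp A B d) (SymTen.TS A B d) d.factorial :=
  codLaw (i := (SymTen.TS A B d).val) Subtype.val_injective (permLaw A B d) permLaw_landsIn

theorem permTS_spec (S : Type u) [CommSemiring S] [Algebra A S] (z : S ⊗[A] Tp A B d) :
    lT (SymTen.TS A B d).val S ((permTS A B d).law.toFun' S z) =
      ∏ σ, lT (SymTen.perm A B d σ) S z := by
  rw [← permLaw_apply]
  exact codLaw_spec (i := (SymTen.TS A B d).val) Subtype.val_injective (permLaw A B d)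
    permLaw_landsIn S z

/-- `TS ⊗ B → T`, using the `l`-th slot. -/
def slotPair (l : Fin d) : SymTen.TS A B d ⊗[A] B →ₐ[A] Tp A B d :=
  Algebra.TensorProduct.lift (SymTen.TS A B d).val (slot l) fun _ _ => Commute.all _ _

theorem perm_slotPair (σ : Equiv.Perm (Fin d)) (l : Fin d) :
    (SymTen.perm A B d σ).comp (slotPair l) = slotPair (σ l) := by
  apply Algebra.TensorProduct.ext
  · ext t; simp [slotPair, perm_eq_of_mem_TS t.2]
  · ext b
    simp only [slotPair, AlgHom.comp_apply, AlgHom.restrictScalars_apply,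
      Algebra.TensorProduct.includeRight_apply, Algebra.TensorProduct.lift_tmul, map_one, one_mul]
    exact AlgHom.congr_fun (perm_slot σ l) b

theorem sup_le_slotPair_range (l : Fin d) :
    SymTen.TS A B d ⊔ (slot (A := A) (B := B) l).range ≤ (slotPair l).range := by
  refine sup_le ?_ ?_
  · intro t ht
    exact ⟨⟨t, ht⟩ ⊗ₜ[A] 1, by simp [slotPair]⟩
  · rintro _ ⟨b, rfl⟩
    exact ⟨1 ⊗ₜ[A] b, by simp [slotPair]⟩

theorem ev_diag {S : Type u} [CommRing S] [Algebra A S] (g : Tp A B d →ₐ[A] S) (x : S ⊗[A] B) :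
    ev (tau A B d) (g.comp (SymTen.TS A B d).val) x = ∏ l, evMap (g.comp (slot l)) x := by
  rw [← ev_postcomp, postcomp_tau]
  exact Fam.ev_toLaw _ g x

variable (A B) in
/-- `(R ⊗ TS) ⊗ B → R ⊗ T`, using the `l`-th slot. -/
def pairHom (R : Type u) [CommRing R] [Algebra A R] (l : Fin d) :
    (R ⊗[A] SymTen.TS A B d) ⊗[A] B →ₐ[A] R ⊗[A] Tp A B d :=
  (evMap ((Algebra.TensorProduct.includeRight : Tp A B d →ₐ[A] R ⊗[A] Tp A B d).comp (slot l))).comp
    (rT B ((lT (SymTen.TS A B d).val R).restrictScalars A))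

theorem pairHom_tmul (R : Type u) [CommRing R] [Algebra A R] (l : Fin d) (r : R)
    (t : SymTen.TS A B d) (b : B) :
    pairHom A B R l ((r ⊗ₜ[A] t) ⊗ₜ[A] b) = r ⊗ₜ[A] ((t : Tp A B d) * slot l b) := by
  simp [pairHom, Algebra.TensorProduct.tmul_mul_tmul]

theorem exists_pairHom_eq (R : Type u) [CommRing R] [Algebra A R] [Module.Free A R] (l : Fin d)
    {z : R ⊗[A] Tp A B d}
    (h : ∀ φ : R →ₗ[A] A, cf φ z ∈ SymTen.TS A B d ⊔ (slot (A := A) (B := B) l).range) :
    ∃ u, pairHom A B R l u = z := by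
  obtain ⟨w, rfl⟩ := mem_range_lTensor_of_cf
    (Subalgebra.toSubmodule (SymTen.TS A B d ⊔ (slot (A := A) (B := B) l).range)) h
  induction w using TensorProduct.induction_on with
  | zero => exact ⟨0, by simp⟩
  | add a b ha hb =>
    obtain ⟨u, hu⟩ := ha fun φ => cf_mem _ φ ⟨a, rfl⟩
    obtain ⟨v, hv⟩ := hb fun φ => cf_mem _ φ ⟨b, rfl⟩
    exact ⟨u + v, by rw [map_add, map_add, hu, hv]⟩
  | tmul r e =>
    obtain ⟨y, hy⟩ := sup_le_slotPair_range l e.2
    show ∃ u, pairHom A B R l u = r ⊗ₜ[A] (e : Tp A B d)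
    rw [← hy]
    clear hy h
    induction y using TensorProduct.induction_on with
    | zero => exact ⟨0, by simp⟩
    | add a b ha hb =>
      obtain ⟨u, hu⟩ := ha
      obtain ⟨v, hv⟩ := hb
      exact ⟨u + v, by simp only [map_add, TensorProduct.tmul_add, hu, hv]⟩
    | tmul t b => exact ⟨(r ⊗ₜ[A] t) ⊗ₜ[A] b, by simp [pairHom_tmul, slotPair]⟩

theorem lT_perm_pairHom (R : Type u) [CommRing R] [Algebra A R] (σ : Equiv.Perm (Fin d)) (l : Fin d)
    (u : (R ⊗[A] SymTen.TS A B d) ⊗[A] B) :
    lT (SymTen.perm A B d σ) R (pairHom A B R l u) = pairHom A B R (σ l) u := by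
  induction u using TensorProduct.induction_on with
  | zero => simp
  | add a b ha hb => simp only [map_add, ha, hb]
  | tmul x b =>
    induction x using TensorProduct.induction_on with
    | zero => simp
    | add a c ha hc => simp only [TensorProduct.add_tmul, map_add, ha, hc]
    | tmul r t =>
      rw [pairHom_tmul, pairHom_tmul, lT_tmul, map_mul, perm_eq_of_mem_TS t.2, ← AlgHom.comp_apply,
        perm_slot]

theorem val_ev_pair {R : Type u} [CommRing R] [Algebra A R]
    (u : (R ⊗[A] SymTen.TS A B d) ⊗[A] B) :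
    lT (SymTen.TS A B d).val R
        (ev (tau A B d)
          (Algebra.TensorProduct.includeRight : SymTen.TS A B d →ₐ[A] R ⊗[A] SymTen.TS A B d) u) =
      ∏ l : Fin d, pairHom A B R l u := by
  let ν : R ⊗[A] SymTen.TS A B d →ₐ[A] R ⊗[A] Tp A B d :=
    (lT (SymTen.TS A B d).val R).restrictScalars A
  show ν (ev _ _ _) = _
  rw [← ev_natural]
  have h1 : ν.comp (Algebra.TensorProduct.includeRight : SymTen.TS A B d →ₐ[A] _) =
      (Algebra.TensorProduct.includeRight : Tp A B d →ₐ[A] R ⊗[A] Tp A B d).comp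
        (SymTen.TS A B d).val := by
    ext t; simp [ν]
  rw [h1, ev_diag]
  rfl

set_option maxHeartbeats 400000 in
/-- The norm of `z + v·j^(i)` as the value of the diagonal law at an evaluation of one polynomial. -/
theorem exists_normPoly {κ : Type u} (b : Module.Basis κ A B) {R : Type u} [CommRing R]
    [Algebra A R] [Module.Free A R] (i : Fin d) (z v : R ⊗[A] Tp A B d) :
    ∃ Qt : Polynomial ((R ⊗[A] SymTen.TS A B d) ⊗[A] B), ∀ j : B,
      (permTS A B d).law.toFun' R (z + v * ((1 : R) ⊗ₜ[A] slot i j)) =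
          ev (tau A B d)
            (Algebra.TensorProduct.includeRight : SymTen.TS A B d →ₐ[A] R ⊗[A] SymTen.TS A B d)
            (Qt.eval ((1 : R ⊗[A] SymTen.TS A B d) ⊗ₜ[A] j)) ∧
        (permTS A B d).law.toFun' R z =
          ev (tau A B d)
            (Algebra.TensorProduct.includeRight : SymTen.TS A B d →ₐ[A] R ⊗[A] SymTen.TS A B d)
            (Qt.eval 0) := by
  classical
  let pσ : Equiv.Perm (Fin d) → R ⊗[A] Tp A B d →ₐ[R] R ⊗[A] Tp A B d := fun σ =>
    lT (SymTen.perm A B d σ) R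
  let Ωl : Fin d → (R ⊗[A] SymTen.TS A B d) ⊗[A] B →ₐ[A] R ⊗[A] Tp A B d := fun l => pairHom A B R l
  have pσ_mul : ∀ σ σ' y, pσ σ (pσ σ' y) = pσ (σ * σ') y := by
    intro σ σ' y
    simp only [pσ]
    rw [lT_comp, perm_comp_perm]
  have pσ_Ω : ∀ σ l y, pσ σ (Ωl l y) = Ωl (σ l) y := by
    intro σ l y
    exact lT_perm_pairHom R σ l y
  let Q : Polynomial (R ⊗[A] Tp A B d) :=
    ∏ σ ∈ Finset.univ.filter (fun σ : Equiv.Perm (Fin d) => σ i = i),
      (Polynomial.C (pσ σ z) + Polynomial.C (pσ σ v) * Polynomial.X)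
  have hQ : ∀ n, ∃ u, pairHom A B R i u = Q.coeff n := by
    intro n
    refine exists_pairHom_eq R i fun φ => ?_
    refine mem_sup_of_stab b i fun τ hτ => ?_
    have hmap : Q.map (pσ τ).toRingHom = Q := by
      rw [Polynomial.map_prod]
      refine Finset.prod_bij (fun σ _ => τ * σ) (fun σ hσ => ?_) (fun _ _ _ _ h => mul_left_cancel h)
        (fun σ hσ => ⟨τ⁻¹ * σ, ?_, by simp⟩) fun σ _ => ?_
      · simp only [Finset.mem_filter, Finset.mem_univ, true_and] at hσ ⊢
        simp [hσ, hτ]
      · simp only [Finset.mem_filter, Finset.mem_univ, true_and] at hσ ⊢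
        rw [Equiv.Perm.mul_apply, hσ]
        exact Equiv.Perm.inv_eq_iff_eq.mpr hτ.symm
      · simp [pσ_mul]
    conv_rhs => rw [← hmap]
    rw [Polynomial.coeff_map]
    show _ = cf φ (pσ τ (Q.coeff n))
    simp only [pσ]
    rw [lT_eq, cf_lTensor]
    rfl
  obtain ⟨Qt, hQt⟩ : ∃ Qt : Polynomial ((R ⊗[A] SymTen.TS A B d) ⊗[A] B), Qt.map (Ωl i).toRingHom = Q := by
    refine (Polynomial.mem_lifts Q).mp ((Polynomial.lifts_iff_coeff_lifts Q).mpr fun n => ?_)
    exact hQ n
  have hfib : ∀ (l : Fin d) (a : (R ⊗[A] SymTen.TS A B d) ⊗[A] B),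
      Ωl l (Qt.eval a) = ∏ σ ∈ Finset.univ.filter (fun σ : Equiv.Perm (Fin d) => σ i = l),
          (pσ σ z + pσ σ v * Ωl l a) := by
    intro l a
    have hl : Qt.map (Ωl l).toRingHom = Q.map (pσ (Equiv.swap i l)).toRingHom := by
      rw [← hQt, Polynomial.map_map]
      congr 1
      refine RingHom.ext fun y => ?_
      show Ωl l y = pσ (Equiv.swap i l) (Ωl i y)
      rw [pσ_Ω, Equiv.swap_apply_left]
    show (Ωl l).toRingHom (Qt.eval a) = _
    rw [← Polynomial.eval_map_apply, hl, Polynomial.map_prod, Polynomial.eval_prod]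
    refine Finset.prod_bij (fun σ _ => Equiv.swap i l * σ) (fun σ hσ => ?_)
      (fun _ _ _ _ h => mul_left_cancel h) (fun σ hσ => ⟨Equiv.swap i l * σ, ?_, by simp⟩) fun σ _ => ?_
    · simp only [Finset.mem_filter, Finset.mem_univ, true_and] at hσ ⊢
      simp [hσ]
    · simp only [Finset.mem_filter, Finset.mem_univ, true_and] at hσ ⊢
      simp [hσ]
    · simp [pσ_mul]
  refine ⟨Qt, fun j => ?_⟩
  have key : ∀ (a : (R ⊗[A] SymTen.TS A B d) ⊗[A] B) (y : R ⊗[A] Tp A B d),
      (∀ σ : Equiv.Perm (Fin d), pσ σ y = pσ σ z + pσ σ v * Ωl (σ i) a) →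
        (permTS A B d).law.toFun' R y =
          ev (tau A B d)
            (Algebra.TensorProduct.includeRight : SymTen.TS A B d →ₐ[A] R ⊗[A] SymTen.TS A B d)
            (Qt.eval a) := by
    intro a y hy
    apply lTensor_injective (i := (SymTen.TS A B d).val.toLinearMap) Subtype.val_injective (R := R)
    rw [← lT_eq (SymTen.TS A B d).val, ← lT_eq (SymTen.TS A B d).val, permTS_spec, val_ev_pair]
    show ∏ σ, pσ σ y = ∏ l, Ωl l (Qt.eval a)
    simp only [hfib]
    rw [← Finset.prod_fiberwise_of_maps_to (g := fun σ : Equiv.Perm (Fin d) => σ i)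
      (fun σ _ => Finset.mem_univ _)]
    refine Finset.prod_congr rfl fun l _ => Finset.prod_congr rfl fun σ hσ => ?_
    simp only [Finset.mem_filter, Finset.mem_univ, true_and] at hσ
    rw [← hσ]
    exact hy σ
  refine ⟨key _ _ fun σ => ?_, key 0 z fun σ => by simp⟩
  rw [map_add, map_mul]
  congr 2
  simp only [pσ, Ωl, lT_tmul, Algebra.TensorProduct.one_def, pairHom_tmul, OneMemClass.coe_one, one_mul]
  rw [← AlgHom.comp_apply, perm_slot]

section Presented

variable (γ : PolLaw.MulLaw A B C d)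

theorem congr_presLift (R : Type u) [CommRing R] [Algebra A R]
    (Qt : Polynomial ((R ⊗[A] SymTen.TS A (Pres A B) d) ⊗[A] Pres A B))
    (j : Pres A B) (hj : presMap A B j = 0) :
    lT (presLift γ) R (ev (tau A (Pres A B) d)
        (Algebra.TensorProduct.includeRight : SymTen.TS A (Pres A B) d →ₐ[A] _)
        (Qt.eval ((1 : R ⊗[A] SymTen.TS A (Pres A B) d) ⊗ₜ[A] j))) =
      lT (presLift γ) R (ev (tau A (Pres A B) d)
        (Algebra.TensorProduct.includeRight : SymTen.TS A (Pres A B) d →ₐ[A] _)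
        (Qt.eval 0)) := by
  let μ : R ⊗[A] SymTen.TS A (Pres A B) d →ₐ[A] R ⊗[A] C :=
    (lT (presLift γ) R).restrictScalars A
  show μ (ev _ _ _) = μ (ev _ _ _)
  rw [← ev_natural, ← ev_natural]
  have hμ : μ.comp (Algebra.TensorProduct.includeRight : SymTen.TS A (Pres A B) d →ₐ[A] _) =
      (Algebra.TensorProduct.includeRight : C →ₐ[A] R ⊗[A] C).comp (presLift γ) := by
    ext t; simp [μ]
  rw [hμ, presLift_ev, presLift_ev]
  congr 1
  let Λ : (R ⊗[A] SymTen.TS A (Pres A B) d) ⊗[A] Pres A B →+* (R ⊗[A] C) ⊗[A] B :=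
    RingHom.comp (lT (presMap A B) (R ⊗[A] C)).toRingHom (rT (Pres A B) μ).toRingHom
  show Λ (Qt.eval _) = Λ (Qt.eval 0)
  refine ((Polynomial.eval₂_hom (p := Qt) Λ _).symm.trans ?_).trans (Polynomial.eval₂_hom (p := Qt) Λ _)
  congr 1
  rw [map_zero]
  show lT (presMap A B) (R ⊗[A] C) (rT (Pres A B) μ ((1 : R ⊗[A] SymTen.TS A (Pres A B) d) ⊗ₜ[A] j)) = 0
  simp [hj]

/-- The norm law composed with the map to the target, on the presentation. -/
def presNorm : PolLaw.MulLaw A (Tp A (Pres A B) d) C d.factorial :=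
  (permTS A (Pres A B) d).postcomp (presLift γ)

theorem presNorm_apply (S : Type u) [CommSemiring S] [Algebra A S] (z : S ⊗[A] Tp A (Pres A B) d) :
    (presNorm γ).law.toFun' S z = lT (presLift γ) S ((permTS A (Pres A B) d).law.toFun' S z) := by
  rw [lT_eq]; rfl

theorem slot_mem_ker_presNorm (i : Fin d) (j : Pres A B) (hj : presMap A B j = 0) :
    slot i j ∈ PolLaw.ker (presNorm γ).law := by
  intro S _ _ x w
  obtain ⟨z, rfl⟩ := exists_lift_ring x
  obtain ⟨v, rfl⟩ := exists_lift_ring w
  have hone : (1 : S) ⊗ₜ[A] slot (A := A) i j =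
      rT _ (cover A S) ((1 : MvPolynomial S A) ⊗ₜ[A] slot (A := A) i j) := by
    rw [rT_tmul, map_one]
  rw [hone, ← map_mul, ← map_add, ← mulLaw_natural, ← mulLaw_natural]
  congr 1
  rw [presNorm_apply, presNorm_apply]
  obtain ⟨Qt, hQt⟩ := exists_normPoly (MvPolynomial.basisMonomials B A) i z v
  rw [(hQt j).1, (hQt j).2]
  exact congr_presLift γ (MvPolynomial S A) Qt j hj

theorem ker_tmap_le_presNorm {t : Tp A (Pres A B) d}
    (ht : SymTen.tmap A d (presMap A B) t = 0) : t ∈ PolLaw.ker (presNorm γ).law := by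
  classical
  have h := ker_map_le (presMap A B).toLinearMap presMap_surjective d
    (show PiTensorProduct.map (fun _ : Fin d => (presMap A B).toLinearMap) t = 0 by
      rw [← tmap_eq_map]; exact ht)
  clear ht
  induction h using Submodule.span_induction with
  | zero => exact zero_mem _
  | add a b _ _ ha hb => exact add_mem ha hb
  | smul a x _ hx =>
    rw [Algebra.smul_def]
    exact Ideal.mul_mem_left _ _ hx
  | mem y hy =>
    obtain ⟨c, ⟨i, hi⟩, rfl⟩ := hy
    rw [tprod_eq_prod, ← Finset.mul_prod_erase Finset.univ (fun l => slot l (c l)) (Finset.mem_univ i)]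
    exact Ideal.mul_mem_right _ _ (slot_mem_ker_presNorm γ i (c i) hi)

theorem tmap_surjective {B' : Type u} [CommRing B'] [Algebra A B'] {f : B →ₐ[A] B'}
    (hf : Function.Surjective f) : Function.Surjective (SymTen.tmap A d f) := by
  intro t
  induction t using PiTensorProduct.induction_on with
  | smul_tprod r g =>
    refine ⟨r • PiTensorProduct.tprod A fun i => Function.surjInv hf (g i), ?_⟩
    rw [map_smul, SymTen.tmap_tprod]
    simp [Function.surjInv_eq hf]
  | add x y hx hy =>
    obtain ⟨a, rfl⟩ := hx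
    obtain ⟨b, rfl⟩ := hy
    exact ⟨a + b, map_add _ _ _⟩

/-- The norm law of degree `d!` from the tensor power of `B` to the target of a law. -/
def normLaw : PolLaw.MulLaw A (Tp A B d) C d.factorial :=
  descLaw (π := SymTen.tmap A d (presMap A B)) (tmap_surjective presMap_surjective) (presNorm γ)
    fun _ ht => ker_tmap_le_presNorm γ ht

theorem normLaw_spec (S : Type u) [CommSemiring S] [Algebra A S] (z : S ⊗[A] Tp A (Pres A B) d) :
    (normLaw γ).law.toFun' S (lT (SymTen.tmap A d (presMap A B)) S z) =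
      lT (presLift γ) S ((permTS A (Pres A B) d).law.toFun' S z) :=
  (descLaw_spec (π := SymTen.tmap A d (presMap A B)) (tmap_surjective presMap_surjective)
    (presNorm γ) (fun _ ht => ker_tmap_le_presNorm γ ht) S z).trans (presNorm_apply γ S z)

end Presented

theorem perm_tmap {B' : Type u} [CommRing B'] [Algebra A B'] (f : B →ₐ[A] B')
    (σ : Equiv.Perm (Fin d)) (t : Tp A B d) :
    SymTen.tmap A d f (SymTen.perm A B d σ t) = SymTen.perm A B' d σ (SymTen.tmap A d f t) := by
  rw [SymTen.perm_apply, SymTen.perm_apply, SymTen.tmap_reindex]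

theorem normLaw_comp (γ : PolLaw.MulLaw A B C d) (φ : C →ₐ[A] SymTen.TS A B d)
    (hφ : γ.postcomp φ = tau A B d) (S : Type u) [CommSemiring S] [Algebra A S]
    (z : S ⊗[A] Tp A B d) :
    lT ((SymTen.TS A B d).val.comp φ) S ((normLaw γ).law.toFun' S z) =
      ∏ σ, lT (SymTen.perm A B d σ) S z := by
  obtain ⟨z, rfl⟩ := lT_surjective (tmap_surjective (d := d) (presMap_surjective (A := A) (B := B))) S z
  rw [normLaw_spec, lT_comp, AlgHom.comp_assoc, comp_presLift γ φ hφ]
  have : (SymTen.TS A B d).val.comp (SymTen.TSmap A d (presMap A B)) =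
      (SymTen.tmap A d (presMap A B)).comp (SymTen.TS A (Pres A B) d).val := by
    ext t; rfl
  rw [this, ← lT_comp, permTS_spec, map_prod]
  refine Finset.prod_congr rfl fun σ _ => ?_
  rw [lT_comp, lT_comp]
  congr 1
  congr 1
  exact AlgHom.ext fun t => perm_tmap (presMap A B) σ t

theorem lT_perm_val (σ : Equiv.Perm (Fin d)) (R : Type u) [CommSemiring R] [Algebra A R]
    (z : R ⊗[A] SymTen.TS A B d) :
    lT (SymTen.perm A B d σ) R (lT (SymTen.TS A B d).val R z) = lT (SymTen.TS A B d).val R z := by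
  rw [lT_comp]
  congr 2
  ext t
  exact perm_eq_of_mem_TS t.2 σ

theorem permTS_val (R : Type u) [CommRing R] [Algebra A R] [Module.Free A R]
    (z : R ⊗[A] SymTen.TS A B d) :
    (permTS A B d).law.toFun' R (lT (SymTen.TS A B d).val R z) = z ^ d.factorial := by
  apply lTensor_injective (i := (SymTen.TS A B d).val.toLinearMap) Subtype.val_injective (R := R)
  rw [← lT_eq, ← lT_eq, permTS_spec, map_pow]
  simp [lT_perm_val, Fintype.card_perm]

theorem normLaw_postcomp (γ : PolLaw.MulLaw A B C d) (φ : C →ₐ[A] SymTen.TS A B d)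
    (hφ : γ.postcomp φ = tau A B d) :
    ((normLaw γ).precomp (SymTen.TS A B d).val).postcomp φ =
      PolLaw.MulLaw.pow A (SymTen.TS A B d) d.factorial := by
  refine mulLaw_ext_free fun R _ _ _ z => ?_
  apply lTensor_injective (i := (SymTen.TS A B d).val.toLinearMap) Subtype.val_injective (R := R)
  show (SymTen.TS A B d).val.toLinearMap.lTensor R (φ.toLinearMap.lTensor R
    ((normLaw γ).law.toFun' R ((SymTen.TS A B d).val.toLinearMap.lTensor R z))) =
      (SymTen.TS A B d).val.toLinearMap.lTensor R (z ^ d.factorial)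
  rw [← lT_eq φ, ← lT_eq, ← lT_eq, ← lT_eq, lT_comp, normLaw_comp γ φ hφ, map_pow]
  simp [lT_perm_val, Fintype.card_perm]

theorem normLaw_precomp {γ : PolLaw.MulLaw A B C d} (hγ : coefSub γ = ⊤)
    (φ : C →ₐ[A] SymTen.TS A B d) (hφ : γ.postcomp φ = tau A B d) :
    ((normLaw γ).precomp (SymTen.TS A B d).val).precomp φ =
      PolLaw.MulLaw.pow A C d.factorial := by
  refine mulLaw_ext_free fun R _ _ _ z => ?_
  obtain ⟨u, rfl⟩ := lT_surjective (presLift_surjective hγ) R z
  show (normLaw γ).law.toFun' R ((SymTen.TS A B d).val.toLinearMap.lTensor R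
    (φ.toLinearMap.lTensor R (lT (presLift γ) R u))) = lT (presLift γ) R u ^ d.factorial
  rw [← lT_eq, ← lT_eq, lT_comp, lT_comp, AlgHom.comp_assoc, comp_presLift γ φ hφ]
  have : (SymTen.TS A B d).val.comp (SymTen.TSmap A d (presMap A B)) =
      (SymTen.tmap A d (presMap A B)).comp (SymTen.TS A (Pres A B) d).val := by
    ext t; rfl
  rw [this, ← lT_comp, normLaw_spec, permTS_val, map_pow]

/-- The linear term of a product of `1 + X ⊗ a`. -/
theorem cf_one_prod {κ : Type*} (s : Finset κ) (a : κ → C) :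
    cf (Polynomial.lcoeff A 0) (∏ i ∈ s, (1 + (Polynomial.X : Polynomial A) ⊗ₜ[A] a i)) = 1 ∧
    cf (Polynomial.lcoeff A 1) (∏ i ∈ s, (1 + (Polynomial.X : Polynomial A) ⊗ₜ[A] a i)) =
      ∑ i ∈ s, a i := by
  classical
  induction s using Finset.induction_on with
  | empty =>
    simp [Algebra.TensorProduct.one_def, Polynomial.coeff_one]
  | insert k s hk ih =>
    have h0 : ∀ (n : ℕ) (z : Polynomial A ⊗[A] C),
        cf (Polynomial.lcoeff A (n + 1)) ((Polynomial.X : Polynomial A) ⊗ₜ[A] a k * z) =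
          a k * cf (Polynomial.lcoeff A n) z := by
      intro n z
      induction z using TensorProduct.induction_on with
      | zero => simp
      | add x y hx hy => simp only [mul_add, map_add, hx, hy]
      | tmul p c => simp [Algebra.TensorProduct.tmul_mul_tmul]
    have h1 : ∀ z : Polynomial A ⊗[A] C,
        cf (Polynomial.lcoeff A 0) ((Polynomial.X : Polynomial A) ⊗ₜ[A] a k * z) = 0 := by
      intro z
      induction z using TensorProduct.induction_on with
      | zero => simp
      | add x y hx hy => simp only [mul_add, map_add, hx, hy, add_zero]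
      | tmul p c => simp [Algebra.TensorProduct.tmul_mul_tmul]
    rw [Finset.prod_insert hk, add_mul, one_mul, map_add, map_add, h1, h0 0, ih.1, ih.2,
      Finset.sum_insert hk]
    exact ⟨add_zero _, by rw [mul_one, add_comm]⟩

theorem cf_one_add_pow (x : C) (n : ℕ) :
    cf (Polynomial.lcoeff A 1) ((1 + (Polynomial.X : Polynomial A) ⊗ₜ[A] x) ^ n) = n • x := by
  have := (cf_one_prod (A := A) (Finset.range n) fun _ => x).2
  rwa [Finset.prod_const, Finset.sum_const, Finset.card_range] at this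

end ZeroCyc
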