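import Groth.Agent.ZeroCyc.Universal

/-!
# The top coefficient of `F(1 + U x)`
-/

universe u

open scoped TensorProduct

noncomputable section

namespace ZeroCyc

variable {A : Type u} [CommRing A] {B C : Type u} [CommRing B] [Algebra A B] [CommRing C]
  [Algebra A C] {d : ℕ}

/-- The functional reading off a coefficient of a polynomial. -/
def topFun {R : Type u} [CommRing R] [Algebra A R] (φ : R →ₗ[A] A) (n : ℕ) : Polynomial R →ₗ[A] A :=
  φ ∘ₗ (Polynomial.lcoeff R n).restrictScalars A

theorem cf_topFun_smul {R N : Type u} [CommRing R] [Algebra A R] [CommRing N] [Algebra A N]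
    (φ : R →ₗ[A] A) (n : ℕ) (z : Polynomial R ⊗[A] N) :
    cf (topFun φ n) ((Polynomial.X : Polynomial R) ^ (n + 1) • z) = 0 := by
  induction z using TensorProduct.induction_on with
  | zero => simp
  | add a b ha hb => simp only [smul_add, map_add, ha, hb, add_zero]
  | tmul p c =>
    rw [TensorProduct.smul_tmul', cf_tmul]
    simp [topFun, Polynomial.coeff_X_pow_mul']

theorem cf_top_one_add (F : PolLaw.MulLaw A B C d) {R : Type u} [CommRing R] [Algebra A R]
    (φ : R →ₗ[A] A) (x : R ⊗[A] B) :
    cf (topFun φ d) (F.law.toFun' (Polynomial R) (1 + (Polynomial.X : Polynomial R) •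
        rT B (IsScalarTower.toAlgHom A R (Polynomial R)) x)) = cf φ (F.law.toFun' R x) := by
  classical
  obtain ⟨n, r, m, rfl⟩ := exists_fin_sum x
  let v : (Option (ULift.{u} (Fin n))) → B := fun o => o.elim 1 fun j => m j.down
  let gen : MvPolynomial (Option (ULift.{u} (Fin n))) A ⊗[A] B := ∑ i : (Option (ULift.{u} (Fin n))), MvPolynomial.X i ⊗ₜ[A] v i
  let h : MvPolynomial (Option (ULift.{u} (Fin n))) A →ₐ[A] Polynomial R := MvPolynomial.aeval fun o : (Option (ULift.{u} (Fin n))) =>
    o.elim 1 fun j => Polynomial.X * Polynomial.C (r j.down)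
  let h0 : MvPolynomial (Option (ULift.{u} (Fin n))) A →ₐ[A] R := MvPolynomial.aeval fun o : (Option (ULift.{u} (Fin n))) => o.elim 0 fun j => r j.down
  have hx : rT B h gen = 1 + (Polynomial.X : Polynomial R) •
      rT B (IsScalarTower.toAlgHom A R (Polynomial R)) (∑ j, r j ⊗ₜ[A] m j) := by
    simp only [gen, Fintype.sum_option, map_add, map_sum, rT_tmul, h, MvPolynomial.aeval_X, Finset.smul_sum, Option.elim_none, Option.elim_some, v, Algebra.TensorProduct.one_def]
    congr 1
    refine Fintype.sum_equiv Equiv.ulift _ _ fun j => ?_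
    simp [TensorProduct.smul_tmul', v, Polynomial.algebraMap_eq]
  have hx0 : rT B h0 gen = ∑ j, r j ⊗ₜ[A] m j := by
    simp only [gen, Fintype.sum_option, map_add, map_sum, rT_tmul, h0, MvPolynomial.aeval_X,
      Option.elim_none, Option.elim_some, TensorProduct.zero_tmul, zero_add]
    exact Fintype.sum_equiv Equiv.ulift _ _ fun j => by simp [v]
  rw [← hx, ← hx0, ← mulLaw_natural, ← mulLaw_natural, rT_eq, rT_eq, cf_rTensor, cf_rTensor]
  let e := TensorProduct.equivFinsuppOfBasisLeft (N := C) (MvPolynomial.basisMonomials (Option (ULift.{u} (Fin n))) A)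
  rw [← e.symm_apply_apply (F.law.toFun' _ gen)]
  simp only [e, TensorProduct.equivFinsuppOfBasisLeft_symm_apply, Finsupp.sum, map_sum, cf_tmul]
  refine Finset.sum_congr rfl fun k hk => ?_
  rw [Finsupp.mem_support_iff] at hk
  have hc : (MvPolynomial.basisMonomials (Option (ULift.{u} (Fin n))) A).coord k = MvPolynomial.lcoeff A k := by ext; rfl
  have hdeg : (k.sum fun _ e => e) = d := by
    by_contra hne
    apply hk
    rw [TensorProduct.equivFinsuppOfBasisLeft_apply, hc]
    exact (cf_law_of_subset v F Finset.univ (k := k) (Finset.subset_univ _)).trans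
      (coefF_eq_zero v F hne)
  congr 1
  rw [Finsupp.sum_fintype _ _ fun _ => rfl, Fintype.sum_option] at hdeg
  simp only [LinearMap.comp_apply, AlgHom.toLinearMap_apply, MvPolynomial.coe_basisMonomials, h, h0,
    MvPolynomial.aeval_monomial, map_one, one_mul]
  rw [Finsupp.prod_fintype _ _ fun i => pow_zero _, Finsupp.prod_fintype _ _ fun i => pow_zero _,
    Fintype.prod_option, Fintype.prod_option]
  simp only [Option.elim_none, Option.elim_some, one_pow, one_mul, mul_pow, Finset.prod_mul_distrib,
    Finset.prod_pow_eq_pow_sum, ← map_pow, ← map_prod, topFun, LinearMap.comp_apply,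
    LinearMap.restrictScalars_apply, Polynomial.lcoeff_apply]
  rw [Polynomial.coeff_X_pow_mul', Polynomial.coeff_C]
  by_cases h0' : k none = 0
  · rw [h0', zero_add] at hdeg
    rw [hdeg, h0', if_pos le_rfl, Nat.sub_self, if_pos rfl, pow_zero, one_mul]
  · rw [zero_pow h0', zero_mul, map_zero]
    have hlt : (∑ i : ULift.{u} (Fin n), k (some i)) < d := by omega
    rw [if_pos hlt.le, if_neg (by omega), map_zero]

end ZeroCyc
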