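import Groth.Agent.ZeroCyc.Points
import Mathlib.RingTheory.Spectrum.Prime.Topology

/-!
# Laws out of a product over a connected base
-/

universe u

open scoped TensorProduct

noncomputable section

namespace ZeroCyc

variable {A : Type u} [CommRing A]

theorem idem_eq_zero_or_one [PreconnectedSpace (PrimeSpectrum A)] {c : A} (hc : c * c = c) :
    c = 0 ∨ c = 1 := by
  have hclopen : IsClopen (PrimeSpectrum.basicOpen c : Set (PrimeSpectrum A)) := by
    refine ⟨⟨?_⟩, (PrimeSpectrum.basicOpen c).isOpen⟩
    have : ((PrimeSpectrum.basicOpen c : Set (PrimeSpectrum A)))ᶜ =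
        (PrimeSpectrum.basicOpen (1 - c) : Set (PrimeSpectrum A)) := by
      ext q
      simp only [Set.mem_compl_iff, SetLike.mem_coe, PrimeSpectrum.mem_basicOpen, not_not]
      constructor
      · intro h h'
        refine q.isPrime.ne_top (Ideal.eq_top_iff_one _ |>.mpr ?_)
        simpa using add_mem h h'
      · intro h
        have : c * (1 - c) = 0 := by rw [mul_sub, mul_one, hc, sub_self]
        exact ((q.isPrime.mem_or_mem (this ▸ zero_mem _)).resolve_right h)
    rw [this]
    exact (PrimeSpectrum.basicOpen _).isOpen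
  have hpow : ∀ n, c ^ (n + 1) = c := fun n => by
    induction n with
    | zero => simp
    | succ n ih => rw [pow_succ, ih, hc]
  rcases isClopen_iff.mp hclopen with h | h
  · left
    obtain ⟨n, hn⟩ := PrimeSpectrum.basicOpen_eq_bot_iff c |>.mp (SetLike.coe_injective h)
    rw [← hpow n, pow_succ, hn, zero_mul]
  · right
    have hu : IsUnit c := by
      by_contra hu
      obtain ⟨M, hM, hcM⟩ := exists_max_ideal_of_mem_nonunits hu
      have : (⟨M, hM.isPrime⟩ : PrimeSpectrum A) ∈ (PrimeSpectrum.basicOpen c : Set (PrimeSpectrum A)) := by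
        rw [h]; trivial
      exact this hcM
    exact hu.mul_eq_left.mp hc

variable {B₁ B₂ : Type u} [CommRing B₁] [Algebra A B₁] [CommRing B₂] [Algebra A B₂] {d : ℕ}

/-- The first idempotent. -/
abbrev prodE (S : Type u) [CommRing S] [Algebra A S] : S ⊗[A] (B₁ × B₂) :=
  1 ⊗ₜ[A] ((1, 0) : B₁ × B₂)

/-- The second idempotent. -/
abbrev prodE' (S : Type u) [CommRing S] [Algebra A S] : S ⊗[A] (B₁ × B₂) :=
  1 ⊗ₜ[A] ((0, 1) : B₁ × B₂)

/-- Embedding of the first factor. -/
abbrev inlT (S : Type u) [CommRing S] [Algebra A S] : S ⊗[A] B₁ →ₗ[A] S ⊗[A] (B₁ × B₂) :=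
  (LinearMap.inl A B₁ B₂).lTensor S

/-- Embedding of the second factor. -/
abbrev inrT (S : Type u) [CommRing S] [Algebra A S] : S ⊗[A] B₂ →ₗ[A] S ⊗[A] (B₁ × B₂) :=
  (LinearMap.inr A B₁ B₂).lTensor S

theorem inlT_mul {S : Type u} [CommRing S] [Algebra A S] (x y : S ⊗[A] B₁) :
    inlT (B₂ := B₂) S (x * y) = inlT S x * inlT S y := by
  induction x using TensorProduct.induction_on with
  | zero => simp
  | add a b ha hb => simp only [add_mul, map_add, ha, hb]
  | tmul s b =>
    induction y using TensorProduct.induction_on with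
    | zero => simp
    | add a b ha hb => simp only [mul_add, map_add, ha, hb]
    | tmul t c => simp

theorem inrT_mul {S : Type u} [CommRing S] [Algebra A S] (x y : S ⊗[A] B₂) :
    inrT (B₁ := B₁) S (x * y) = inrT S x * inrT S y := by
  induction x using TensorProduct.induction_on with
  | zero => simp
  | add a b ha hb => simp only [add_mul, map_add, ha, hb]
  | tmul s b =>
    induction y using TensorProduct.induction_on with
    | zero => simp
    | add a b ha hb => simp only [mul_add, map_add, ha, hb]
    | tmul t c => simp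

theorem inlT_mul_inrT {S : Type u} [CommRing S] [Algebra A S] (x : S ⊗[A] B₁) (y : S ⊗[A] B₂) :
    inlT S x * inrT S y = 0 := by
  induction x using TensorProduct.induction_on with
  | zero => simp
  | add a b ha hb => simp only [add_mul, map_add, ha, hb, add_zero]
  | tmul s b =>
    induction y using TensorProduct.induction_on with
    | zero => simp
    | add a b ha hb => simp only [mul_add, map_add, ha, hb, add_zero]
    | tmul t c => simp [← Prod.zero_eq_mk]

/-- The element with given components. -/
def pairT {S : Type u} [CommRing S] [Algebra A S] (x : S ⊗[A] B₁) (y : S ⊗[A] B₂) :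
    S ⊗[A] (B₁ × B₂) := inlT S x + inrT S y

theorem pairT_mul {S : Type u} [CommRing S] [Algebra A S] (x x' : S ⊗[A] B₁) (y y' : S ⊗[A] B₂) :
    pairT x y * pairT x' y' = pairT (x * x') (y * y') := by
  rw [pairT, pairT, pairT, add_mul, mul_add, mul_add, inlT_mul_inrT, mul_comm (inrT S y),
    inlT_mul_inrT, ← inlT_mul, ← inrT_mul]
  abel

theorem pairT_fst_snd {S : Type u} [CommRing S] [Algebra A S] (z : S ⊗[A] (B₁ × B₂)) :
    pairT ((LinearMap.fst A B₁ B₂).lTensor S z) ((LinearMap.snd A B₁ B₂).lTensor S z) = z := by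
  induction z using TensorProduct.induction_on with
  | zero => simp [pairT]
  | add a b ha hb =>
    conv_rhs => rw [← ha, ← hb]
    simp only [pairT, map_add]
    abel
  | tmul s b =>
    simp only [pairT, LinearMap.lTensor_tmul, ← TensorProduct.tmul_add]
    simp

theorem pairT_one_one {S : Type u} [CommRing S] [Algebra A S] :
    pairT (1 : S ⊗[A] B₁) (1 : S ⊗[A] B₂) = 1 := by
  simp [pairT, Algebra.TensorProduct.one_def, ← TensorProduct.tmul_add, ← Prod.one_eq_mk]

theorem pairT_smul {S : Type u} [CommRing S] [Algebra A S] (s : S) (x : S ⊗[A] B₁) (y : S ⊗[A] B₂) :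
    s • pairT x y = pairT (s • x) (s • y) := by
  rw [pairT, pairT, smul_add]
  congr 1
  · induction x using TensorProduct.induction_on with
    | zero => simp
    | add a b ha hb => simp only [map_add, smul_add, ha, hb]
    | tmul t b => simp [TensorProduct.smul_tmul']
  · induction y using TensorProduct.induction_on with
    | zero => simp
    | add a b ha hb => simp only [map_add, smul_add, ha, hb]
    | tmul t b => simp [TensorProduct.smul_tmul']

theorem rT_pairT {S T : Type u} [CommRing S] [Algebra A S] [CommRing T] [Algebra A T] (h : S →ₐ[A] T)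
    (x : S ⊗[A] B₁) (y : S ⊗[A] B₂) :
    rT (B₁ × B₂) h (pairT x y) = pairT (rT B₁ h x) (rT B₂ h y) := by
  rw [pairT, pairT, map_add]
  congr 1
  · induction x using TensorProduct.induction_on with
    | zero => simp
    | add a b ha hb => simp only [map_add, ha, hb]
    | tmul t b => simp
  · induction y using TensorProduct.induction_on with
    | zero => simp
    | add a b ha hb => simp only [map_add, ha, hb]
    | tmul t b => simp

variable (F : PolLaw.MulLaw A (B₁ × B₂) A d)

theorem nrm_one_prod (S : Type u) [CommRing S] [Algebra A S] :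
    nrm F S (pairT (1 : S ⊗[A] B₁) (1 : S ⊗[A] B₂)) = 1 := by
  rw [pairT_one_one]
  exact ev_one F _

/-- The coefficients of a polynomial multiplicative in its variable are orthogonal idempotents. -/
theorem coeff_mul_coeff (p : Polynomial A)
    (hmul : Polynomial.aeval (Polynomial.C Polynomial.X * Polynomial.X : Polynomial (Polynomial A)) p =
      Polynomial.C p * p.map Polynomial.C) (i j : ℕ) :
    p.coeff i * p.coeff j = if i = j then p.coeff j else 0 := by
  classical
  have h := congr_arg (fun q => (Polynomial.coeff q j).coeff i) hmul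
  simp only [Polynomial.coeff_C_mul, Polynomial.coeff_map, Polynomial.coeff_mul_C] at h
  rw [← h]
  rw [Polynomial.aeval_eq_sum_range, Polynomial.finsetSum_coeff, Polynomial.finsetSum_coeff]
  have hterm : ∀ n : ℕ,
      ((p.coeff n • (Polynomial.C Polynomial.X * Polynomial.X : Polynomial (Polynomial A)) ^ n).coeff j).coeff i =
        if n = j then (if i = j then p.coeff j else 0) else 0 := by
    intro n
    rw [mul_pow, ← map_pow, Polynomial.coeff_smul, Polynomial.coeff_C_mul, Polynomial.coeff_X_pow]
    by_cases hn : n = j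
    · subst hn
      rw [if_pos rfl, mul_one, Polynomial.coeff_smul, Polynomial.coeff_X_pow, if_pos rfl]
      split_ifs with hi
      · rw [smul_eq_mul, mul_one]
      · rw [smul_zero]
    · rw [if_neg (Ne.symm hn), mul_zero, smul_zero, Polynomial.coeff_zero, if_neg hn]
  simp only [hterm, Finset.sum_ite_eq', Finset.mem_range]
  split_ifs with h2 h3 h3
  · rfl
  · rfl
  · exact (Polynomial.coeff_eq_zero_of_natDegree_lt (by omega)).symm
  · rfl

/-- A polynomial multiplicative in its variable is a monomial, over a connected base. -/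
theorem exists_eq_X_pow [PreconnectedSpace (PrimeSpectrum A)] [Nontrivial A] (p : Polynomial A)
    (hmul : Polynomial.aeval (Polynomial.C Polynomial.X * Polynomial.X : Polynomial (Polynomial A)) p =
      Polynomial.C p * p.map Polynomial.C) (h1 : p.eval 1 = 1) :
    ∃ m, p = Polynomial.X ^ m := by
  classical
  have key := coeff_mul_coeff p hmul
  have hne : p ≠ 0 := by
    rintro rfl
    rw [Polynomial.eval_zero] at h1
    exact zero_ne_one h1
  refine ⟨p.natDegree, ?_⟩
  have hc : p.coeff p.natDegree = 1 := by
    refine (idem_eq_zero_or_one (by simpa using key p.natDegree p.natDegree)).resolve_left ?_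
    exact Polynomial.leadingCoeff_ne_zero.mpr hne
  refine Polynomial.ext fun i => ?_
  rw [Polynomial.coeff_X_pow]
  split_ifs with hi
  · rw [hi, hc]
  · have := key i p.natDegree
    rwa [hc, mul_one, if_neg hi] at this

/-- The restriction of a law on a product to the first factor. -/
def fstFam (m : ℕ) (hm : ∀ (S : Type u) [CommRing S] [Algebra A S] (s : S),
    nrm F S (pairT (s • (1 : S ⊗[A] B₁)) (1 : S ⊗[A] B₂)) = s ^ m) : Fam A B₁ A m where
  val S _ _ _ x := nrm F S (pairT x 1)
  natural h g x := by rw [← nrm_natural, rT_pairT, map_one]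
  map_one g := nrm_one_prod F _
  map_mul {S} _ _ g x y := by
    rw [← ev_eq_nrm F g, ← ev_eq_nrm F g, ← ev_eq_nrm F g, ← ev_mul, pairT_mul, one_mul]
  map_smul {S} _ _ g s x := by
    have e : pairT (s • x) (1 : S ⊗[A] B₂) = pairT (s • (1 : S ⊗[A] B₁)) 1 * pairT x 1 := by
      rw [pairT_mul, smul_mul_assoc, one_mul, one_mul]
    rw [e, ← hm S s, ← ev_eq_nrm F g, ← ev_eq_nrm F g, ← ev_eq_nrm F g, ← ev_mul]

/-- The restriction of a law on a product to the second factor. -/
def sndFam (m : ℕ) (hm : ∀ (S : Type u) [CommRing S] [Algebra A S] (s : S),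
    nrm F S (pairT (1 : S ⊗[A] B₁) (s • (1 : S ⊗[A] B₂))) = s ^ m) : Fam A B₂ A m where
  val S _ _ _ x := nrm F S (pairT 1 x)
  natural h g x := by rw [← nrm_natural, rT_pairT, map_one]
  map_one g := nrm_one_prod F _
  map_mul {S} _ _ g x y := by
    rw [← ev_eq_nrm F g, ← ev_eq_nrm F g, ← ev_eq_nrm F g, ← ev_mul, pairT_mul, one_mul]
  map_smul {S} _ _ g s x := by
    have e : pairT (1 : S ⊗[A] B₁) (s • x) = pairT 1 (s • (1 : S ⊗[A] B₂)) * pairT 1 x := by
      rw [pairT_mul, smul_mul_assoc, one_mul, one_mul]
    rw [e, ← hm S s, ← ev_eq_nrm F g, ← ev_eq_nrm F g, ← ev_eq_nrm F g, ← ev_mul]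

theorem exists_degree [PreconnectedSpace (PrimeSpectrum A)] [Nontrivial A]
    (f : ∀ (S : Type u) [CommRing S] [Algebra A S], S → S)
    (hnat : ∀ {S T : Type u} [CommRing S] [Algebra A S] [CommRing T] [Algebra A T] (h : S →ₐ[A] T)
      (s : S), f T (h s) = h (f S s))
    (hmul : ∀ (S : Type u) [CommRing S] [Algebra A S] (s t : S), f S (s * t) = f S s * f S t)
    (hone : ∀ (S : Type u) [CommRing S] [Algebra A S], f S 1 = 1) :
    ∃ m, ∀ (S : Type u) [CommRing S] [Algebra A S] (s : S), f S s = s ^ m := by
  let p := f (Polynomial A) Polynomial.X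
  have hev : ∀ (S : Type u) [CommRing S] [Algebra A S] (s : S), f S s = Polynomial.aeval s p := by
    intro S _ _ s
    rw [← hnat (Polynomial.aeval s), Polynomial.aeval_X]
  have h2 : Polynomial.aeval (Polynomial.C Polynomial.X * Polynomial.X : Polynomial (Polynomial A)) p =
      Polynomial.C p * p.map Polynomial.C := by
    rw [← hev, hmul]
    congr 1
    · exact hnat (IsScalarTower.toAlgHom A (Polynomial A) (Polynomial (Polynomial A))) Polynomial.X
    · rw [hev, Polynomial.aeval_def]
      rfl
  obtain ⟨m, hm⟩ := exists_eq_X_pow p h2 (by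
    rw [← Polynomial.coe_aeval_eq_eval, ← hev, hone])
  exact ⟨m, fun S _ _ s => by rw [hev, hm, map_pow, Polynomial.aeval_X]⟩

end ZeroCyc
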