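import Groth.Agent.ZeroCyc.Apps
import Groth.Agent.ZeroCyc.Prod
import Mathlib.RingTheory.TotallySplit
import Mathlib.RingTheory.Norm.Basic
import Mathlib.RingTheory.Flat.FaithfullyFlat.Algebra

/-!
# Laws on finite étale algebras
-/

universe u

open scoped TensorProduct

noncomputable section

namespace ZeroCyc

section Split

variable {E : Type u} [CommRing E] {P : Type u} [CommRing P] [Algebra E P] {d : ℕ}
  (ψ : P ≃ₐ[E] (Fin d → E))

/-- The coordinates of a split algebra. -/
def coordT {S : Type u} [CommRing S] [Algebra E S] (i : Fin d) : S ⊗[E] P →ₐ[E] S :=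
  evMap ((Algebra.ofId E S).comp ((Pi.evalAlgHom E (fun _ : Fin d => E) i).comp ψ.toAlgHom))

theorem coordT_tmul {S : Type u} [CommRing S] [Algebra E S] (i : Fin d) (s : S) (b : P) :
    coordT ψ i (s ⊗ₜ[E] b) = s * algebraMap E S (ψ b i) := by
  simp [coordT, evMap_tmul, Algebra.ofId_apply]

theorem coordT_natural {S T : Type u} [CommRing S] [Algebra E S] [CommRing T] [Algebra E T]
    (h : S →ₐ[E] T) (i : Fin d) (x : S ⊗[E] P) : coordT ψ i (rT P h x) = h (coordT ψ i x) := by
  induction x using TensorProduct.induction_on with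
  | zero => simp
  | add a b ha hb => simp only [map_add, ha, hb]
  | tmul s b => rw [rT_tmul, coordT_tmul, coordT_tmul, map_mul, h.commutes]

theorem coordT_ext {S : Type u} [CommRing S] [Algebra E S] {x y : S ⊗[E] P}
    (h : ∀ i, coordT ψ i x = coordT ψ i y) : x = y := by
  classical
  have key : ∀ z : S ⊗[E] P, z = ∑ i, coordT ψ i z ⊗ₜ[E] ψ.symm (Pi.single i 1) := by
    intro z
    induction z using TensorProduct.induction_on with
    | zero => simp
    | add a b ha hb =>
      conv_lhs => rw [ha, hb]
      simp only [map_add, TensorProduct.add_tmul, Finset.sum_add_distrib]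
    | tmul s b =>
      conv_lhs => rw [← ψ.symm_apply_apply b, pi_eq_sum_univ' (ψ b), map_sum, TensorProduct.tmul_sum]
      refine Finset.sum_congr rfl fun i _ => ?_
      rw [coordT_tmul, map_smul, TensorProduct.tmul_smul, TensorProduct.smul_tmul', Algebra.smul_def,
        mul_comm]
  rw [key x, key y]
  simp only [h]

/-- The element with `i`-th coordinate `s` and the others `1`. -/
def deltaT {S : Type u} [CommRing S] [Algebra E S] (i : Fin d) (s : S) : S ⊗[E] P :=
  1 + (s - 1) ⊗ₜ[E] ψ.symm (Pi.single i 1)

theorem coordT_deltaT {S : Type u} [CommRing S] [Algebra E S] (i j : Fin d) (s : S) :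
    coordT ψ j (deltaT ψ i s) = if j = i then s else 1 := by
  rw [deltaT, map_add, map_one, coordT_tmul, AlgEquiv.apply_symm_apply, Pi.single_apply]
  split_ifs <;> simp

theorem deltaT_mul {S : Type u} [CommRing S] [Algebra E S] (i : Fin d) (s t : S) :
    deltaT ψ i (s * t) = deltaT ψ i s * deltaT ψ i t := by
  refine coordT_ext ψ fun j => ?_
  rw [map_mul, coordT_deltaT, coordT_deltaT, coordT_deltaT]
  split_ifs <;> simp

theorem eq_prod_deltaT {S : Type u} [CommRing S] [Algebra E S] (x : S ⊗[E] P) :
    x = ∏ i, deltaT ψ i (coordT ψ i x) := by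
  refine coordT_ext ψ fun j => ?_
  rw [map_prod]
  simp [coordT_deltaT]

theorem nrm_prod_eq (G : PolLaw.MulLaw E P E d) {S : Type u} [CommRing S] [Algebra E S] {ι : Type*}
    (s : Finset ι) (f : ι → S ⊗[E] P) : nrm G S (∏ i ∈ s, f i) = ∏ i ∈ s, nrm G S (f i) := by
  classical
  induction s using Finset.induction_on with
  | empty => exact ev_one G _
  | insert a s ha ih => rw [Finset.prod_insert ha, Finset.prod_insert ha, ← ih]; exact ev_mul G _ _ _

/-- On a split algebra, a law with kernel in the nilradical is the product of the coordinates. -/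
theorem nrm_eq_prod_coordT (G : PolLaw.MulLaw E P E d) (hG : PolLaw.ker G.law ≤ nilradical P)
    {S : Type u} [CommRing S] [Algebra E S] (x : S ⊗[E] P) : nrm G S x = ∏ i, coordT ψ i x := by
  classical
  suffices h : ∀ i (S : Type u) [CommRing S] [Algebra E S] (s : S), nrm G S (deltaT ψ i s) = s by
    conv_lhs => rw [eq_prod_deltaT ψ x, nrm_prod_eq]
    exact Finset.prod_congr rfl fun i _ => h i S _
  intro i
  let p := nrm G (Polynomial E) (deltaT ψ i Polynomial.X)
  have hnat : ∀ (S : Type u) [CommRing S] [Algebra E S] (s : S),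
      nrm G S (deltaT ψ i s) = Polynomial.aeval s p := by
    intro S _ _ s
    rw [← nrm_natural]
    congr 1
    refine coordT_ext ψ fun j => ?_
    rw [coordT_natural, coordT_deltaT, coordT_deltaT]
    split_ifs <;> simp
  suffices hp : p = Polynomial.X by
    intro S _ _ s
    rw [hnat, hp, Polynomial.aeval_X]
  have h2 : Polynomial.aeval (Polynomial.C Polynomial.X * Polynomial.X : Polynomial (Polynomial E)) p =
      Polynomial.C p * p.map Polynomial.C := by
    rw [← hnat, deltaT_mul]
    refine (ev_mul G _ _ _).trans ?_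
    show nrm G _ _ * nrm G _ _ = _
    rw [hnat, hnat]
    congr 1
    exact (Polynomial.aeval_algHom_apply
      (IsScalarTower.toAlgHom E (Polynomial E) (Polynomial (Polynomial E))) Polynomial.X p).trans
      (congrArg _ (Polynomial.aeval_X_left_apply p))
  have key := coeff_mul_coeff p h2
  -- at every point the polynomial is `X`
  have hpt : ∀ (K : Type u) [Field K] [IsAlgClosed K] [Algebra E K],
      p.map (algebraMap E K) = Polynomial.X := by
    intro K _ _ _
    obtain ⟨β, hβ⟩ := exists_points G (Algebra.ofId E K)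
    let γ : Fin d → (P →ₐ[E] K) := fun j =>
      (Algebra.ofId E K).comp ((Pi.evalAlgHom E (fun _ : Fin d => E) j).comp ψ.toAlgHom)
    have hex : ∀ j, ∃ l, β l = γ j := fun j => exists_point_eq G hβ (γ j) fun b hb =>
      IsNilpotent.eq_zero ((mem_nilradical.mp (hG hb)).map (γ j))
    choose l hl using hex
    have hinj : Function.Injective l := fun a b h => by
      by_contra hne
      have := AlgHom.congr_fun ((hl a).symm.trans ((congrArg β h).trans (hl b))) (ψ.symm (Pi.single a 1))
      simp [γ, Algebra.ofId_apply, Pi.single_apply, Ne.symm hne] at this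
    have hbij : Function.Bijective l := hinj.bijective_of_finite
    let CK : K →ₐ[E] Polynomial K := IsScalarTower.toAlgHom E K (Polynomial K)
    have h := hβ (Polynomial K) CK (deltaT ψ i Polynomial.X)
    rw [ev_eq_nrm, hnat, ← hbij.prod_comp] at h
    have hj : ∀ j, evMap (CK.comp (β (l j))) (deltaT ψ i (Polynomial.X : Polynomial K)) =
        if j = i then Polynomial.X else 1 := by
      intro j
      rw [hl, ← coordT_deltaT ψ i j]
      congr 2
    simp only [hj, Finset.prod_ite_eq', Finset.mem_univ, if_true] at h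
    rw [← h, Polynomial.aeval_def, Polynomial.map, IsScalarTower.algebraMap_eq E K (Polynomial K),
      Polynomial.algebraMap_eq]
  refine Polynomial.ext fun m => ?_
  rw [Polynomial.coeff_X]
  have hprime : ∀ (q : Ideal E) [q.IsPrime], p.coeff m - (if 1 = m then 1 else 0) ∈ q := by
    intro q _
    have h := congrArg (fun r => Polynomial.coeff r m) (hpt (AlgebraicClosure q.ResidueField))
    simp only [Polynomial.coeff_map, Polynomial.coeff_X] at h
    rw [← Ideal.ker_algebraMap_residueField q, RingHom.mem_ker]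
    apply (algebraMap q.ResidueField (AlgebraicClosure q.ResidueField)).injective
    rw [map_zero, ← IsScalarTower.algebraMap_apply, map_sub, h]
    split_ifs <;> simp
  have hnil : IsNilpotent (p.coeff m - (if 1 = m then 1 else 0)) := by
    rw [nilpotent_iff_mem_prime]
    exact fun q hq => hprime q
  split_ifs with hm
  · rw [if_pos hm] at hnil
    have hu : IsUnit (p.coeff m) := by
      have := hnil.isUnit_one_add
      rwa [add_sub_cancel] at this
    exact hu.mul_eq_left.mp (by simpa using key m m)
  · rw [if_neg hm, sub_zero] at hnil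
    obtain ⟨n, hn⟩ := hnil
    have hpow : ∀ n : ℕ, p.coeff m ^ (n + 1) = p.coeff m := fun n => by
      induction n with
      | zero => simp
      | succ n ih => rw [pow_succ, ih]; simpa using key m m
    rw [← hpow n, pow_succ, hn, zero_mul]

/-- The product of the coordinates has trivial kernel. -/
theorem ker_eq_bot_of_prod_coordT (G : PolLaw.MulLaw E P E d)
    (hG : ∀ (S : Type u) [CommRing S] [Algebra E S] (x : S ⊗[E] P), nrm G S x = ∏ i, coordT ψ i x) :
    PolLaw.ker G.law = ⊥ := by
  classical
  rw [eq_bot_iff]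
  intro b hb
  rw [Ideal.mem_bot]
  apply ψ.injective
  rw [map_zero]
  funext i
  have h := (mem_ker_iff G).mp hb E (deltaT ψ i 0) ((1 : E) ⊗ₜ[E] ψ.symm (Pi.single i 1))
  rw [hG, hG] at h
  have e : ∀ j, coordT ψ j (deltaT ψ i (0 : E) + (1 : E) ⊗ₜ[E] ψ.symm (Pi.single i 1) *
      ((1 : E) ⊗ₜ[E] b)) = if j = i then ψ b i else 1 := by
    intro j
    rw [map_add, map_mul, coordT_deltaT, coordT_tmul, coordT_tmul, AlgEquiv.apply_symm_apply,
      Pi.single_apply]
    split_ifs with hji
    · subst hji; simp
    · simp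
  simp only [e, coordT_deltaT, Finset.prod_ite_eq', Finset.mem_univ, if_true] at h
  exact h

theorem norm_pi {R : Type u} [CommRing R] (x : Fin d → R) : Algebra.norm R x = ∏ i, x i := by
  classical
  rw [Algebra.norm_eq_matrix_det (Pi.basisFun R (Fin d))]
  have : Algebra.leftMulMatrix (Pi.basisFun R (Fin d)) x = Matrix.diagonal x := by
    ext i j
    rw [Algebra.leftMulMatrix_eq_repr_mul, Pi.basisFun_repr, Pi.basisFun_apply, Pi.mul_apply,
      Pi.single_apply, Matrix.diagonal_apply]
    split_ifs <;> simp_all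
  rw [this, Matrix.det_diagonal]

/-- The coordinates, as an isomorphism of algebras over the test algebra. -/
theorem norm_eq_prod_coordT {S : Type u} [CommRing S] [Algebra E S] (x : S ⊗[E] P) :
    Algebra.norm S x = ∏ i, coordT ψ i x := by
  let f : S ⊗[E] P →ₐ[S] (Fin d → S) :=
    { Pi.ringHom (fun i => (coordT ψ i).toRingHom) with
      commutes' := fun s => funext fun i => by
        show coordT ψ i (s ⊗ₜ[E] 1) = s
        rw [coordT_tmul, map_one ψ, Pi.one_apply, map_one, mul_one] }
  have hf : ∀ z i, f z i = coordT ψ i z := fun z i => rfl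
  have hinj : Function.Injective f := fun a b h => coordT_ext ψ fun i => congrFun h i
  have hsurj : Function.Surjective f := fun v => by
    classical
    refine ⟨∏ i, deltaT ψ i (v i), funext fun j => ?_⟩
    rw [hf, map_prod]
    simp [coordT_deltaT]
  rw [← Algebra.norm_eq_of_algEquiv (AlgEquiv.ofBijective f ⟨hinj, hsurj⟩), norm_pi]
  rfl

end Split

theorem ker_eq_bot_and_unique_of_etale {A B : Type u} [CommRing A] [CommRing B] [Algebra A B]
    [Module.Free A B] [Module.Finite A B] [Algebra.Etale A B] (d : ℕ) (hd : Module.finrank A B = d)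
    (N : PolLaw.MulLaw A B A d)
    (hN : ∀ (S : Type u) [CommRing S] [Algebra A S] (x : S ⊗[A] B),
      N.law.toFun' S x = Algebra.norm S x ⊗ₜ[A] (1 : A)) :
    PolLaw.ker N.law = ⊥ ∧
      ∀ F : PolLaw.MulLaw A B A d, PolLaw.ker F.law ≤ nilradical B → F = N := by
  rcases subsingleton_or_nontrivial A with hA | hA
  · have : Subsingleton B := Module.subsingleton A B
    exact ⟨Subsingleton.elim _ _, fun F _ => mulLaw_ext_free fun R _ _ _ x => by
      have : Subsingleton (R ⊗[A] A) := Module.subsingleton A _
      exact Subsingleton.elim _ _⟩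
  have hnN : ∀ (S : Type u) [CommRing S] [Algebra A S] (x : S ⊗[A] B),
      nrm N S x = Algebra.norm S x := by
    intro S _ _ x
    have h := congrArg (TensorProduct.rid A S) ((toFun_eq_nrm N x).symm.trans (hN S x))
    simpa using h
  obtain ⟨E, _, _, _, _, _, hsplit⟩ := Algebra.IsFiniteSplit.exists_tensorProduct_of_etale (R := A) (S := B)
    (n := d) (by funext p; rw [Module.rankAtStalk_eq_finrank_of_free, hd])
  obtain ⟨n, ⟨ψ⟩⟩ := hsplit.nonempty_algEquiv_fun
  have : Nontrivial E := (TensorProduct.rid A E).symm.toEquiv.nontrivial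
  have hn : d = n := by
    have := ψ.toLinearEquiv.finrank_eq
    rw [Module.finrank_baseChange, hd, Module.finrank_fin_fun] at this
    exact this
  subst hn
  have hNE : ∀ (R : Type u) [CommRing R] [Algebra E R] (x : R ⊗[E] (E ⊗[A] B)),
      nrm (bcLaw N E) R x = ∏ i, coordT ψ i x := by
    intro R _ _ x
    let : Algebra A R := ((algebraMap E R).comp (algebraMap A E)).toAlgebra
    have : IsScalarTower A E R := IsScalarTower.of_algebraMap_eq fun _ => rfl
    rw [nrm_bcLaw, hnN, Algebra.norm_eq_of_algEquiv, norm_eq_prod_coordT ψ]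
  have hkerN : PolLaw.ker N.law = ⊥ := by
    rw [eq_bot_iff]
    intro b hb
    have h1 : (1 : E) ⊗ₜ[A] b ∈ PolLaw.ker (bcLaw N E).law := by
      rw [ker_bcLaw]
      exact map_ker_le_kerBC N E (Ideal.mem_map_of_mem _ hb)
    rw [ker_eq_bot_of_prod_coordT ψ _ hNE, Ideal.mem_bot] at h1
    rw [Ideal.mem_bot]
    exact Module.FaithfullyFlat.tensorProduct_mk_injective (A := A) (B := E) B
      (h1.trans (TensorProduct.tmul_zero _ _).symm)
  refine ⟨hkerN, fun F hF => mulLaw_ext_ev fun S _ _ g x => ?_⟩
  have hFE : PolLaw.ker (bcLaw F E).law ≤ nilradical (E ⊗[A] B) := by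
    rw [ker_bcLaw]
    intro b' hb'
    rw [mem_nilradical, nilpotent_iff_mem_prime]
    intro Q hQ
    let K := AlgebraicClosure (Ideal.ResidueField Q)
    let ξ : E ⊗[A] B →ₐ[A] K := IsScalarTower.toAlgHom A _ K
    have hξ : ∀ z, ξ z = 0 ↔ z ∈ Q := fun z => by
      show algebraMap _ K z = 0 ↔ _
      rw [IsScalarTower.algebraMap_apply (E ⊗[A] B) (Ideal.ResidueField Q) K, map_eq_zero,
        Ideal.algebraMap_residueField_eq_zero]
    obtain ⟨β, hβ⟩ := exists_points F (Algebra.ofId A K)
    obtain ⟨l, hl⟩ := exists_point_eq F hβ (ξ.comp Algebra.TensorProduct.includeRight) fun b hb =>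
      IsNilpotent.eq_zero ((mem_nilradical.mp (hF hb)).map _)
    rw [← hξ]
    have h0 := point_kerBC F hβ (ξ.comp Algebra.TensorProduct.includeLeft) hb' l
    rw [hl] at h0
    rw [← h0]
    clear h0 hb'
    induction b' using TensorProduct.induction_on with
    | zero => simp
    | add a b ha hb => simp only [map_add, ha, hb]
    | tmul a b => simp [← map_mul]
  let iS : S →ₐ[A] E ⊗[A] S := Algebra.TensorProduct.includeRight
  have hinj : Function.Injective iS := fun a b h =>
    Module.FaithfullyFlat.tensorProduct_mk_injective (A := A) (B := E) S h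
  refine hinj ?_
  rw [ev_eq_nrm, ev_eq_nrm, ← nrm_natural, ← nrm_natural]
  obtain ⟨y, hy⟩ := (cancelMap (A := A) (B := B) E (E ⊗[A] S)).surjective (rT B iS x)
  rw [← hy, ← nrm_bcLaw, ← nrm_bcLaw, nrm_eq_prod_coordT ψ _ hFE, hNE]

end ZeroCyc
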