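import Groth.Agent.ZeroCyc.Points
import Mathlib.RingTheory.Valuation.LocalSubring
import Mathlib.FieldTheory.IsAlgClosed.AlgebraicClosure
import Mathlib.RingTheory.Spectrum.Prime.Topology

/-!
# The image of a law: integrality, fibres, generisations, openness
-/

universe u

open scoped TensorProduct

noncomputable section

namespace ZeroCyc

variable {A : Type u} [CommRing A] {B C : Type u} [CommRing B] [Algebra A B] [CommRing C]
  [Algebra A C] {d : ℕ} (F : PolLaw.MulLaw A B A d)

theorem rid_toFun {S : Type u} [CommSemiring S] [Algebra A S] (x : S ⊗[A] B) :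
    TensorProduct.rid A S (F.law.toFun' S x) = nrm F S x :=
  (evMap_ofId _).symm

theorem chiPol_natDegree_le_and_coeff (b : B) :
    (chiPol F b).natDegree ≤ d ∧ (chiPol F b).coeff d = (-1) ^ d := by
  classical
  let κ := Option PUnit.{u+1}
  let v : Option PUnit.{u+1} → B := fun o => o.elim 1 fun _ => b
  let gen : MvPolynomial (Option PUnit.{u+1}) A ⊗[A] B :=
    ∑ i : Option PUnit.{u+1}, MvPolynomial.X i ⊗ₜ[A] v i
  let h : MvPolynomial (Option PUnit.{u+1}) A →ₐ[A] Polynomial A :=
    MvPolynomial.aeval fun o : Option PUnit.{u+1} => o.elim (-Polynomial.X) fun _ => 1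
  have hgen : rT B h gen = (1 : Polynomial A) ⊗ₜ[A] b - Polynomial.X ⊗ₜ[A] (1 : B) := by
    simp only [gen, Fintype.sum_option, Fintype.sum_unique, map_add, rT_tmul, h, MvPolynomial.aeval_X,
      Option.elim_none, Option.elim_some, v, TensorProduct.neg_tmul]
    abel
  have hP : chiPol F b = h (nrm F _ gen) := by rw [chiPol, ← hgen, nrm_natural]
  rw [hP, ← MvPolynomial.support_sum_monomial_coeff (nrm F _ gen), map_sum]
  have hdeg : ∀ k ∈ (nrm F _ gen).support, k none + k (some PUnit.unit) = d := by
    intro k hk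
    rw [MvPolynomial.mem_support_iff] at hk
    by_contra hne
    apply hk
    have h1 : cf (MvPolynomial.lcoeff A k) (F.law.toFun' _ gen) = MvPolynomial.coeff k (nrm F _ gen) := by
      rw [toFun_eq_nrm, cf_tmul, smul_eq_mul, mul_one]
      rfl
    rw [← h1, cf_law_of_subset v F Finset.univ (Finset.subset_univ _)]
    refine coefF_eq_zero v F ?_
    rwa [Finsupp.sum_fintype _ _ fun _ => rfl, Fintype.sum_option, Fintype.sum_unique]
  have hterm : ∀ k : Option PUnit.{u+1} →₀ ℕ, ∀ a : A, h (MvPolynomial.monomial k a) =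
      Polynomial.C (a * (-1) ^ k none) * Polynomial.X ^ k none := by
    intro k a
    simp only [h, MvPolynomial.aeval_monomial]
    rw [Finsupp.prod_fintype _ _ fun _ => pow_zero _, Fintype.prod_option, Fintype.prod_unique]
    simp only [Option.elim_none, Option.elim_some, one_pow, mul_one, Polynomial.algebraMap_eq]
    rw [neg_pow, map_mul, map_pow, map_neg, map_one]
    ring
  refine ⟨Polynomial.natDegree_sum_le_of_forall_le _ _ fun k hk => ?_, ?_⟩
  · rw [hterm]
    exact (Polynomial.natDegree_C_mul_X_pow_le _ _).trans (by have := hdeg k hk; omega)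
  · let k0 : Option PUnit.{u+1} →₀ ℕ := Finsupp.single none d
    rw [Polynomial.finsetSum_coeff]
    have hk0 : MvPolynomial.coeff k0 (nrm F _ gen) = 1 := by
      have h1 : cf (MvPolynomial.lcoeff A k0) (F.law.toFun' _ gen) =
          MvPolynomial.coeff k0 (nrm F _ gen) := by
        rw [toFun_eq_nrm, cf_tmul, smul_eq_mul, mul_one]
        rfl
      rw [← h1, cf_law_of_subset v F Finset.univ (Finset.subset_univ _),
        ← cf_law_of_subset v F {none} (k := k0) Finsupp.support_single_subset]
      simp only [Finset.sum_singleton, v, Option.elim_none]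
      have e : (MvPolynomial.X none : MvPolynomial (Option PUnit.{u+1}) A) ⊗ₜ[A] (1 : B) =
          (MvPolynomial.X none : MvPolynomial (Option PUnit.{u+1}) A) •
            (1 : MvPolynomial (Option PUnit.{u+1}) A ⊗[A] B) := by
        rw [Algebra.TensorProduct.one_def, TensorProduct.smul_tmul', smul_eq_mul, mul_one]
      rw [e, toFun_eq_nrm, cf_tmul]
      show MvPolynomial.coeff k0 (ev F _ _) • (1 : A) = 1
      rw [ev_smul, ev_one, mul_one, MvPolynomial.X_pow_eq_monomial, MvPolynomial.coeff_monomial]
      simp [k0]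
    rw [Finset.sum_eq_single k0]
    · rw [hterm, hk0, one_mul, Polynomial.coeff_C_mul_X_pow]
      simp [k0]
    · intro k hk hne
      rw [hterm, Polynomial.coeff_C_mul_X_pow, if_neg]
      intro hd'
      refine hne (Finsupp.ext fun o => ?_)
      have := hdeg k hk
      cases o with
      | none => simp [k0, ← hd']
      | some u => simp [k0]; cases u; omega
    · intro hk
      rw [MvPolynomial.notMem_support_iff.mp hk, map_zero, map_zero, Polynomial.coeff_zero]

/-- The image of a law is integral over the base. -/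
theorem image_isIntegral : Algebra.IsIntegral A (PolLaw.image F.law) := by
  refine ⟨fun z => ?_⟩
  obtain ⟨b, rfl⟩ := Ideal.Quotient.mk_surjective z
  obtain ⟨hd, hc⟩ := chiPol_natDegree_le_and_coeff F b
  refine ⟨Polynomial.C ((-1 : A) ^ d) * chiPol F b, ?_, ?_⟩
  · refine Polynomial.monic_of_natDegree_le_of_coeff_eq_one d ?_ ?_
    · exact (Polynomial.natDegree_C_mul_le _ _).trans hd
    · rw [Polynomial.coeff_C_mul, hc, ← mul_pow]
      simp
  · show Polynomial.eval₂ (algebraMap A _) (Ideal.Quotient.mkₐ A _ b) _ = 0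
    rw [← Polynomial.aeval_def, Polynomial.aeval_algHom_apply, Ideal.Quotient.mkₐ_eq_mk,
      Ideal.Quotient.eq_zero_iff_mem, map_mul]
    exact Ideal.mul_mem_left _ _ (aeval_chiPol_mem_ker F b)

section Points

variable {K : Type u} [Field K] [Algebra A K] {β : Fin d → (B →ₐ[A] K)}

/-- The points of a law kill the kernel of every base change. -/
theorem point_kerBC
    (hβ : ∀ (S : Type u) [CommRing S] [Algebra A S] (i : K →ₐ[A] S) (x : S ⊗[A] B),
      ev F (i.comp (Algebra.ofId A K)) x = ∏ l, evMap (i.comp (β l)) x)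
    {A' : Type u} [CommRing A'] [Algebra A A'] (α : A' →ₐ[A] K) {b' : A' ⊗[A] B}
    (hb : b' ∈ PolLaw.kerBC F.law A') (l : Fin d) : evMap (β l) (rT B α b') = 0 := by
  refine eq_zero_of_prod_eq_X_pow (fun l => evMap (β l) (rT B α b')) ?_ l
  let CK : K →ₐ[A] Polynomial K := IsScalarTower.toAlgHom A K (Polynomial K)
  have h := hβ (Polynomial K) CK ((Polynomial.X : Polynomial K) • 1 + 1 * rT B (CK.comp α) b')
  rw [ev_eq_nrm, (mem_kerBC_iff_hom F A').mp hb (Polynomial K) (CK.comp α), ← ev_eq_nrm F (CK.comp (Algebra.ofId A K)),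
    ev_smul, ev_one, mul_one, one_mul] at h
  rw [Fintype.card_fin, h]
  refine Finset.prod_congr rfl fun l _ => ?_
  rw [map_add, evMap_smul, map_one, mul_one, ← rT_comp, evMap_natural]
  rfl

end Points

/-- The point `A' ⊗ B/ker → K` of a pair of points. -/
def pairPt {K : Type u} [Field K] [Algebra A K] {A' : Type u} [CommRing A'] [Algebra A A']
    (α : A' →ₐ[A] K) (β : PolLaw.image F.law →ₐ[A] K) : A' ⊗[A] PolLaw.image F.law →ₐ[A] K :=
  Algebra.TensorProduct.lift α β fun _ _ => Commute.all _ _

theorem pairPt_tmul {K : Type u} [Field K] [Algebra A K] {A' : Type u} [CommRing A'] [Algebra A A']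
    (α : A' →ₐ[A] K) (β : PolLaw.image F.law →ₐ[A] K) (a : A') (z : PolLaw.image F.law) :
    pairPt F α β (a ⊗ₜ[A] z) = α a * β z := by
  simp [pairPt]

theorem pairPt_ext {K : Type u} [Field K] [Algebra A K] {A' : Type u} [CommRing A'] [Algebra A A']
    (ψ : A' ⊗[A] PolLaw.image F.law →ₐ[A] K) :
    ψ = pairPt F (ψ.comp Algebra.TensorProduct.includeLeft) (ψ.comp Algebra.TensorProduct.includeRight) := by
  refine Algebra.TensorProduct.ext ?_ ?_
  · refine AlgHom.ext fun a => ?_
    simp [pairPt]
  · refine AlgHom.ext fun a => ?_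
    simp [pairPt]

/-- The points of the image over an algebraically closed field form the range of a `d`-indexed family. -/
theorem exists_image_points {K : Type u} [Field K] [IsAlgClosed K] [Algebra A K] :
    ∃ β : Fin d → (B →ₐ[A] K), (∀ (S : Type u) [CommRing S] [Algebra A S] (i : K →ₐ[A] S)
        (x : S ⊗[A] B), ev F (i.comp (Algebra.ofId A K)) x = ∏ l, evMap (i.comp (β l)) x) ∧
      ∃ β' : Fin d → (PolLaw.image F.law →ₐ[A] K),
        (∀ l, (β' l).comp (Ideal.Quotient.mkₐ A (PolLaw.ker F.law)) = β l) ∧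
          Function.Surjective fun l : Fin d => β' l := by
  obtain ⟨β, hβ⟩ := exists_points F (Algebra.ofId A K)
  let β' : Fin d → (PolLaw.image F.law →ₐ[A] K) := fun l =>
    Ideal.Quotient.liftₐ (PolLaw.ker F.law) (β l) fun b hb => point_eq_zero_of_ker hβ hb l
  refine ⟨β, hβ, β', fun l => AlgHom.ext fun b => rfl, fun γ => ?_⟩
  obtain ⟨l, hl⟩ := exists_point_eq F hβ (γ.comp (Ideal.Quotient.mkₐ A (PolLaw.ker F.law)))
    fun b hb => by
      show γ (Ideal.Quotient.mk _ b) = 0
      rw [Ideal.Quotient.eq_zero_iff_mem.mpr hb, map_zero]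
  refine ⟨l, AlgHom.ext fun z => ?_⟩
  obtain ⟨b, rfl⟩ := Ideal.Quotient.mk_surjective z
  exact AlgHom.congr_fun hl b

section Fibre

variable {A' : Type u} [CommRing A'] [Algebra A A']

theorem algebra_isIntegral_tensor : Algebra.IsIntegral A' (A' ⊗[A] PolLaw.image F.law) := by
  have := image_isIntegral F
  infer_instance

/-- Above a point of the base, the points of the image in a field are given by those of the base. -/
theorem exists_hom_over {K : Type u} [Field K] [IsAlgClosed K] [Algebra A K] (α : A' →ₐ[A] K)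
    (P : Ideal (A' ⊗[A] PolLaw.image F.law)) [hP : P.IsPrime]
    (hα : RingHom.ker α = P.comap (algebraMap A' _)) :
    ∃ ψ : A' ⊗[A] PolLaw.image F.law →ₐ[A] K,
      ψ.comp Algebra.TensorProduct.includeLeft = α ∧ RingHom.ker ψ = P := by
  let Z := (A' ⊗[A] PolLaw.image F.law) ⧸ P
  let iZ : CommRing Z := Ideal.Quotient.commRing P
  have := algebra_isIntegral_tensor (A' := A') F
  let q := P.comap (algebraMap A' (A' ⊗[A] PolLaw.image F.law))
  let g : A' ⧸ q →+* K := Ideal.Quotient.lift q α.toRingHom fun a ha => by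
    have h' : a ∈ RingHom.ker α := by rw [hα]; exact ha
    exact h'
  have hg : Function.Injective g :=
    RingHom.lift_injective_of_ker_le_ideal q _ (le_of_eq hα)
  let qm : A' ⧸ q →+* Z :=
    Ideal.quotientMap P (algebraMap A' (A' ⊗[A] PolLaw.image F.law)) (I := q) le_rfl
  have hqm : Function.Injective qm := Ideal.quotientMap_injective' le_rfl
  algebraize [g, qm]
  have : IsScalarTower A' (A' ⧸ q) Z := IsScalarTower.of_algebraMap_eq fun a => rfl
  have : Algebra.IsIntegral (A' ⧸ q) Z := by
    refine ⟨fun x => ?_⟩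
    obtain ⟨t, rfl⟩ := Ideal.Quotient.mk_surjective x
    exact ((Algebra.IsIntegral.isIntegral (R := A') t).map (Ideal.Quotient.mkₐ A' P)).tower_top
  have : Module.IsTorsionFree (A' ⧸ q) Z :=
    Module.isTorsionFree_iff_algebraMap_injective.mpr hqm
  have : Module.IsTorsionFree (A' ⧸ q) K := Module.isTorsionFree_iff_algebraMap_injective.mpr hg
  have : Algebra.IsAlgebraic (A' ⧸ q) Z := Algebra.IsIntegral.isAlgebraic
  let Φ : Z →ₐ[A' ⧸ q] K := IsAlgClosed.lift
  have hΦ : ∀ a : A', Φ (Ideal.Quotient.mk P (algebraMap A' _ a)) = α a := fun a =>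
    Φ.commutes (Ideal.Quotient.mk q a)
  refine ⟨{ Φ.toRingHom.comp (Ideal.Quotient.mk P) with commutes' := fun a => ?_ },
    AlgHom.ext fun a => hΦ a, ?_⟩
  · refine Eq.trans ?_ (α.commutes a)
    rw [← hΦ]
    rfl
  · refine le_antisymm (fun z hz => ?_) fun z hz => ?_
    · rw [← Ideal.Quotient.eq_zero_iff_mem]
      have hker : RingHom.ker Φ = ⊥ := by
        refine Ideal.eq_bot_of_comap_eq_bot (R := A' ⧸ q) ?_
        show Ideal.comap _ (RingHom.ker (Φ : Z →+* K)) = ⊥
        rw [RingHom.comap_ker]
        exact (RingHom.injective_iff_ker_eq_bot _).mp (by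
          rw [show ((Φ : Z →+* K).comp (algebraMap (A' ⧸ q) Z)) = g from Φ.comp_algebraMap]
          exact hg)
      exact (RingHom.ker_eq_bot_iff_eq_zero Φ).mp hker _ hz
    · show Φ (Ideal.Quotient.mk P z) = 0
      rw [Ideal.Quotient.eq_zero_iff_mem.mpr hz, map_zero]

/-- At most `d` primes of the base-changed image lie over each prime. -/
theorem finite_over (q : Ideal A') [q.IsPrime] :
    Finite {P : PrimeSpectrum (A' ⊗[A] PolLaw.image F.law) //
        P.asIdeal.comap (algebraMap A' _) = q} ∧
      Nat.card {P : PrimeSpectrum (A' ⊗[A] PolLaw.image F.law) //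
        P.asIdeal.comap (algebraMap A' _) = q} ≤ d := by
  let K := AlgebraicClosure q.ResidueField
  let α : A' →ₐ[A] K := IsScalarTower.toAlgHom A A' K
  have hα : RingHom.ker α = q := by
    show RingHom.ker (algebraMap A' K) = q
    rw [IsScalarTower.algebraMap_eq A' q.ResidueField K,
      RingHom.ker_comp_of_injective _ (algebraMap q.ResidueField K).injective,
      Ideal.ker_algebraMap_residueField]
  obtain ⟨β, hβ, β', hβ', hsurj⟩ := exists_image_points F (K := K)
  have key : ∀ P : {P : PrimeSpectrum (A' ⊗[A] PolLaw.image F.law) //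
      P.asIdeal.comap (algebraMap A' _) = q}, ∃ l, RingHom.ker (pairPt F α (β' l)) = P.1.asIdeal := by
    rintro ⟨⟨P, hP⟩, hPq⟩
    obtain ⟨ψ, hψ, hker⟩ := exists_hom_over F α P (by rw [hPq, hα])
    obtain ⟨l, hl⟩ := hsurj (ψ.comp Algebra.TensorProduct.includeRight)
    refine ⟨l, ?_⟩
    show _ = P
    rw [← hker, pairPt_ext F ψ, hψ, ← hl]
  choose ι hι using key
  have hinj : Function.Injective ι := by
    intro P P' h
    refine Subtype.ext (PrimeSpectrum.ext ?_)
    rw [← hι P, ← hι P', h]
  exact ⟨Finite.of_injective ι hinj, (Nat.card_le_card_of_injective ι hinj).trans_eq (Nat.card_fin d)⟩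

/-- Generisations lift to the base-changed image. -/
theorem exists_generization {q1 : Ideal A'} [q1.IsPrime]
    {P2 : Ideal (A' ⊗[A] PolLaw.image F.law)} [P2.IsPrime]
    (hle : q1 ≤ P2.comap (algebraMap A' _)) :
    ∃ P1 : Ideal (A' ⊗[A] PolLaw.image F.law), P1.IsPrime ∧ P1 ≤ P2 ∧
      P1.comap (algebraMap A' _) = q1 := by
  let q2 := P2.comap (algebraMap A' (A' ⊗[A] PolLaw.image F.law))
  let K := AlgebraicClosure q1.ResidueField
  let α1 : A' →ₐ[A] K := IsScalarTower.toAlgHom A A' K
  have hα1 : RingHom.ker α1 = q1 := by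
    show RingHom.ker (algebraMap A' K) = q1
    rw [IsScalarTower.algebraMap_eq A' q1.ResidueField K,
      RingHom.ker_comp_of_injective _ (algebraMap q1.ResidueField K).injective,
      Ideal.ker_algebraMap_residueField]
  have hunit : ∀ s : q2.primeCompl, IsUnit (α1 s) := fun s => by
    rw [isUnit_iff_ne_zero]
    intro h
    exact s.2 (hle (hα1 ▸ h))
  let f : Localization.AtPrime q2 →+* K := IsLocalization.lift (g := α1.toRingHom) hunit
  obtain ⟨V, hfV, hloc⟩ := IsLocalRing.exists_factor_valuationRing f
  let fV : Localization.AtPrime q2 →+* V := f.codRestrict V.toSubring hfV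
  let aV0 : A' →+* V := fV.comp (algebraMap A' _)
  algebraize [aV0.comp (algebraMap A A')]
  let π : V →+* IsLocalRing.ResidueField V := IsLocalRing.residue V
  let L := AlgebraicClosure (IsLocalRing.ResidueField V)
  let πL : V →ₐ[A] L := IsScalarTower.toAlgHom A V L
  have haV0 : ∀ a, ((aV0 a : V) : K) = α1 a := fun a => IsLocalization.lift_eq hunit a
  have hVA : ∀ a : A, ((algebraMap A V a : V) : K) = algebraMap A K a := fun a =>
    (haV0 _).trans (α1.commutes a)
  let aV : A' →ₐ[A] V := { aV0 with commutes' := fun a => rfl }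
  let vK : V →ₐ[A] K := { V.subtype with commutes' := hVA }
  have hq2 : ∀ a, (πL.comp aV) a = 0 ↔ a ∈ q2 := by
    intro a
    show algebraMap V L (aV0 a) = 0 ↔ _
    rw [IsScalarTower.algebraMap_apply V (IsLocalRing.ResidueField V) L, map_eq_zero,
      IsLocalRing.ResidueField.algebraMap_eq, IsLocalRing.residue_eq_zero_iff,
      IsLocalRing.mem_maximalIdeal, mem_nonunits_iff]
    constructor
    · intro h
      by_contra ha
      exact h ((IsLocalization.map_units (Localization.AtPrime q2) (⟨a, ha⟩ : q2.primeCompl)).map fV)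
    · intro ha hu
      have : IsUnit (algebraMap A' (Localization.AtPrime q2) a) := hloc.map_nonunit _ hu
      rw [IsLocalization.AtPrime.isUnit_to_map_iff _ q2] at this
      exact this ha
  obtain ⟨β, hβ, β', hβ', hsurj⟩ := exists_image_points F (K := K)
  have := image_isIntegral F
  have hmem : ∀ l (z : PolLaw.image F.law), β' l z ∈ V := by
    intro l z
    have hint : IsIntegral V (β' l z) := by
      have h1 : IsIntegral A (β' l z) := (Algebra.IsIntegral.isIntegral (R := A) z).map (β' l)
      have : IsScalarTower A V K := IsScalarTower.of_algebraMap_eq fun a => (hVA a).symm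
      exact h1.tower_top
    obtain ⟨y, hy⟩ := IsIntegrallyClosed.algebraMap_eq_of_integral hint
    rw [← hy]
    exact y.2
  let γ : Fin d → (PolLaw.image F.law →ₐ[A] V) := fun l =>
    { toFun := fun z => ⟨β' l z, hmem l z⟩
      map_one' := Subtype.ext (map_one (β' l))
      map_mul' := fun x y => Subtype.ext (map_mul (β' l) x y)
      map_zero' := Subtype.ext (map_zero (β' l))
      map_add' := fun x y => Subtype.ext (map_add (β' l) x y)
      commutes' := fun a => Subtype.ext (((β' l).commutes a).trans (hVA a).symm) }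
  let δ : Fin d → (B →ₐ[A] V) := fun l => (γ l).comp (Ideal.Quotient.mkₐ A (PolLaw.ker F.law))
  have hδ : ∀ l, vK.comp (δ l) = β l := fun l => (by rw [← hβ' l]; rfl)
  have hbar : ∀ (S : Type u) [CommRing S] [Algebra A S] (i : L →ₐ[A] S) (x : S ⊗[A] B),
      ev F (i.comp (Algebra.ofId A L)) x = ∏ l, evMap (i.comp (πL.comp (δ l))) x := by
    intro S _ _ i x
    let E : Fam A B V d :=
      { val := fun _ _ _ g y => ∏ l, evMap (g.comp (δ l)) y
        natural := fun h g y => by
          rw [map_prod]
          exact Finset.prod_congr rfl fun l _ => by rw [AlgHom.comp_assoc, evMap_natural]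
        map_one := fun g => by simp
        map_mul := fun g y y' => by simp [Finset.prod_mul_distrib]
        map_smul := fun g s y => by simp [evMap_smul, Finset.prod_mul_distrib] }
    have hlaw : F.postcomp (Algebra.ofId A V) = E.toLaw := by
      refine mulLaw_ext_free fun R _ _ _ y => ?_
      apply lTensor_injective (i := vK.toLinearMap) Subtype.val_injective (R := R)
      rw [← lT_eq, ← lT_eq, ← ev_self (F.postcomp (Algebra.ofId A V)) y, ← ev_self E.toLaw y,
        Fam.ev_toLaw, ev_postcomp]
      rw [← AlgHom.restrictScalars_apply A (lT vK R), ← AlgHom.restrictScalars_apply A (lT vK R),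
        ← ev_natural, map_prod]
      have hn : ((lT vK R).restrictScalars A).comp
          ((Algebra.TensorProduct.includeRight : V →ₐ[A] R ⊗[A] V).comp (Algebra.ofId A V)) =
          (Algebra.TensorProduct.includeRight : K →ₐ[A] R ⊗[A] K).comp (Algebra.ofId A K) :=
        Subsingleton.elim _ _
      rw [hn, hβ]
      refine Finset.prod_congr rfl fun l _ => ?_
      rw [← evMap_natural, ← hδ]
      congr 2
    rw [Subsingleton.elim (i.comp (Algebra.ofId A L)) ((i.comp πL).comp (Algebra.ofId A V)),
      ← ev_postcomp, hlaw, Fam.ev_toLaw]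
    rfl
  obtain ⟨ψ, hψ, hker⟩ := exists_hom_over F (K := L) (πL.comp aV) P2 (SetLike.ext hq2)
  obtain ⟨l, hl⟩ := exists_point_eq F hbar
    ((ψ.comp Algebra.TensorProduct.includeRight).comp (Ideal.Quotient.mkₐ A (PolLaw.ker F.law)))
    fun b hb => by
      show ψ ((1 : A') ⊗ₜ[A] Ideal.Quotient.mk _ b) = 0
      rw [Ideal.Quotient.eq_zero_iff_mem.mpr hb, TensorProduct.tmul_zero, map_zero]
  let ΨV : A' ⊗[A] PolLaw.image F.law →ₐ[A] V :=
    Algebra.TensorProduct.lift aV (γ l) fun _ _ => Commute.all _ _
  have hψV : ψ = πL.comp ΨV := by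
    refine Algebra.TensorProduct.ext ?_ ?_
    · refine AlgHom.ext fun a => ?_
      have := AlgHom.congr_fun hψ a
      simpa [ΨV] using this
    · refine AlgHom.ext fun z => ?_
      obtain ⟨b, rfl⟩ := Ideal.Quotient.mk_surjective z
      have := AlgHom.congr_fun hl b
      simpa [ΨV, δ] using this.symm
  refine ⟨RingHom.ker ΨV, RingHom.ker_isPrime ΨV, fun z hz => ?_, SetLike.ext fun a => ?_⟩
  · rw [← hker, RingHom.mem_ker, hψV, AlgHom.comp_apply, (RingHom.mem_ker).mp hz, map_zero]
  · rw [Ideal.mem_comap, RingHom.mem_ker, ← SetLike.ext_iff.mp hα1, RingHom.mem_ker]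
    have : ((ΨV (algebraMap A' _ a) : V) : K) = α1 a := by
      rw [Algebra.TensorProduct.algebraMap_apply]
      simp [ΨV, aV, haV0]
    rw [← this]
    exact (ZeroMemClass.coe_eq_zero).symm

/-- The base-changed image is open over the base. -/
theorem isOpenMap_comap :
    IsOpenMap (PrimeSpectrum.comap (algebraMap A' (A' ⊗[A] PolLaw.image F.law))) := by
  classical
  refine PrimeSpectrum.isTopologicalBasis_basic_opens.isOpenMap_iff.mpr ?_
  rintro _ ⟨f, rfl⟩
  obtain ⟨g, rfl⟩ : ∃ g : A' ⊗[A] B, lT (Ideal.Quotient.mkₐ A (PolLaw.ker F.law)) A' g = f :=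
    lT_surjective (Ideal.Quotient.mkₐ_surjective A _) A' f
  let Ci : A' →ₐ[A] Polynomial A' := IsScalarTower.toAlgHom A A' (Polynomial A')
  let χ : Polynomial A' :=
    nrm F (Polynomial A') (rT B Ci g - (Polynomial.X : Polynomial A') • 1) - (-Polynomial.X) ^ d
  have himage : PrimeSpectrum.comap (algebraMap A' (A' ⊗[A] PolLaw.image F.law)) ''
      (PrimeSpectrum.basicOpen (lT (Ideal.Quotient.mkₐ A (PolLaw.ker F.law)) A' g) : Set _) =
      ⋃ n, (PrimeSpectrum.basicOpen (χ.coeff n) : Set (PrimeSpectrum A')) := by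
    ext q
    let K := AlgebraicClosure q.asIdeal.ResidueField
    let α : A' →ₐ[A] K := IsScalarTower.toAlgHom A A' K
    have hα : RingHom.ker α = q.asIdeal := by
      show RingHom.ker (algebraMap A' K) = q.asIdeal
      rw [IsScalarTower.algebraMap_eq A' q.asIdeal.ResidueField K,
        RingHom.ker_comp_of_injective _ (algebraMap q.asIdeal.ResidueField K).injective,
        Ideal.ker_algebraMap_residueField]
    obtain ⟨β, hβ, β', hβ', hsurj⟩ := exists_image_points F (K := K)
    have hval : ∀ l, pairPt F α (β' l) (lT (Ideal.Quotient.mkₐ A (PolLaw.ker F.law)) A' g) =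
        evMap (β l) (rT B α g) := by
      intro l
      generalize g = y
      induction y using TensorProduct.induction_on with
      | zero => simp
      | add a b ha hb => simp only [map_add, ha, hb]
      | tmul a b => simp [pairPt_tmul, ← hβ' l]
    let mα : Polynomial A' →ₐ[A] Polynomial K := Polynomial.mapAlgHom α
    have hprod : mα χ = (∏ l, (Polynomial.C (evMap (β l) (rT B α g)) - Polynomial.X)) -
        (-Polynomial.X) ^ d := by
      simp only [χ, map_sub, map_pow, map_neg]
      have hX : mα Polynomial.X = Polynomial.X := by simp [mα]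
      rw [hX, ← nrm_natural, map_sub, rT_comp, rT_smul, map_one, hX,
        ← ev_eq_nrm F ((IsScalarTower.toAlgHom A K (Polynomial K)).comp (Algebra.ofId A K)), hβ]
      congr 1
      refine Finset.prod_congr rfl fun l _ => ?_
      rw [map_sub, evMap_smul, map_one, mul_one]
      congr 1
      have : mα.comp Ci = (IsScalarTower.toAlgHom A K (Polynomial K)).comp α :=
        AlgHom.ext fun a => by simp [mα, Ci]
      rw [this, ← rT_comp, evMap_natural]
      rfl
    have hiff : (∀ n, χ.coeff n ∈ q.asIdeal) ↔ ∀ l, evMap (β l) (rT B α g) = 0 := by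
      constructor
      · intro h l
        have h0 : mα χ = 0 := by
          refine Polynomial.ext fun n => ?_
          simp only [mα, Polynomial.coe_mapAlgHom, Polynomial.coeff_map, Polynomial.coeff_zero]
          exact (SetLike.ext_iff.mp hα _).mpr (h n)
        rw [hprod, sub_eq_zero] at h0
        have h1 := congr_arg (Polynomial.eval (evMap (β l) (rT B α g))) h0
        rw [Polynomial.eval_prod, Finset.prod_eq_zero (Finset.mem_univ l) (by simp)] at h1
        simp only [Polynomial.eval_pow, Polynomial.eval_neg, Polynomial.eval_X] at h1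
        by_contra hne
        exact pow_ne_zero _ (neg_ne_zero.mpr hne) h1.symm
      · intro h n
        rw [← SetLike.ext_iff.mp hα, RingHom.mem_ker]
        have h0 : mα χ = 0 := by
          rw [hprod]
          simp [h]
        have := congr_arg (fun p => Polynomial.coeff p n) h0
        simpa [mα] using this
    simp only [Set.mem_image, SetLike.mem_coe, PrimeSpectrum.mem_basicOpen, Set.mem_iUnion]
    constructor
    · rintro ⟨P, hPf, hPq⟩
      by_contra hcon
      push Not at hcon
      have hzero := hiff.mp hcon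
      have hPq' : P.asIdeal.comap (algebraMap A' _) = q.asIdeal := congr_arg PrimeSpectrum.asIdeal hPq
      obtain ⟨ψ, hψ, hker⟩ := exists_hom_over F α P.asIdeal (by rw [hPq', hα])
      obtain ⟨l, hl⟩ := hsurj (ψ.comp Algebra.TensorProduct.includeRight)
      apply hPf
      rw [← hker, RingHom.mem_ker, pairPt_ext F ψ, hψ, ← hl, hval, hzero]
    · intro hcon
      have : ¬ ∀ l, evMap (β l) (rT B α g) = 0 := fun h => by
        obtain ⟨n, hn⟩ := hcon
        exact hn (hiff.mpr h n)
      push Not at this
      obtain ⟨l, hl⟩ := this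
      refine ⟨⟨RingHom.ker (pairPt F α (β' l)), RingHom.ker_isPrime _⟩, ?_, PrimeSpectrum.ext ?_⟩
      · rw [RingHom.mem_ker, hval]
        exact hl
      · refine SetLike.ext fun a => ?_
        show pairPt F α (β' l) (algebraMap A' _ a) = 0 ↔ a ∈ q.asIdeal
        rw [← SetLike.ext_iff.mp hα, RingHom.mem_ker, Algebra.TensorProduct.algebraMap_apply,
          pairPt_tmul, map_one, mul_one]
        rfl
  rw [himage]
  exact isOpen_iUnion fun n => (PrimeSpectrum.basicOpen _).isOpen

end Fibre

end ZeroCyc
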