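import Groth.Agent.ZeroCyc.Apps

/-!
# The generic test for membership in the kernel, `B` finite
-/

universe u

open scoped TensorProduct

noncomputable section

namespace ZeroCyc

variable {A : Type u} [CommRing A] {B : Type u} [CommRing B] [Algebra A B] {d : ℕ}
  (F : PolLaw.MulLaw A B A d) {n : ℕ} (e : Fin n → B) {A' : Type u} [CommRing A'] [Algebra A A']

variable (A') in
/-- The generic element in the first block of variables. -/
def genX : MvPolynomial (Fin n ⊕ Fin n) A' ⊗[A] B :=
  ∑ i, MvPolynomial.X (Sum.inl i) ⊗ₜ[A] e i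

variable (A') in
/-- The generic element in the second block of variables. -/
def genW : MvPolynomial (Fin n ⊕ Fin n) A' ⊗[A] B :=
  ∑ i, MvPolynomial.X (Sum.inr i) ⊗ₜ[A] e i

/-- The inclusion of the constants. -/
abbrev cstMap : A' →ₐ[A] MvPolynomial (Fin n ⊕ Fin n) A' := IsScalarTower.toAlgHom A A' _

/-- The generic defect of invariance of `F` under translation by a multiple of `b'`. -/
def genTest (b' : A' ⊗[A] B) : MvPolynomial (Fin n ⊕ Fin n) A' :=
  nrm F _ (genX e A' + genW e A' * rT B (cstMap (n := n)) b') - nrm F _ (genX e A')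

theorem genTest_eq_zero_of_mem {b' : A' ⊗[A] B} (hb : b' ∈ PolLaw.kerBC F.law A') :
    genTest F e b' = 0 :=
  sub_eq_zero.mpr ((mem_kerBC_iff_hom F A').mp hb _ cstMap _ _)

theorem exists_repr (he : Submodule.span A (Set.range e) = ⊤) {R : Type u} [CommRing R] [Algebra A R]
    (x : R ⊗[A] B) : ∃ r : Fin n → R, ∑ i, r i ⊗ₜ[A] e i = x := by
  induction x using TensorProduct.induction_on with
  | zero => exact ⟨0, by simp⟩
  | add a b ha hb =>
    obtain ⟨r, rfl⟩ := ha
    obtain ⟨r', rfl⟩ := hb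
    exact ⟨r + r', by simp [TensorProduct.add_tmul, Finset.sum_add_distrib]⟩
  | tmul s b =>
    obtain ⟨c, rfl⟩ := (Submodule.mem_span_range_iff_exists_fun A).mp (he ▸ Submodule.mem_top : b ∈ Submodule.span A (Set.range e))
    exact ⟨fun i => c i • s, by simp [TensorProduct.tmul_sum, TensorProduct.smul_tmul]⟩

theorem mem_kerBC_of_genTest (he : Submodule.span A (Set.range e) = ⊤) {b' : A' ⊗[A] B}
    (h : genTest F e b' = 0) : b' ∈ PolLaw.kerBC F.law A' := by
  rw [mem_kerBC_iff_hom]
  intro R _ _ a x w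
  obtain ⟨r, rfl⟩ := exists_repr e he x
  obtain ⟨r', rfl⟩ := exists_repr e he w
  let ev' : MvPolynomial (Fin n ⊕ Fin n) A' →ₐ[A] R :=
    { MvPolynomial.eval₂Hom a.toRingHom (Sum.elim r r') with
      commutes' := fun c => by
        show MvPolynomial.eval₂Hom a.toRingHom (Sum.elim r r') (algebraMap A _ c) = _
        rw [IsScalarTower.algebraMap_apply A A' (MvPolynomial (Fin n ⊕ Fin n) A'),
          MvPolynomial.algebraMap_eq, MvPolynomial.eval₂Hom_C]
        exact a.commutes c }
  have hX : ∀ v, ev' (MvPolynomial.X v) = Sum.elim r r' v := fun v =>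
    MvPolynomial.eval₂Hom_X' a.toRingHom _ v
  have hc : ev'.comp (cstMap (n := n)) = a :=
    AlgHom.ext fun c => MvPolynomial.eval₂Hom_C a.toRingHom _ c
  have hx : rT B ev' (genX e A') = ∑ i, r i ⊗ₜ[A] e i := by
    simp [genX, hX]
  have hw : rT B ev' (genW e A') = ∑ i, r' i ⊗ₜ[A] e i := by
    simp [genW, hX]
  have h' := congr_arg ev' (sub_eq_zero.mp h)
  rw [← nrm_natural, ← nrm_natural, map_add, map_mul, rT_comp, hc, hx, hw] at h'
  exact h'

theorem mem_ker_iff_kerBC_self {b : B} :
    (1 : A) ⊗ₜ[A] b ∈ PolLaw.kerBC F.law A ↔ b ∈ PolLaw.ker F.law := by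
  rw [mem_kerBC_iff_hom, mem_ker_iff]
  constructor
  · intro h S _ _ x w
    have := h S (Algebra.ofId A S) x w
    rwa [rT_tmul, map_one] at this
  · intro h R _ _ a x w
    rw [rT_tmul, map_one]
    exact h R x w

theorem genTest_natural {A'' : Type u} [CommRing A''] [Algebra A A''] (h : A' →ₐ[A] A'')
    (b' : A' ⊗[A] B) : MvPolynomial.mapAlgHom h (genTest F e b') = genTest F e (rT B h b') := by
  have hc : (MvPolynomial.mapAlgHom h).comp (cstMap (n := n)) = (cstMap (n := n)).comp h :=
    AlgHom.ext fun c => MvPolynomial.map_C h.toRingHom c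
  have hX : rT B (MvPolynomial.mapAlgHom h) (genX e A') = genX e A'' := by
    simp [genX]
  have hW : rT B (MvPolynomial.mapAlgHom h) (genW e A') = genW e A'' := by
    simp [genW]
  rw [genTest, genTest, map_sub, ← nrm_natural, ← nrm_natural, map_add, map_mul, rT_comp, hc,
    ← rT_comp, hX, hW]

/-- Scale the second block of variables. -/
def scaleW (c : A') : MvPolynomial (Fin n ⊕ Fin n) A' →ₐ[A'] MvPolynomial (Fin n ⊕ Fin n) A' :=
  MvPolynomial.aeval (Sum.elim (fun i => MvPolynomial.X (Sum.inl i))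
    (fun i => MvPolynomial.C c * MvPolynomial.X (Sum.inr i)))

theorem coeff_scaleW (c : A') (p : MvPolynomial (Fin n ⊕ Fin n) A') (α : (Fin n ⊕ Fin n) →₀ ℕ) :
    MvPolynomial.coeff α (scaleW c p) = c ^ (∑ i, α (Sum.inr i)) * MvPolynomial.coeff α p := by
  classical
  induction p using MvPolynomial.induction_on' with
  | add p q hp hq => simp only [map_add, MvPolynomial.coeff_add, hp, hq, mul_add]
  | monomial β a =>
    have : scaleW c (MvPolynomial.monomial β a) =
        MvPolynomial.monomial β (c ^ (∑ i, β (Sum.inr i)) * a) := by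
      rw [scaleW, MvPolynomial.aeval_monomial, MvPolynomial.algebraMap_eq,
        MvPolynomial.monomial_eq, Finsupp.prod_fintype _ _ fun _ => pow_zero _,
        Finsupp.prod_fintype _ _ fun _ => pow_zero _, Fintype.prod_sum_type, Fintype.prod_sum_type]
      simp only [Sum.elim_inl, Sum.elim_inr, mul_pow, Finset.prod_mul_distrib,
        Finset.prod_pow_eq_pow_sum, map_mul, map_pow]
      ring
    rw [this, MvPolynomial.coeff_monomial, MvPolynomial.coeff_monomial]
    split_ifs with hαβ
    · rw [hαβ]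
    · rw [mul_zero]

theorem genTest_smul (c : A') (b' : A' ⊗[A] B) :
    genTest F e (c • b') = scaleW c (genTest F e b') := by
  let σ := (scaleW (n := n) c).restrictScalars A
  have hc : σ.comp (cstMap (n := n)) = cstMap :=
    AlgHom.ext fun x => MvPolynomial.aeval_C _ x
  have hX : rT B σ (genX e A') = genX e A' := by
    simp [genX, σ, scaleW]
  have hW : rT B σ (genW e A') = (MvPolynomial.C c : MvPolynomial (Fin n ⊕ Fin n) A') • genW e A' := by
    simp only [genW, map_sum, rT_tmul, Finset.smul_sum, TensorProduct.smul_tmul', smul_eq_mul]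
    refine Finset.sum_congr rfl fun i _ => ?_
    simp [σ, scaleW]
  show _ = σ (genTest F e b')
  rw [genTest, genTest, map_sub, ← nrm_natural, ← nrm_natural, map_add, map_mul, rT_comp, hc, hX, hW,
    rT_smul, mul_smul_comm, smul_mul_assoc]
  rfl

/-- Coefficients free of the second block of variables vanish. -/
theorem coeff_genTest_eq_zero (b' : A' ⊗[A] B) {α : (Fin n ⊕ Fin n) →₀ ℕ}
    (hα : ∑ i, α (Sum.inr i) = 0) : MvPolynomial.coeff α (genTest F e b') = 0 := by
  have h0 : genTest F e ((0 : A') • b') = 0 := by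
    rw [zero_smul, genTest, map_zero, mul_zero, add_zero, sub_self]
  have := coeff_scaleW 0 (genTest F e b') α
  rw [← genTest_smul, h0, hα, pow_zero, one_mul, MvPolynomial.coeff_zero] at this
  exact this.symm

/-- For `B` finite the kernel commutes with localisation. -/
theorem kerBC_eq_map_of_isLocalization [Module.Finite A B] (M : Submonoid A)
    [IsLocalization M A'] :
    (PolLaw.ker F.law).map (Algebra.TensorProduct.includeRight : B →ₐ[A] A' ⊗[A] B) =
      PolLaw.kerBC F.law A' := by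
  refine le_antisymm (map_ker_le_kerBC F A') fun b' hb' => ?_
  obtain ⟨n, e, he⟩ := Module.Finite.exists_fin (R := A) (M := B)
  obtain ⟨m, b, hmb⟩ : ∃ (m : M) (b : B), algebraMap A A' m • b' = (1 : A') ⊗ₜ[A] b := by
    clear hb'
    induction b' using TensorProduct.induction_on with
    | zero => exact ⟨1, 0, by simp⟩
    | add x y hx hy =>
      obtain ⟨m, b, hm⟩ := hx
      obtain ⟨m', b', hm'⟩ := hy
      refine ⟨m * m', (m' : A) • b + (m : A) • b', ?_⟩
      rw [smul_add, Submonoid.coe_mul, map_mul, TensorProduct.tmul_add, TensorProduct.tmul_smul,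
        TensorProduct.tmul_smul, ← hm, ← hm', algebraMap_smul, algebraMap_smul]
      congr 1
      · rw [mul_comm, mul_smul, algebraMap_smul, algebraMap_smul]
      · rw [mul_smul, algebraMap_smul, algebraMap_smul]
    | tmul a b =>
      obtain ⟨r, m, rfl⟩ := IsLocalization.exists_mk'_eq M a
      refine ⟨m, r • b, ?_⟩
      rw [TensorProduct.smul_tmul', smul_eq_mul, mul_comm, IsLocalization.mk'_spec,
        Algebra.algebraMap_eq_smul_one, TensorProduct.smul_tmul]
  have hu : IsUnit (algebraMap A A' m) := IsLocalization.map_units A' m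
  have hmem : (1 : A') ⊗ₜ[A] b ∈ PolLaw.kerBC F.law A' := by
    rw [← hmb, smul_eq_tmul_mul]
    exact Ideal.mul_mem_left _ _ hb'
  let p := genTest F e ((1 : A) ⊗ₜ[A] b)
  have hp : ∀ α, algebraMap A A' (MvPolynomial.coeff α p) = 0 := by
    intro α
    have h := genTest_eq_zero_of_mem F e hmem
    rw [show (1 : A') ⊗ₜ[A] b = rT B (Algebra.ofId A A') ((1 : A) ⊗ₜ[A] b) by
      rw [rT_tmul, map_one], ← genTest_natural] at h
    have := congr_arg (MvPolynomial.coeff α) h
    rwa [MvPolynomial.mapAlgHom_apply, MvPolynomial.coeff_map, MvPolynomial.coeff_zero] at this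
  choose ms hms using fun α => (IsLocalization.map_eq_zero_iff M A' _).mp (hp α)
  let m0 : M := p.support.prod ms
  have hm0 : ∀ α, (m0 : A) * MvPolynomial.coeff α p = 0 := by
    intro α
    by_cases hα : α ∈ p.support
    · obtain ⟨c, hc⟩ : (ms α : A) ∣ (m0 : A) :=
        map_dvd M.subtype (Finset.dvd_prod_of_mem ms hα)
      rw [hc, mul_comm (ms α : A), mul_assoc, hms, mul_zero]
    · rw [MvPolynomial.notMem_support_iff.mp hα, mul_zero]
  have hker : (m0 : A) • b ∈ PolLaw.ker F.law := by
    rw [← mem_ker_iff_kerBC_self, TensorProduct.tmul_smul]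
    refine mem_kerBC_of_genTest F e he (MvPolynomial.ext _ _ fun α => ?_)
    rw [genTest_smul, coeff_scaleW, MvPolynomial.coeff_zero]
    rcases Nat.eq_zero_or_pos (∑ i, α (Sum.inr i)) with h0 | h0
    · rw [coeff_genTest_eq_zero F e _ h0, mul_zero]
    · obtain ⟨k, hk⟩ := Nat.exists_eq_add_of_le h0
      rw [hk, pow_add, pow_one, mul_comm ((m0 : A)), mul_assoc, hm0, mul_zero]
  obtain ⟨v, hv⟩ := isUnit_iff_exists_inv'.mp (hu.mul (IsLocalization.map_units A' m0))
  have hfinal : b' = v • ((1 : A') ⊗ₜ[A] ((m0 : A) • b)) := by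
    rw [TensorProduct.tmul_smul, ← hmb, ← algebraMap_smul A' (m0 : A), smul_smul, smul_smul,
      mul_assoc, mul_comm (algebraMap A A' m0) (algebraMap A A' m), hv, one_smul]
  rw [hfinal, smul_eq_tmul_mul]
  exact Ideal.mul_mem_left _ _ (Ideal.mem_map_of_mem _ hker)

/-- For `B` finite the kernel commutes with filtered colimits of the base. -/
theorem kerBC_colimit [Module.Finite A B] {ι : Type u} [Preorder ι]
    [IsDirected ι (fun i j => i ≤ j)] [Nonempty ι]
    (Ai : ι → Type u) [∀ i, CommRing (Ai i)] [∀ i, Algebra A (Ai i)]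
    (t : ∀ i j : ι, i ≤ j → (Ai i →ₐ[A] Ai j)) (φ : ∀ i : ι, Ai i →ₐ[A] A')
    (hcomp : ∀ (i j : ι) (h : i ≤ j), (φ j).comp (t i j h) = φ i)
    (hsurj : ∀ a : A', ∃ (i : ι) (x : Ai i), φ i x = a)
    (hzero : ∀ (i : ι) (x : Ai i), φ i x = 0 → ∃ (j : ι) (h : i ≤ j), t i j h x = 0)
    (htrans : ∀ (i j k : ι) (hij : i ≤ j) (hjk : j ≤ k),
      (t j k hjk).comp (t i j hij) = t i k (hij.trans hjk)) :
    PolLaw.kerBC F.law A' =
      ⨆ i : ι, (PolLaw.kerBC F.law (Ai i)).map (Algebra.TensorProduct.map (φ i) (AlgHom.id A B)) := by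
  classical
  refine le_antisymm (fun b' hb' => ?_) (iSup_le fun i => ?_)
  swap
  · rw [Ideal.map_le_iff_le_comap]
    intro x hx
    rw [Ideal.mem_comap, mem_kerBC_iff_hom]
    intro R _ _ a p q
    show nrm F R (p + q * rT B a (rT B (φ i) x)) = _
    rw [rT_comp]
    exact (mem_kerBC_iff_hom F (Ai i)).mp hx R _ p q
  obtain ⟨n, e, he⟩ := Module.Finite.exists_fin (R := A) (M := B)
  obtain ⟨i0, hi0⟩ : ∃ i, ∀ j, i ≤ j → ∃ y : Ai j ⊗[A] B, rT B (φ j) y = b' := by
    clear hb'
    induction b' using TensorProduct.induction_on with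
    | zero => exact ⟨Classical.arbitrary ι, fun j _ => ⟨0, map_zero _⟩⟩
    | add a b ha hb =>
      obtain ⟨i, hi⟩ := ha
      obtain ⟨k, hk⟩ := hb
      obtain ⟨l, hil, hkl⟩ := exists_ge_ge i k
      refine ⟨l, fun j hj => ?_⟩
      obtain ⟨y, hy⟩ := hi j (hil.trans hj)
      obtain ⟨y', hy'⟩ := hk j (hkl.trans hj)
      exact ⟨y + y', by rw [map_add, hy, hy']⟩
    | tmul a b =>
      obtain ⟨i, x, rfl⟩ := hsurj a
      exact ⟨i, fun j hj => ⟨t i j hj x ⊗ₜ[A] b, by rw [rT_tmul, ← AlgHom.comp_apply, hcomp]⟩⟩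
  obtain ⟨y, rfl⟩ := hi0 i0 le_rfl
  let p := genTest F e y
  have hp : ∀ α, φ i0 (MvPolynomial.coeff α p) = 0 := by
    intro α
    have h := genTest_eq_zero_of_mem F e hb'
    rw [← genTest_natural] at h
    have := congr_arg (MvPolynomial.coeff α) h
    rwa [MvPolynomial.mapAlgHom_apply, MvPolynomial.coeff_map, MvPolynomial.coeff_zero] at this
  choose js hjs hts using fun α => hzero i0 _ (hp α)
  obtain ⟨k, hk⟩ := Finset.exists_le (insert i0 (p.support.image js))
  have hik : i0 ≤ k := hk i0 (Finset.mem_insert_self _ _)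
  have hyk : rT B (t i0 k hik) y ∈ PolLaw.kerBC F.law (Ai k) := by
    refine mem_kerBC_of_genTest F e he (MvPolynomial.ext _ _ fun α => ?_)
    rw [← genTest_natural, MvPolynomial.mapAlgHom_apply, MvPolynomial.coeff_map, MvPolynomial.coeff_zero]
    show t i0 k hik (MvPolynomial.coeff α p) = 0
    by_cases hα : α ∈ p.support
    · have hjk : js α ≤ k := hk _ (Finset.mem_insert_of_mem (Finset.mem_image_of_mem js hα))
      rw [← htrans i0 (js α) k (hjs α) hjk, AlgHom.comp_apply, hts, map_zero]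
    · rw [MvPolynomial.notMem_support_iff.mp hα, map_zero]
  refine Submodule.mem_iSup_of_mem k ?_
  have := Ideal.mem_map_of_mem (Algebra.TensorProduct.map (φ k) (AlgHom.id A B)) hyk
  rw [show Algebra.TensorProduct.map (φ k) (AlgHom.id A B) (rT B (t i0 k hik) y) =
    rT B (φ i0) y from (rT_comp _ _ _ _).trans (by rw [hcomp])] at this
  exact this

end ZeroCyc
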