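import Groth.Agent.ZeroCyc.Apps
import Mathlib.RingTheory.AdjoinRoot
import Mathlib.RingTheory.Flat.FaithfullyFlat.Algebra
import Mathlib.LinearAlgebra.Vandermonde
import Mathlib.FieldTheory.Separable

/-!
# The kernel and separable monogenic base change
-/

universe u

open scoped TensorProduct

noncomputable section

namespace ZeroCyc

variable {A : Type u} [CommRing A] {B : Type u} [CommRing B] [Algebra A B] {d : ℕ}
  (F : PolLaw.MulLaw A B A d)

theorem mem_ker_of_mem_kerBC {E : Type u} [CommRing E] [Algebra A E] [Module.FaithfullyFlat A E]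
    {b : B} (hb : (1 : E) ⊗ₜ[A] b ∈ PolLaw.kerBC F.law E) : b ∈ PolLaw.ker F.law := by
  rw [mem_ker_iff]
  intro S _ _ x w
  let iS : S →ₐ[A] S ⊗[A] E := Algebra.TensorProduct.includeLeft
  have hinj : Function.Injective iS :=
    fun a b h => Module.FaithfullyFlat.tensorProduct_mk_injective (A := A) (B := E) S
      (by simpa [iS] using congr_arg (TensorProduct.comm A S E) h)
  refine hinj ?_
  rw [← nrm_natural, ← nrm_natural, map_add, map_mul]
  have h := (mem_kerBC_iff_hom F E).mp hb (S ⊗[A] E) Algebra.TensorProduct.includeRight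
    (rT B iS x) (rT B iS w)
  rwa [rT_tmul, map_one] at h ⊢

theorem isUnit_root_sub {E : Type u} [CommRing E] {n : ℕ} {r : Fin n → E}
    (h : (∏ i, (Polynomial.X - Polynomial.C (r i))).Separable) {i j : Fin n} (hij : i ≠ j) :
    IsUnit (r i - r j) := by
  classical
  rw [← Finset.mul_prod_erase _ _ (Finset.mem_univ i), ← Finset.mul_prod_erase _ _
    (Finset.mem_erase.mpr ⟨hij.symm, Finset.mem_univ j⟩), ← mul_assoc] at h
  obtain ⟨u, v, huv⟩ := (h.of_mul_left).isCoprime
  have := congr_arg (Polynomial.eval (r i)) huv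
  simp only [Polynomial.eval_add, Polynomial.eval_mul, Polynomial.eval_sub, Polynomial.eval_X,
    Polynomial.eval_C, sub_self, mul_zero, zero_add, Polynomial.eval_one] at this
  exact IsUnit.of_mul_eq_one (Polynomial.eval (r i) v) (by rw [mul_comm, this])

theorem kerBC_adjoinRoot (g : Polynomial A) (hg : g.Monic) (hsep : g.Separable) :
    (PolLaw.ker F.law).map (Algebra.TensorProduct.includeRight : B →ₐ[A] AdjoinRoot g ⊗[A] B) =
      PolLaw.kerBC F.law (AdjoinRoot g) := by
  classical
  refine le_antisymm (map_ker_le_kerBC F _) fun b' hb' => ?_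
  rcases subsingleton_or_nontrivial A with hA | hA
  · have : Subsingleton (AdjoinRoot g ⊗[A] B) := Module.subsingleton A _
    rw [Subsingleton.elim b' 0]
    exact zero_mem _
  obtain ⟨E, _, _, _, _, _, hE⟩ := hg.exists_splits_map
  obtain ⟨m, hm⟩ := Polynomial.splits_iff_exists_multiset.mp hE
  rw [(hg.map _).leadingCoeff, map_one, one_mul] at hm
  let r : Fin m.toList.length → E := fun i => m.toList[i]
  have hprod : g.map (algebraMap A E) = ∏ i, (Polynomial.X - Polynomial.C (r i)) := by
    rw [hm, ← List.prod_ofFn]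
    conv_lhs => rw [← m.coe_toList, Multiset.map_coe, Multiset.prod_coe]
    congr 1
    exact (List.ofFn_getElem_eq_map m.toList _).symm
  have hlen : m.toList.length = g.natDegree := by
    have := congr_arg Polynomial.natDegree hprod
    rw [hg.natDegree_map, Polynomial.natDegree_finsetProd_X_sub_C_eq_card, Finset.card_univ,
      Fintype.card_fin] at this
    exact this.symm
  let pb := AdjoinRoot.powerBasis' hg
  obtain ⟨c, rfl⟩ : ∃ c : Fin g.natDegree → B, ∑ i, pb.basis i ⊗ₜ[A] c i = b' := by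
    let e := TensorProduct.equivFinsuppOfBasisLeft (N := B) pb.basis
    refine ⟨fun i => e b' i, ?_⟩
    conv_rhs => rw [← e.symm_apply_apply b', TensorProduct.equivFinsuppOfBasisLeft_symm_apply,
      Finsupp.sum_fintype _ _ fun _ => TensorProduct.tmul_zero _ _]
  have key : ∀ j : Fin g.natDegree, ∑ i : Fin g.natDegree,
      ((r (Fin.cast hlen.symm j)) ^ (i : ℕ)) ⊗ₜ[A] c i ∈ PolLaw.kerBC F.law E := by
    intro j
    let a : AdjoinRoot g →ₐ[A] E := AdjoinRoot.liftAlgHom g (Algebra.ofId A E) (r (Fin.cast hlen.symm j)) (by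
      show Polynomial.eval₂ (algebraMap A E) _ g = 0
      rw [← Polynomial.eval_map, hprod, Polynomial.eval_prod]
      exact Finset.prod_eq_zero (Finset.mem_univ (Fin.cast hlen.symm j)) (by simp))
    have ha : a (AdjoinRoot.root g) = r (Fin.cast hlen.symm j) := AdjoinRoot.liftAlgHom_root _ _ _ _
    rw [mem_kerBC_iff_hom]
    intro R _ _ aR x w
    have h := (mem_kerBC_iff_hom F _).mp hb' R (aR.comp a) x w
    rw [← rT_comp] at h
    have e : rT B a (∑ i, pb.basis i ⊗ₜ[A] c i) =
        ∑ i : Fin g.natDegree, ((r (Fin.cast hlen.symm j)) ^ (i : ℕ)) ⊗ₜ[A] c i := by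
      rw [map_sum]
      refine Finset.sum_congr rfl fun i _ => ?_
      rw [rT_tmul, pb.coe_basis, map_pow, ← ha]
      rfl
    rwa [e] at h
  have hsepE : (∏ i, (Polynomial.X - Polynomial.C (r i))).Separable := hprod ▸ hsep.map
  let V : Matrix (Fin g.natDegree) (Fin g.natDegree) E :=
    Matrix.vandermonde fun j => r (Fin.cast hlen.symm j)
  have hdet : IsUnit V.det := by
    rw [Matrix.det_vandermonde, IsUnit.prod_iff]
    intro i _
    rw [IsUnit.prod_iff]
    intro j hj
    exact isUnit_root_sub hsepE fun h => (Finset.mem_Ioi.mp hj).ne' (Fin.cast_injective _ h)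
  have hc : ∀ i, c i ∈ PolLaw.ker F.law := by
    intro i
    refine mem_ker_of_mem_kerBC F (E := E) ?_
    have hVV : ∀ l, ∑ j, V⁻¹ i j * V j l = (1 : Matrix (Fin g.natDegree) (Fin g.natDegree) E) i l :=
      fun l => by rw [← Matrix.mul_apply, Matrix.nonsing_inv_mul V hdet]
    have e : (1 : E) ⊗ₜ[A] c i = ∑ j, (V⁻¹ i j ⊗ₜ[A] (1 : B)) *
        ∑ l : Fin g.natDegree, ((r (Fin.cast hlen.symm j)) ^ (l : ℕ)) ⊗ₜ[A] c l := by
      simp only [Finset.mul_sum, Algebra.TensorProduct.tmul_mul_tmul, one_mul]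
      rw [Finset.sum_comm]
      simp only [← TensorProduct.sum_tmul]
      rw [Finset.sum_eq_single i]
      · rw [show ∑ j, V⁻¹ i j * r (Fin.cast hlen.symm j) ^ (i : ℕ) = 1 from
          (hVV i).trans (Matrix.one_apply_eq i)]
      · intro l _ hl
        rw [show ∑ j, V⁻¹ i j * r (Fin.cast hlen.symm j) ^ (l : ℕ) = 0 from
          (hVV l).trans (Matrix.one_apply_ne hl.symm), TensorProduct.zero_tmul]
      · exact fun h => absurd (Finset.mem_univ i) h
    rw [e]
    exact sum_mem fun j _ => Ideal.mul_mem_left _ _ (key j)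
  refine sum_mem fun i _ => ?_
  have : pb.basis i ⊗ₜ[A] c i = (pb.basis i ⊗ₜ[A] (1 : B)) * (1 ⊗ₜ[A] c i) := by simp
  rw [this]
  exact Ideal.mul_mem_left _ _ (Ideal.mem_map_of_mem _ (hc i))

end ZeroCyc
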