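import Groth.Agent.ZeroCyc.Apps
import Groth.Agent.ZeroCyc.Iversen
import Mathlib.Algebra.DualNumber
import Mathlib.LinearAlgebra.TensorProduct.Pi

/-!
# The trace of a multiplicative law and the kernel in characteristic zero
-/

universe u

open scoped TensorProduct

noncomputable section

namespace ZeroCyc

variable {A : Type u} [CommRing A] {B : Type u} [CommRing B] [Algebra A B] {d : ℕ}
  (F : PolLaw.MulLaw A B A d)

/-- The inclusion of a ring in its dual numbers. -/
abbrev dinl (S : Type u) [CommRing S] [Algebra A S] : S →ₐ[A] DualNumber S :=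
  TrivSqZeroExt.inlAlgHom A S S

/-- `1 + ε z`. -/
def onePlus {S : Type u} [CommRing S] [Algebra A S] (z : S ⊗[A] B) : DualNumber S ⊗[A] B :=
  1 + (DualNumber.eps : DualNumber S) • rT B (dinl S) z

/-- The trace of a law: the first order term of its value at `1 + ε z`. -/
def trS (S : Type u) [CommRing S] [Algebra A S] (z : S ⊗[A] B) : S :=
  TrivSqZeroExt.snd (nrm F (DualNumber S) (onePlus z))

theorem nrm_one' (S : Type u) [CommRing S] [Algebra A S] : nrm F S (1 : S ⊗[A] B) = 1 :=
  ev_one F _

theorem nrm_mul' (S : Type u) [CommRing S] [Algebra A S] (x y : S ⊗[A] B) :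
    nrm F S (x * y) = nrm F S x * nrm F S y :=
  ev_mul F _ x y

theorem fst_nrm_onePlus {S : Type u} [CommRing S] [Algebra A S] (z : S ⊗[A] B) :
    TrivSqZeroExt.fst (nrm F (DualNumber S) (onePlus z)) = 1 := by
  show TrivSqZeroExt.fstHom A S S _ = 1
  rw [← nrm_natural, onePlus, map_add, map_one, rT_smul]
  simp [nrm_one']

theorem eps_mul_eps_smul {S : Type u} [CommRing S] [Algebra A S] (x y : DualNumber S ⊗[A] B) :
    ((DualNumber.eps : DualNumber S) • x) * ((DualNumber.eps : DualNumber S) • y) = 0 := by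
  rw [smul_mul_assoc, mul_smul_comm, smul_smul, DualNumber.eps_mul_eps, zero_smul]

theorem trS_add {S : Type u} [CommRing S] [Algebra A S] (y z : S ⊗[A] B) :
    trS F S (y + z) = trS F S y + trS F S z := by
  have h : onePlus (y + z) = onePlus y * onePlus z := by
    simp only [onePlus, map_add, smul_add]
    rw [add_mul, mul_add, mul_add, eps_mul_eps_smul, one_mul, one_mul, mul_one, add_zero]
    abel
  rw [trS, h, nrm_mul', DualNumber.snd_mul, fst_nrm_onePlus, fst_nrm_onePlus, one_mul, mul_one,
    add_comm]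
  rfl

theorem trS_zero (S : Type u) [CommRing S] [Algebra A S] : trS F S 0 = 0 := by
  rw [trS, onePlus, map_zero, smul_zero, add_zero, nrm_one', TrivSqZeroExt.snd_one]

/-- The map of dual numbers over `h` which multiplies `ε` by `c`. -/
def dmap {S T : Type u} [CommRing S] [Algebra A S] [CommRing T] [Algebra A T] (h : S →ₐ[A] T)
    (c : T) : DualNumber S →ₐ[A] DualNumber T :=
  DualNumber.lift ⟨((dinl T).comp h, c • DualNumber.eps),
    by rw [smul_mul_smul_comm, DualNumber.eps_mul_eps, smul_zero], fun _ => Commute.all _ _⟩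

theorem dmap_inl {S T : Type u} [CommRing S] [Algebra A S] [CommRing T] [Algebra A T] (h : S →ₐ[A] T)
    (c : T) (s : S) : dmap h c (TrivSqZeroExt.inl s) = TrivSqZeroExt.inl (h s) :=
  DualNumber.lift_apply_inl _ _

theorem dmap_eps {S T : Type u} [CommRing S] [Algebra A S] [CommRing T] [Algebra A T] (h : S →ₐ[A] T)
    (c : T) : dmap h c DualNumber.eps = c • DualNumber.eps :=
  DualNumber.lift_apply_eps _

theorem snd_dmap {S T : Type u} [CommRing S] [Algebra A S] [CommRing T] [Algebra A T] (h : S →ₐ[A] T)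
    (c : T) (p : DualNumber S) :
    TrivSqZeroExt.snd (dmap h c p) = c * h (TrivSqZeroExt.snd p) := by
  have e : p = TrivSqZeroExt.inl (TrivSqZeroExt.fst p) +
      TrivSqZeroExt.inl (TrivSqZeroExt.snd p) * DualNumber.eps :=
    TrivSqZeroExt.ext (by simp) (by simp)
  rw [e, map_add, map_mul, dmap_inl, dmap_inl, dmap_eps]
  simp [mul_comm]

theorem trS_natural {S T : Type u} [CommRing S] [Algebra A S] [CommRing T] [Algebra A T]
    (h : S →ₐ[A] T) (c : T) (z : S ⊗[A] B) :
    trS F T (c • rT B h z) = c * h (trS F S z) := by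
  have e : rT B (dmap h c) (onePlus z) = onePlus (c • rT B h z) := by
    have hc : (dmap h c).comp (dinl S) = (dinl T).comp h := AlgHom.ext fun s => dmap_inl h c s
    rw [onePlus, onePlus, map_add, map_one, rT_smul, rT_smul, dmap_eps, rT_comp, rT_comp, hc,
      smul_smul]
    congr 2
    exact TrivSqZeroExt.ext (by simp) (by simp [mul_comm])
  rw [trS, ← e, nrm_natural, snd_dmap]
  rfl

/-- The trace of a law on the algebra. -/
def trB : B →ₗ[A] A where
  toFun b := trS F A ((1 : A) ⊗ₜ[A] b)
  map_add' x y := by rw [TensorProduct.tmul_add, trS_add]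
  map_smul' c x := by
    have h := trS_natural F (AlgHom.id A A) c ((1 : A) ⊗ₜ[A] x)
    rw [rT_tmul] at h
    simpa [TensorProduct.smul_tmul', ← TensorProduct.smul_tmul] using h

theorem trS_tmul {S : Type u} [CommRing S] [Algebra A S] (s : S) (b : B) :
    trS F S (s ⊗ₜ[A] b) = s * algebraMap A S (trB F b) := by
  have h := trS_natural F (Algebra.ofId A S) s ((1 : A) ⊗ₜ[A] b)
  rwa [rT_tmul, map_one, TensorProduct.smul_tmul', smul_eq_mul, mul_one] at h

theorem trB_mul_eq_zero {b : B} (hb : b ∈ PolLaw.ker F.law) (y : B) : trB F (b * y) = 0 := by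
  show TrivSqZeroExt.snd (nrm F (DualNumber A) (onePlus ((1 : A) ⊗ₜ[A] (b * y)))) = 0
  have e : onePlus ((1 : A) ⊗ₜ[A] (b * y)) = (1 : DualNumber A ⊗[A] B) +
      ((DualNumber.eps : DualNumber A) ⊗ₜ[A] y) * ((1 : DualNumber A) ⊗ₜ[A] b) := by
    rw [onePlus, rT_tmul, map_one, TensorProduct.smul_tmul', Algebra.TensorProduct.tmul_mul_tmul,
      smul_eq_mul, mul_comm y b]
  rw [e, (mem_ker_iff F).mp hb, nrm_one', TrivSqZeroExt.snd_one]

theorem trS_mul_eq_zero {b : B} (hb : ∀ y, trB F (b * y) = 0) {S : Type u} [CommRing S] [Algebra A S]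
    (q : S ⊗[A] B) : trS F S (q * (1 ⊗ₜ[A] b)) = 0 := by
  induction q using TensorProduct.induction_on with
  | zero => rw [zero_mul, trS_zero]
  | add x y hx hy => rw [add_mul, trS_add, hx, hy, add_zero]
  | tmul s y => rw [Algebra.TensorProduct.tmul_mul_tmul, trS_tmul, mul_comm y b, hb, map_zero, mul_zero]

/-- The value of a law is the top coefficient of its value at `1 + X y`. -/
theorem coeff_nrm_one_add {R : Type u} [CommRing R] [Algebra A R] (y : R ⊗[A] B) :
    (nrm F (Polynomial R) (1 + (Polynomial.X : Polynomial R) •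
      rT B (IsScalarTower.toAlgHom A R (Polynomial R)) y)).coeff d = nrm F R y := by
  have h := cf_top_one_add (bcLaw F R) (R := R) LinearMap.id ((1 : R) ⊗ₜ[R] y)
  rw [toFun_eq_nrm, toFun_eq_nrm, cf_tmul, cf_tmul] at h
  simp only [topFun, LinearMap.coe_comp, Function.comp_apply, LinearMap.id_apply, smul_eq_mul, mul_one,
    LinearMap.restrictScalars_apply, Polynomial.lcoeff_apply] at h
  rw [nrm_bcLaw, nrm_bcLaw, map_add, map_one, map_smul, rT_tmul, map_one, cancelMap_one_tmul,
    cancelMap_one_tmul] at h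
  refine (congr_arg (fun z => (nrm F (Polynomial R) z).coeff d) ?_).trans (h.trans ?_)
  · rfl
  · congr 1
    clear h
    induction y using TensorProduct.induction_on with
    | zero => simp
    | add a b ha hb => simp only [map_add, ha, hb]
    | tmul a b => simp

section CharZero

variable [Algebra ℚ A]

theorem isUnit_natCast_succ {S : Type u} [CommRing S] [Algebra A S] (n : ℕ) :
    IsUnit ((n : S) + 1) := by
  have h : IsUnit ((n : ℚ) + 1) := (Nat.cast_add_one_ne_zero n).isUnit
  simpa using h.map ((algebraMap A S).comp (algebraMap ℚ A))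

/-- The `ε`-part of a coefficientwise dual evaluation is the coefficientwise derivative. -/
theorem snd_eval₂_dual {S Q : Type*} [CommRing S] [CommRing Q]
    (ψ : Polynomial (Polynomial S) →+* Q) (e1 : Polynomial S →+* DualNumber Q)
    (ha : ∀ a, e1 a = TrivSqZeroExt.inl (ψ (Polynomial.C a)) +
      TrivSqZeroExt.inl (ψ (Polynomial.C (Polynomial.derivative a))) * DualNumber.eps)
    (p : Polynomial (Polynomial S)) : ∃ q : Polynomial (Polynomial S),
      TrivSqZeroExt.snd (Polynomial.eval₂ e1 (TrivSqZeroExt.inl (ψ Polynomial.X)) p) = ψ q ∧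
        ∀ n, q.coeff n = Polynomial.derivative (p.coeff n) := by
  induction p using Polynomial.induction_on' with
  | add p p' hp hp' =>
    obtain ⟨q, hq, hq'⟩ := hp
    obtain ⟨r, hr, hr'⟩ := hp'
    exact ⟨q + r, by rw [Polynomial.eval₂_add, TrivSqZeroExt.snd_add, hq, hr, map_add],
      fun n => by rw [Polynomial.coeff_add, Polynomial.coeff_add, map_add, hq', hr']⟩
  | monomial k a =>
    refine ⟨Polynomial.monomial k (Polynomial.derivative a), ?_, fun n => ?_⟩
    · rw [Polynomial.eval₂_monomial, ha, TrivSqZeroExt.inl_pow, ← Polynomial.C_mul_X_pow_eq_monomial,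
        map_mul, map_pow, DualNumber.snd_mul]
      simp
    · rw [Polynomial.coeff_monomial, Polynomial.coeff_monomial]
      split_ifs <;> simp

set_option maxHeartbeats 800000 in
/-- In characteristic zero the kernel of a law is the kernel of its trace form. -/
theorem mem_ker_of_trB {b : B} (hb : ∀ y, trB F (b * y) = 0) : b ∈ PolLaw.ker F.law := by
  rw [mem_ker_iff]
  intro S _ _ x w
  let T : Polynomial S := Polynomial.X
  let C0 : S →ₐ[A] Polynomial S := IsScalarTower.toAlgHom A S (Polynomial S)
  let y : Polynomial S ⊗[A] B := rT B C0 x + T • rT B C0 (w * (1 ⊗ₜ[A] b))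
  let I : Ideal (Polynomial (Polynomial S)) := Ideal.span {(Polynomial.X : Polynomial (Polynomial S)) ^ (d + 1)}
  let Q := Polynomial (Polynomial S) ⧸ I
  let iQ : CommRing Q := Ideal.Quotient.commRing I
  let mk : Polynomial (Polynomial S) →ₐ[A] Q := Ideal.Quotient.mkₐ A I
  let CR : Polynomial S →ₐ[A] Polynomial (Polynomial S) := IsScalarTower.toAlgHom A _ _
  let s : Polynomial (Polynomial S) := Polynomial.X
  let E0 : Polynomial (Polynomial S) →ₐ[A] DualNumber Q := (dinl Q).comp mk
  let e1 : Polynomial S →ₐ[A] DualNumber Q :=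
    (Polynomial.aeval (R := S) (E0 (CR T) + DualNumber.eps : DualNumber Q)).restrictScalars A
  let E1 : Polynomial (Polynomial S) →ₐ[A] DualNumber Q :=
    { Polynomial.eval₂RingHom e1.toRingHom (E0 s) with
      commutes' := fun a => by
        show Polynomial.eval₂ e1.toRingHom (E0 s) (algebraMap A _ a) = _
        rw [IsScalarTower.algebraMap_apply A (Polynomial S) (Polynomial (Polynomial S)),
          Polynomial.algebraMap_eq, Polynomial.eval₂_C]
        exact e1.commutes a }
  let u : Polynomial (Polynomial S) ⊗[A] B := 1 + s • rT B CR y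
  let G := nrm F (Polynomial (Polynomial S)) u
  let z : Polynomial (Polynomial S) ⊗[A] B := s • rT B CR (rT B C0 (w * (1 ⊗ₜ[A] b)))
  have hE1T : E1 (CR T) = E0 (CR T) + DualNumber.eps := by
    show Polynomial.eval₂ e1.toRingHom (E0 s) (Polynomial.C T) = _
    rw [Polynomial.eval₂_C]
    exact Polynomial.aeval_X _
  have hE1C : E1.comp (CR.comp C0) = E0.comp (CR.comp C0) := by
    refine AlgHom.ext fun a => ?_
    show Polynomial.eval₂ e1.toRingHom (E0 s) (Polynomial.C (Polynomial.C a)) = _
    rw [Polynomial.eval₂_C]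
    exact (Polynomial.aeval_C _ a).trans rfl
  have hE1s : E1 s = E0 s := Polynomial.eval₂_X _ _
  have hu : rT B E1 u = rT B E0 u + (DualNumber.eps : DualNumber Q) • rT B E0 z := by
    simp only [u, z, y, map_add, map_one, map_mul, rT_smul, rT_comp, hE1s, hE1T, hE1C, smul_add,
      add_smul, smul_smul, mul_add]
    rw [mul_comm (E0 s) DualNumber.eps]
    abel
  have hs : (mk s) ^ (d + 1) = 0 := by
    rw [← map_pow]
    exact Ideal.Quotient.eq_zero_iff_mem.mpr (Ideal.subset_span rfl)
  obtain ⟨v, hv⟩ : ∃ v : Q ⊗[A] B, rT B mk u * v = 1 := by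
    refine IsUnit.exists_right_inv ?_
    have e : rT B mk u = 1 + mk s • rT B mk (rT B CR y) := by simp [u, rT_smul]
    rw [e]
    exact IsNilpotent.isUnit_one_add ⟨d + 1, by rw [smul_pow, hs, zero_smul]⟩
  have hz0 : rT B E0 z = rT B (dinl Q) (rT B mk z) := (rT_comp _ _ _ _).symm
  have hu0 : rT B E0 u = rT B (dinl Q) (rT B mk u) := (rT_comp _ _ _ _).symm
  have htr : trS F Q (v * rT B mk z) = 0 := by
    have : v * rT B mk z = (mk s • (v * rT B mk (rT B CR (rT B C0 w)))) * (1 ⊗ₜ[A] b) := by
      simp only [z, map_mul, rT_smul, rT_tmul, map_one, mul_smul_comm, smul_mul_assoc, mul_assoc]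
    rw [this]
    exact trS_mul_eq_zero F hb _
  have hprod : rT B E1 u = rT B E0 u * onePlus (v * rT B mk z) := by
    rw [hu, onePlus, mul_add, mul_one, mul_smul_comm, hu0, hz0, ← map_mul, ← mul_assoc, hv, one_mul]
  have hG : TrivSqZeroExt.snd (E1 G) = 0 := by
    rw [← nrm_natural, hprod, nrm_mul', nrm_natural, DualNumber.snd_mul]
    have : TrivSqZeroExt.snd (E0 G) = 0 := TrivSqZeroExt.snd_inl _ _
    rw [this, fst_nrm_onePlus]
    show _ * trS F Q (v * rT B mk z) + 0 * 1 = 0
    rw [htr, mul_zero, zero_mul, add_zero]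
  have ha : ∀ a : Polynomial S, e1 a = TrivSqZeroExt.inl (mk (Polynomial.C a)) +
      TrivSqZeroExt.inl (mk (Polynomial.C (Polynomial.derivative a))) * DualNumber.eps := by
    intro a
    have hx : ∀ a : Polynomial S, Polynomial.aeval (R := S) (E0 (CR T)) a = E0 (CR a) := by
      intro a
      induction a using Polynomial.induction_on' with
      | add a a' h h' => rw [map_add, h, h', map_add, map_add]
      | monomial j c =>
        rw [Polynomial.aeval_monomial, ← Polynomial.C_mul_X_pow_eq_monomial, map_mul, map_mul, map_pow,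
          map_pow]
        rfl
    show Polynomial.aeval (R := S) (E0 (CR T) + DualNumber.eps : DualNumber Q) a = _
    rw [Polynomial.aeval_add_of_sq_eq_zero _ _ _ (by rw [sq, DualNumber.eps_mul_eps]), hx, hx]
    rfl
  have hsnd := fun p => snd_eval₂_dual mk.toRingHom e1.toRingHom ha p
  obtain ⟨q, hq, hq'⟩ := hsnd G
  replace hq : TrivSqZeroExt.snd (E1 G) = mk q := hq
  rw [hG] at hq
  have hqd : q.coeff d = 0 := by
    obtain ⟨r, hr⟩ := Ideal.mem_span_singleton.mp (Ideal.Quotient.eq_zero_iff_mem.mp hq.symm)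
    rw [hr, Polynomial.coeff_X_pow_mul', if_neg (by omega)]
  have hP : G.coeff d = nrm F (Polynomial S) y := coeff_nrm_one_add F y
  have hder : Polynomial.derivative (nrm F (Polynomial S) y) = 0 := by rw [← hP, ← hq', hqd]
  have hconst : nrm F (Polynomial S) y = Polynomial.C ((nrm F (Polynomial S) y).coeff 0) := by
    refine Polynomial.ext fun n => ?_
    cases n with
    | zero => simp
    | succ n =>
      rw [Polynomial.coeff_C, if_neg (Nat.succ_ne_zero n)]
      have := congr_arg (fun p => Polynomial.coeff p n) hder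
      simp only [Polynomial.coeff_derivative, Polynomial.coeff_zero] at this
      exact (isUnit_natCast_succ (A := A) n).mul_left_eq_zero.mp this
  have hev : ∀ t : S, nrm F S (x + t • (w * (1 ⊗ₜ[A] b))) = (nrm F (Polynomial S) y).coeff 0 := by
    intro t
    let et : Polynomial S →ₐ[A] S := (Polynomial.aeval t).restrictScalars A
    have hc : et.comp C0 = AlgHom.id A S := AlgHom.ext fun a => Polynomial.aeval_C _ a
    have e : rT B et y = x + t • (w * (1 ⊗ₜ[A] b)) := by
      simp [y, rT_smul, rT_comp, hc, et, T, rT_id]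
    rw [← e, nrm_natural, hconst]
    simp [et]
  have h1 := hev 1
  have h0 := hev 0
  rw [one_smul] at h1
  rw [zero_smul, add_zero] at h0
  rw [h1, h0]

theorem mem_ker_iff_trB {b : B} : b ∈ PolLaw.ker F.law ↔ ∀ y, trB F (b * y) = 0 :=
  ⟨trB_mul_eq_zero F, mem_ker_of_trB F⟩

end CharZero

/-- The trace of a base-changed law. -/
theorem trB_bcLaw {A' : Type u} [CommRing A'] [Algebra A A'] (a : A') (b : B) :
    trB (bcLaw F A') (a ⊗ₜ[A] b) = a * algebraMap A A' (trB F b) := by
  rw [← trS_tmul F a b]
  show TrivSqZeroExt.snd (nrm (bcLaw F A') (DualNumber A') (onePlus ((1 : A') ⊗ₜ[A'] (a ⊗ₜ[A] b)))) = _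
  rw [nrm_bcLaw, onePlus, map_add, map_one, map_smul, rT_tmul, map_one, cancelMap_one_tmul]
  rfl

/-- In characteristic zero, with `B` finite, the kernel commutes with flat base change. -/
theorem kerBC_eq_map_of_flat [Algebra ℚ A] [Module.Finite A B] (A' : Type u) [CommRing A'] [Algebra A A']
    [Module.Flat A A'] :
    PolLaw.kerBC F.law A' =
      (PolLaw.ker F.law).map (Algebra.TensorProduct.includeRight : B →ₐ[A] A' ⊗[A] B) := by
  refine le_antisymm (fun b' hb' => ?_) (map_ker_le_kerBC F A')
  obtain ⟨n, e, he⟩ := Module.Finite.exists_fin (R := A) (M := B)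
  let L : B →ₗ[A] (Fin n → A) :=
    LinearMap.pi fun i => trB F ∘ₗ LinearMap.mulRight A (e i)
  have hL : ∀ b, L b = 0 → b ∈ PolLaw.ker F.law := by
    intro b hb
    refine mem_ker_of_trB F fun y => ?_
    have hy : y ∈ Submodule.span A (Set.range e) := he ▸ Submodule.mem_top
    induction hy using Submodule.span_induction with
    | mem x hx => obtain ⟨i, rfl⟩ := hx; exact congr_fun hb i
    | zero => rw [mul_zero, map_zero]
    | add x z _ _ hx hz => rw [mul_add, map_add, hx, hz, add_zero]
    | smul c x _ hx => rw [mul_smul_comm, map_smul, hx, smul_zero]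
  have h0 : L.lTensor A' b' = 0 := by
    have hexp : ∀ z : A' ⊗[A] B, ∀ i : Fin n,
        TensorProduct.rid A A' ((LinearMap.proj i).lTensor A' (L.lTensor A' z)) =
          trB (bcLaw F A') (z * (1 ⊗ₜ[A] e i)) := by
      intro z i
      induction z using TensorProduct.induction_on with
      | zero => simp
      | add p q hp hq => simp only [map_add, add_mul, hp, hq]
      | tmul a b =>
        rw [Algebra.TensorProduct.tmul_mul_tmul, mul_one, trB_bcLaw, LinearMap.lTensor_tmul,
          LinearMap.lTensor_tmul, TensorProduct.rid_tmul, Algebra.smul_def, mul_comm]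
        rfl
    let π := TensorProduct.piScalarRight A A A' (Fin n)
    apply π.injective
    rw [map_zero]
    refine funext fun i => ?_
    have hi := hexp b' i
    rw [trB_mul_eq_zero (bcLaw F A') (by rwa [ker_bcLaw]) _] at hi
    rw [Pi.zero_apply, ← hi]
    generalize L.lTensor A' b' = z
    induction z using TensorProduct.induction_on with
    | zero => simp
    | add p q hp hq => simp only [map_add, Pi.add_apply, hp, hq]
    | tmul a f => simp [π, TensorProduct.piScalarRight_apply]
  have hex : Function.Exact (L.ker.subtype) L := LinearMap.exact_subtype_ker_map L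
  obtain ⟨k, rfl⟩ := (Module.Flat.lTensor_exact A' hex b').mp h0
  clear h0 hb'
  induction k using TensorProduct.induction_on with
  | zero => simp
  | add p q hp hq => rw [map_add]; exact add_mem hp hq
  | tmul a b =>
    rw [LinearMap.lTensor_tmul, show a ⊗ₜ[A] (L.ker.subtype b : B) =
      (a ⊗ₜ[A] (1 : B)) * (1 ⊗ₜ[A] (b : B)) by simp]
    exact Ideal.mul_mem_left _ _ (Ideal.mem_map_of_mem _ (hL b (LinearMap.mem_ker.mp b.2)))

end ZeroCyc
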