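import Groth.Agent.ZeroCyc.Apps
import Mathlib.FieldTheory.SeparableDegree
import Mathlib.Algebra.MvPolynomial.Nilpotent

/-!
# Fibres, push-forwards and reducedness
-/

universe u

open scoped TensorProduct

noncomputable section

namespace ZeroCyc

variable {A : Type u} [CommRing A] {B C : Type u} [CommRing B] [Algebra A B] [CommRing C]
  [Algebra A C] {d : ℕ}

theorem finite_spectrum_image (F : PolLaw.MulLaw A B A d) (K : Type u) [Field K] [Algebra A K] :
    Finite (PrimeSpectrum (K ⊗[A] PolLaw.image F.law)) ∧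
      Nat.card (PrimeSpectrum (K ⊗[A] PolLaw.image F.law)) ≤ d := by
  obtain ⟨hfin, hcard⟩ := finite_over F (A' := K) (⊥ : Ideal K)
  let e : PrimeSpectrum (K ⊗[A] PolLaw.image F.law) ≃
      {P : PrimeSpectrum (K ⊗[A] PolLaw.image F.law) // P.asIdeal.comap (algebraMap K _) = ⊥} :=
    { toFun := fun P => ⟨P, (Ideal.eq_bot_or_top _).resolve_right
        (Ideal.IsPrime.comap (algebraMap K _) (hK := P.isPrime)).ne_top⟩
      invFun := fun P => P.1
      left_inv := fun _ => rfl
      right_inv := fun _ => rfl }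
  exact ⟨Finite.of_equiv _ e.symm, (Nat.card_congr e).trans_le hcard⟩

/-- Over a field the image has at most `d` points. -/
theorem finite_spectrum_image_field {k : Type u} [Field k] {B : Type u} [CommRing B] [Algebra k B]
    (F : PolLaw.MulLaw k B k d) :
    Finite (PrimeSpectrum (PolLaw.image F.law)) ∧ Nat.card (PrimeSpectrum (PolLaw.image F.law)) ≤ d := by
  obtain ⟨hfin, hcard⟩ := finite_spectrum_image F k
  let e := PrimeSpectrum.comapEquiv (Algebra.TensorProduct.lid k (PolLaw.image F.law)).toRingEquiv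
  exact ⟨Finite.of_equiv _ e.toEquiv, (Nat.card_congr e.toEquiv.symm).trans_le hcard⟩

theorem finite_emb {k : Type u} [Field k] {B : Type u} [CommRing B] [Algebra k B]
    (F : PolLaw.MulLaw k B k d) (P : Ideal (PolLaw.image F.law)) [P.IsMaximal] :
    Finite (Field.Emb k P.ResidueField) := by
  obtain ⟨β, hβ, β', hβ', hsurj⟩ := exists_image_points F (K := AlgebraicClosure P.ResidueField)
  let r : PolLaw.image F.law →ₐ[k] P.ResidueField := IsScalarTower.toAlgHom k _ _
  refine Finite.of_injective (fun σ : Field.Emb k P.ResidueField =>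
    Function.surjInv hsurj (σ.comp r)) fun σ σ' h => ?_
  have h' : σ.comp r = σ'.comp r := by
    rw [← Function.surjInv_eq hsurj (σ.comp r), ← Function.surjInv_eq hsurj (σ'.comp r)]
    exact congr_arg β' h
  refine AlgHom.ext fun z => ?_
  obtain ⟨y, rfl⟩ := P.algebraMap_residueField_surjective z
  exact AlgHom.congr_fun h' y

theorem finite_maximalSpectrum_image [Finite (MaximalSpectrum A)] (F : PolLaw.MulLaw A B A d) :
    Finite (MaximalSpectrum (PolLaw.image F.law)) := by
  have := image_isIntegral F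
  have hmax : ∀ m : MaximalSpectrum (PolLaw.image F.law),
      (m.asIdeal.comap (algebraMap A (PolLaw.image F.law))).IsMaximal := fun m =>
    Ideal.isMaximal_comap_of_isIntegral_of_isMaximal _ (hI := m.isMaximal)
  let e := (Algebra.TensorProduct.lid A (PolLaw.image F.law)).toRingEquiv.toRingHom
  let T := fun q : MaximalSpectrum A => {P : PrimeSpectrum (A ⊗[A] PolLaw.image F.law) //
    P.asIdeal.comap (algebraMap A _) = q.asIdeal}
  have : ∀ q, Finite (T q) := fun q => by
    have := q.isMaximal.isPrime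
    exact (finite_over F q.asIdeal).1
  let f : MaximalSpectrum (PolLaw.image F.law) → Σ q : MaximalSpectrum A, T q := fun m =>
    ⟨⟨_, hmax m⟩, ⟨⟨m.asIdeal.comap e, Ideal.IsPrime.comap e (hK := m.isMaximal.isPrime)⟩, by
      ext a
      simp [Ideal.mem_comap, e, Algebra.algebraMap_eq_smul_one]⟩⟩
  refine Finite.of_injective f fun m m' h => MaximalSpectrum.ext ?_
  have h' : m.asIdeal.comap e = m'.asIdeal.comap e :=
    congr_arg (fun s => s.2.1.asIdeal) h
  refine Ideal.comap_injective_of_surjective e ?_ h'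
  exact (Algebra.TensorProduct.lid A (PolLaw.image F.law)).toRingEquiv.surjective

/-- The support of a push-forward is the image of the support. -/
theorem radical_ker_precomp {B' : Type u} [CommRing B'] [Algebra A B'] (F : PolLaw.MulLaw A B A d)
    (φ : B' →ₐ[A] B) :
    (PolLaw.ker (F.precomp φ).law).radical = ((PolLaw.ker F.law).comap φ).radical := by
  refine le_antisymm ?_ (Ideal.radical_mono fun b hb => ?_)
  · rw [Ideal.radical_le_radical_iff, ← Ideal.comap_radical]
    intro b' hb'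
    rw [Ideal.mem_comap, Ideal.radical_eq_sInf, Submodule.mem_sInf]
    rintro Q ⟨hle, hQ⟩
    let K := AlgebraicClosure (Ideal.ResidueField Q)
    let ψ : B →ₐ[A] K := IsScalarTower.toAlgHom A _ K
    have hψ : ∀ z, ψ z = 0 ↔ z ∈ Q := fun z => by
      show algebraMap _ K z = 0 ↔ _
      rw [IsScalarTower.algebraMap_apply B (Ideal.ResidueField Q) K, map_eq_zero,
        Ideal.algebraMap_residueField_eq_zero]
    obtain ⟨β, hβ⟩ := exists_points F (Algebra.ofId A K)
    obtain ⟨l, hl⟩ := exists_point_eq F hβ ψ fun b hb => (hψ b).mpr (hle hb)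
    rw [← hψ, ← hl]
    have hβ' : ∀ (S : Type u) [CommRing S] [Algebra A S] (i : K →ₐ[A] S) (x : S ⊗[A] B'),
        ev (F.precomp φ) (i.comp (Algebra.ofId A K)) x = ∏ l, evMap (i.comp ((β l).comp φ)) x := by
      intro S _ _ i x
      rw [ev_precomp, hβ]
      refine Finset.prod_congr rfl fun l _ => ?_
      rw [evMap_lT, AlgHom.comp_assoc]
    exact point_eq_zero_of_ker hβ' hb' l
  · intro S _ _ x w
    show F.law.toFun' S (φ.toLinearMap.lTensor S _) = F.law.toFun' S (φ.toLinearMap.lTensor S _)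
    rw [← lT_eq, ← lT_eq, map_add, map_mul, lT_tmul]
    exact hb S _ _

/-- An element lifts from some stage of a filtered colimit. -/
theorem exists_stage {ι : Type u} [Preorder ι] [IsDirected ι (fun i j => i ≤ j)] [Nonempty ι]
    {Bi : ι → Type u} [∀ i, CommRing (Bi i)] [∀ i, Algebra A (Bi i)]
    (t : ∀ i j : ι, i ≤ j → (Bi i →ₐ[A] Bi j)) (φ : ∀ i : ι, Bi i →ₐ[A] B)
    (hcomp : ∀ (i j : ι) (h : i ≤ j), (φ j).comp (t i j h) = φ i)
    (hsurj : ∀ b : B, ∃ (i : ι) (x : Bi i), φ i x = b) {S : Type u} [CommSemiring S] [Algebra A S]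
    (z : S ⊗[A] B) : ∃ i, ∀ j, i ≤ j → ∃ y : S ⊗[A] Bi j, lT (φ j) S y = z := by
  induction z using TensorProduct.induction_on with
  | zero => exact ⟨Classical.arbitrary ι, fun j _ => ⟨0, map_zero _⟩⟩
  | add a b ha hb =>
    obtain ⟨i, hi⟩ := ha
    obtain ⟨k, hk⟩ := hb
    obtain ⟨l, hil, hkl⟩ := exists_ge_ge i k
    refine ⟨l, fun j hj => ?_⟩
    obtain ⟨y, hy⟩ := hi j (hil.trans hj)
    obtain ⟨y', hy'⟩ := hk j (hkl.trans hj)
    exact ⟨y + y', by rw [map_add, hy, hy']⟩
  | tmul s b =>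
    obtain ⟨i, x, rfl⟩ := hsurj b
    exact ⟨i, fun j hj => ⟨s ⊗ₜ[A] t i j hj x, by rw [lT_tmul, ← AlgHom.comp_apply, hcomp]⟩⟩

/-- The image of a law with reduced values is reduced. -/
theorem mem_ker_of_pow_mem [IsReduced C] (F : PolLaw.MulLaw A B C d) {b : B} {n : ℕ}
    (hb : b ^ n ∈ PolLaw.ker F.law) : b ∈ PolLaw.ker F.law := by
  intro S _ _ x w
  obtain ⟨p, rfl⟩ := exists_lift_ring x
  obtain ⟨q, rfl⟩ := exists_lift_ring w
  have e : (1 : S) ⊗ₜ[A] b = rT B (cover A S) (1 ⊗ₜ[A] b) := by rw [rT_tmul, map_one]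
  rw [e, ← map_mul, ← map_add, ← mulLaw_natural, ← mulLaw_natural]
  congr 1
  let R := MvPolynomial S A
  have hred : IsReduced (R ⊗[A] C) := by
    let e' : R ⊗[A] C ≃+* MvPolynomial S C :=
      ((Algebra.TensorProduct.comm A R C).toRingEquiv).trans
        (MvPolynomial.algebraTensorAlgEquiv A C).toRingEquiv
    exact isReduced_of_injective e'.toRingHom e'.injective
  rw [← sub_eq_zero]
  refine IsNilpotent.eq_zero ?_
  rw [nilpotent_iff_mem_prime]
  intro P hP
  let K := AlgebraicClosure (Ideal.ResidueField P)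
  let ψ : R ⊗[A] C →ₐ[A] K := IsScalarTower.toAlgHom A _ K
  have hψ : ∀ z, ψ z = 0 ↔ z ∈ P := fun z => by
    show algebraMap _ K z = 0 ↔ _
    rw [IsScalarTower.algebraMap_apply (R ⊗[A] C) (Ideal.ResidueField P) K, map_eq_zero,
      Ideal.algebraMap_residueField_eq_zero]
  obtain ⟨β, hβ⟩ := exists_points F (ψ.comp Algebra.TensorProduct.includeRight)
  have hval : ∀ y : R ⊗[A] B, ψ (F.law.toFun' R y) =
      ∏ l, evMap (β l) (rT B (ψ.comp Algebra.TensorProduct.includeLeft) y) := by
    intro y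
    rw [← ev_self, ← ev_natural, rT_comp]
    exact hβ K (AlgHom.id A K) _
  rw [← hψ, map_sub, hval, hval, sub_eq_zero]
  refine Finset.prod_congr rfl fun l _ => ?_
  have h0 : β l b = 0 := eq_zero_of_pow_eq_zero ((map_pow (β l) b n).symm.trans
    (point_eq_zero_of_ker hβ hb l))
  simp only [map_add, map_mul, rT_tmul, evMap_tmul, h0, mul_zero, add_zero]

end ZeroCyc
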