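import Groth.Agent.ZeroCyc.Apps
import Mathlib.RingTheory.FiniteType

/-!
# The coefficient algebra of a law out of an algebra of finite type is of finite type
-/

universe u

open scoped TensorProduct

noncomputable section

namespace ZeroCyc

variable {A : Type u} [CommRing A] {B C : Type u} [CommRing B] [Algebra A B] [CommRing C]
  [Algebra A C] {d : ℕ} (F : PolLaw.MulLaw A B C d)

/-- The coefficients of the characteristic element. -/
def chiC (b : B) (j : ℕ) : C := cf (Polynomial.lcoeff A j) (chiEl F b)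

theorem chiC_spec (b : B) : (∀ j, d < j → chiC F b j = 0) ∧ chiC F b d = (-1) ^ d := by
  classical
  let v : Option PUnit.{u+1} → B := fun o => o.elim 1 fun _ => b
  let gen : MvPolynomial (Option PUnit.{u+1}) A ⊗[A] B :=
    ∑ i : Option PUnit.{u+1}, MvPolynomial.X i ⊗ₜ[A] v i
  let h : MvPolynomial (Option PUnit.{u+1}) A →ₐ[A] Polynomial A :=
    MvPolynomial.aeval fun o : Option PUnit.{u+1} => o.elim (-Polynomial.X) fun _ => 1
  have hgen : rT B h gen = (1 : Polynomial A) ⊗ₜ[A] b - Polynomial.X ⊗ₜ[A] (1 : B) := by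
    simp only [gen, Fintype.sum_option, Fintype.sum_unique, map_add, rT_tmul, h, MvPolynomial.aeval_X,
      Option.elim_none, Option.elim_some, v, TensorProduct.neg_tmul]
    abel
  let e := TensorProduct.equivFinsuppOfBasisLeft (N := C)
    (MvPolynomial.basisMonomials (Option PUnit.{u+1}) A)
  let c := e (F.law.toFun' _ gen)
  have hc : ∀ k, c k = coefF v F k ∨ c k = 0 := by
    intro k
    refine Or.inl ?_
    show TensorProduct.equivFinsuppOfBasisLeft _ _ k = _
    rw [TensorProduct.equivFinsuppOfBasisLeft_apply]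
    exact cf_law_of_subset v F Finset.univ (Finset.subset_univ _)
  have hdeg : ∀ k ∈ c.support, k none + k (some PUnit.unit) = d := by
    intro k hk
    rw [Finsupp.mem_support_iff] at hk
    by_contra hne
    apply hk
    rcases hc k with h1 | h1
    · rw [h1]
      refine coefF_eq_zero v F ?_
      rwa [Finsupp.sum_fintype _ _ fun _ => rfl, Fintype.sum_option, Fintype.sum_unique]
    · exact h1
  have hchi : ∀ j, chiC F b j = ∑ k ∈ c.support,
      (if k none = j then (-1 : A) ^ j else 0) • c k := by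
    intro j
    rw [chiC, chiEl, ← hgen, ← mulLaw_natural, rT_eq, cf_rTensor,
      show F.law.toFun' _ gen = e.symm c from (e.symm_apply_apply _).symm]
    simp only [e, TensorProduct.equivFinsuppOfBasisLeft_symm_apply, Finsupp.sum, map_sum, cf_tmul]
    refine Finset.sum_congr rfl fun k _ => ?_
    congr 1
    have hk : h (MvPolynomial.monomial k (1 : A)) =
        Polynomial.C ((-1 : A) ^ k none) * Polynomial.X ^ k none := by
      simp only [h, MvPolynomial.aeval_monomial]
      rw [Finsupp.prod_fintype _ _ fun _ => pow_zero _, Fintype.prod_option, Fintype.prod_unique]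
      simp only [Option.elim_none, Option.elim_some, one_pow, mul_one, map_one, one_mul]
      rw [neg_pow, map_pow, map_neg, map_one]
    rw [MvPolynomial.coe_basisMonomials, LinearMap.comp_apply, AlgHom.toLinearMap_apply, hk,
      Polynomial.lcoeff_apply, Polynomial.coeff_C_mul_X_pow]
    by_cases hj : k none = j
    · rw [if_pos hj, if_pos hj.symm, hj]
    · rw [if_neg hj, if_neg (Ne.symm hj)]
  constructor
  · intro j hj
    rw [hchi]
    refine Finset.sum_eq_zero fun k hk => ?_
    rw [if_neg, zero_smul]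
    have := hdeg k hk
    omega
  · let k0 : Option PUnit.{u+1} →₀ ℕ := Finsupp.single none d
    have hk0 : c k0 = 1 := by
      show TensorProduct.equivFinsuppOfBasisLeft _ _ k0 = _
      rw [TensorProduct.equivFinsuppOfBasisLeft_apply]
      refine ((cf_law_of_subset v F Finset.univ (Finset.subset_univ _)).trans
        (cf_law_of_subset v F {none} (k := k0) Finsupp.support_single_subset).symm).trans ?_
      simp only [Finset.sum_singleton, v, Option.elim_none]
      have e' : (MvPolynomial.X none : MvPolynomial (Option PUnit.{u+1}) A) ⊗ₜ[A] (1 : B) =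
          (MvPolynomial.X none : MvPolynomial (Option PUnit.{u+1}) A) •
            (1 : MvPolynomial (Option PUnit.{u+1}) A ⊗[A] B) := by
        rw [Algebra.TensorProduct.one_def, TensorProduct.smul_tmul', smul_eq_mul, mul_one]
      rw [e', F.homog, (F.mult _).1, Algebra.TensorProduct.one_def, TensorProduct.smul_tmul',
        cf_tmul, smul_eq_mul, mul_one, MvPolynomial.X_pow_eq_monomial]
      simp [k0]
    rw [hchi, Finset.sum_eq_single k0]
    · rw [hk0]
      simp [k0, Algebra.smul_def]
    · intro k hk hne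
      rw [if_neg, zero_smul]
      intro hd'
      refine hne (Finsupp.ext fun o => ?_)
      have := hdeg k hk
      cases o with
      | none => simp [k0, hd']
      | some u => simp [k0]; cases u; omega
    · intro hk
      rw [Finsupp.notMem_support_iff.mp hk, smul_zero]

theorem chiEl_eq_sum (b : B) : chiEl F b =
    ∑ j ∈ Finset.range (d + 1), ((Polynomial.X : Polynomial A) ^ j) ⊗ₜ[A] chiC F b j := by
  classical
  let e := TensorProduct.equivFinsuppOfBasisLeft (N := C) (Polynomial.basisMonomials A)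
  have hcoord : ∀ i, (Polynomial.basisMonomials A).coord i = Polynomial.lcoeff A i := by
    intro i; ext; rfl
  apply e.injective
  ext i
  simp only [e, map_sum, Finsupp.coe_finsetSum, Finset.sum_apply,
    TensorProduct.equivFinsuppOfBasisLeft_apply, hcoord]
  have h : ∀ j, cf (Polynomial.lcoeff A i) (((Polynomial.X : Polynomial A) ^ j) ⊗ₜ[A] chiC F b j) =
      if i = j then chiC F b j else 0 := fun j => by
    rw [cf_tmul, Polynomial.lcoeff_apply, Polynomial.coeff_X_pow]
    split_ifs <;> simp
  refine Eq.trans ?_ (Finset.sum_congr rfl fun j _ => (h j).symm)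
  rw [Finset.sum_ite_eq]
  split_ifs with hi
  · rfl
  · exact (chiC_spec F b).1 i (by simpa [Nat.lt_succ_iff, not_le] using hi)

theorem chEl_eq_sum {S : Type u} [CommRing S] [Algebra A S] (g : C →ₐ[A] S) (b : B) :
    chEl F g b = ∑ j ∈ Finset.range (d + 1),
      (g (chiC F b j) ⊗ₜ[A] (1 : B)) * ((1 : S) ⊗ₜ[A] b) ^ j := by
  rw [chEl, chiEl_eq_sum, map_sum]
  refine Finset.sum_congr rfl fun j _ => ?_
  rw [Algebra.TensorProduct.lift_tmul, map_pow, Polynomial.aeval_X, mul_comm]
  rfl

/-- The products of bounded powers of the generators. -/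
abbrev bMon (gs : Finset B) (d : ℕ) (k : ULift.{u} (gs → Fin (d + 1))) : B :=
  ∏ i : gs, (i : B) ^ (k.down i : ℕ)

/-- The ideal of the characteristic elements of the generators. -/
abbrev chIdeal (gs : Finset B) {S : Type u} [CommRing S] [Algebra A S] (g : C →ₐ[A] S) :
    Ideal (S ⊗[A] B) :=
  Ideal.span (Set.range fun i : gs => chEl F g (i : B))

theorem ev_add_chIdeal (gs : Finset B) {S : Type u} [CommRing S] [Algebra A S] (g : C →ₐ[A] S)
    {z : S ⊗[A] B} (hz : z ∈ chIdeal F gs g) (x' : S ⊗[A] B) : ev F g (x' + z) = ev F g x' := by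
  classical
  obtain ⟨w, rfl⟩ := (Submodule.mem_span_range_iff_exists_fun _).mp hz
  have : ∀ s : Finset gs, ∀ x', ev F g (x' + ∑ i ∈ s, w i • chEl F g (i : B)) = ev F g x' := by
    intro s
    induction s using Finset.induction_on with
    | empty => intro x'; rw [Finset.sum_empty, add_zero]
    | insert a s ha ih =>
      intro x'
      rw [Finset.sum_insert ha, ← add_assoc, ih, smul_eq_mul, ev_add_chEl]
  exact this Finset.univ x'

open scoped Classical in
/-- Modulo the characteristic elements, everything is a bounded combination of monomials. -/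
theorem exists_bounded (gs : Finset B) (hgs : Algebra.adjoin A (gs : Set B) = ⊤) {S : Type u}
    [CommRing S] [Algebra A S] (g : C →ₐ[A] S) (S0 : Subalgebra A S)
    (hchi : ∀ (i : gs) j, j ∈ Finset.range (d + 1) → g (chiC F (i : B) j) ∈ S0) (a0 : S) (ha0 : a0 ∈ S0)
    (b0 : B) : ∃ s : ULift.{u} (gs → Fin (d + 1)) → S, (∀ k, s k ∈ S0) ∧
      a0 ⊗ₜ[A] b0 - ∑ k, s k ⊗ₜ[A] bMon gs d k ∈ chIdeal F gs g := by
  classical
  let κ := ULift.{u} (gs → Fin (d + 1))
  let mon : κ → B := fun k => ∏ i : gs, (i : B) ^ (k.down i : ℕ)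
  let J : Ideal (S ⊗[A] B) := chIdeal F gs g
  -- the bounded combinations with coefficients in `S0`, modulo `J`
  let W : Set (S ⊗[A] B) := {z | ∃ s : κ → S, (∀ k, s k ∈ S0) ∧ z - ∑ k, s k ⊗ₜ[A] mon k ∈ J}
  have W0 : (0 : S ⊗[A] B) ∈ W := ⟨0, fun _ => zero_mem _, by simp⟩
  have Wadd : ∀ {z z'}, z ∈ W → z' ∈ W → z + z' ∈ W := by
    rintro z z' ⟨s, hs, hz⟩ ⟨s', hs', hz'⟩
    refine ⟨s + s', fun k => add_mem (hs k) (hs' k), ?_⟩
    convert add_mem hz hz' using 1
    simp only [Pi.add_apply, TensorProduct.add_tmul, Finset.sum_add_distrib]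
    abel
  have Wsmul : ∀ {z} (a : S), a ∈ S0 → z ∈ W → (a ⊗ₜ[A] (1 : B)) * z ∈ W := by
    rintro z a ha ⟨s, hs, hz⟩
    refine ⟨fun k => a * s k, fun k => mul_mem ha (hs k), ?_⟩
    convert J.mul_mem_left (a ⊗ₜ[A] (1 : B)) hz using 1
    simp [mul_sub, Finset.mul_sum]
  have Wsum : ∀ {ι : Type} (t : Finset ι) (f : ι → S ⊗[A] B), (∀ i ∈ t, f i ∈ W) → ∑ i ∈ t, f i ∈ W := by
    intro ι t f hf
    induction t using Finset.induction_on with
    | empty => simpa using W0
    | insert a s ha ih =>
      rw [Finset.sum_insert ha]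
      exact Wadd (hf _ (Finset.mem_insert_self _ _)) (ih fun i hi => hf i (Finset.mem_insert_of_mem hi))
  have Wmon : ∀ k : κ, (1 : S) ⊗ₜ[A] mon k ∈ W := by
    intro k
    refine ⟨fun l => if l = k then 1 else 0, fun l => by
      show (if l = k then (1 : S) else 0) ∈ S0
      split_ifs
      · exact one_mem _
      · exact zero_mem _, ?_⟩
    show (1 : S) ⊗ₜ[A] mon k - ∑ l, (if l = k then (1 : S) else 0) ⊗ₜ[A] mon l ∈ J
    rw [Finset.sum_eq_single k (fun l _ hl => by rw [if_neg hl, TensorProduct.zero_tmul])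
      (fun h => absurd (Finset.mem_univ k) h), if_pos rfl, sub_self]
    exact zero_mem J
  have Wone : (1 : S ⊗[A] B) ∈ W := by
    have := Wmon ⟨fun _ => 0⟩
    simpa [mon, Algebra.TensorProduct.one_def] using this
  have Wmul : ∀ (i : gs) (z : S ⊗[A] B), z ∈ W → ((1 : S) ⊗ₜ[A] (i : B)) * z ∈ W := by
    rintro i z ⟨s, hs, hz⟩
    have key : ∀ k : κ, ((1 : S) ⊗ₜ[A] ((i : B) * mon k)) ∈ W := by
      intro k
      let rest : B := ∏ l ∈ Finset.univ.erase i, (l : B) ^ (k.down l : ℕ)
      have hupd : ∀ j : Fin (d + 1), mon ⟨Function.update k.down i j⟩ = (i : B) ^ (j : ℕ) * rest := by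
        intro j
        show ∏ l : gs, (l : B) ^ (Function.update k.down i j l : ℕ) = _
        rw [← Finset.mul_prod_erase _ _ (Finset.mem_univ i), Function.update_self]
        congr 1
        exact Finset.prod_congr rfl fun l hl => by
          rw [Function.update_of_ne (Finset.ne_of_mem_erase hl)]
      have hk : mon k = (i : B) ^ (k.down i : ℕ) * rest := by
        conv_lhs => rw [show k = ⟨Function.update k.down i (k.down i)⟩ by
          rw [Function.update_eq_self]]
        exact hupd _
      rw [hk, ← mul_assoc, ← pow_succ']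
      by_cases hlt : (k.down i : ℕ) + 1 < d + 1
      · have := Wmon ⟨Function.update k.down i ⟨_, hlt⟩⟩
        rwa [hupd] at this
      have hkd : (k.down i : ℕ) = d := by have := (k.down i).isLt; omega
      rw [hkd]
      -- reduce with the characteristic element
      let top : S ⊗[A] B := (1 : S) ⊗ₜ[A] ((i : B) ^ (d + 1) * rest)
      let low : S ⊗[A] B := ∑ j ∈ Finset.range d,
        (((-1 : S) ^ (d + 1) * g (chiC F (i : B) j)) ⊗ₜ[A] (1 : B)) *
          ((1 : S) ⊗ₜ[A] ((i : B) ^ (j + 1) * rest))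
      have hlow : low ∈ W := Wsum _ _ fun j hj => by
        rw [Finset.mem_range] at hj
        refine Wsmul _ (mul_mem (pow_mem (neg_mem (one_mem _)) _)
          (hchi i j (Finset.mem_range.mpr (by omega)))) ?_
        have := Wmon ⟨Function.update k.down i ⟨j + 1, by omega⟩⟩
        rwa [hupd] at this
      obtain ⟨s', hs', hlow'⟩ := hlow
      refine ⟨s', hs', ?_⟩
      have hdiff : top - low ∈ J := by
        have hmem : chEl F g (i : B) * (((-1 : S) ^ d) ⊗ₜ[A] ((i : B) * rest)) ∈ J :=
          J.mul_mem_right _ (Ideal.subset_span ⟨i, rfl⟩)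
        have hterm : ∀ (a : S) (j : ℕ),
            ((a ⊗ₜ[A] (1 : B)) * ((1 : S) ⊗ₜ[A] (i : B)) ^ j) * (((-1 : S) ^ d) ⊗ₜ[A] ((i : B) * rest)) =
              (a * (-1) ^ d) ⊗ₜ[A] ((i : B) ^ (j + 1) * rest) := by
          intro a j
          simp only [Algebra.TensorProduct.tmul_pow, one_pow, Algebra.TensorProduct.tmul_mul_tmul,
            mul_one, one_mul]
          rw [pow_succ, mul_assoc]
        convert hmem using 1
        rw [chEl_eq_sum, Finset.sum_range_succ, add_mul, Finset.sum_mul, hterm, (chiC_spec F _).2,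
          map_pow, map_neg, map_one, ← mul_pow, neg_one_mul, neg_neg, one_pow]
        simp only [hterm, top, low, Algebra.TensorProduct.tmul_mul_tmul, mul_one, one_mul, pow_succ,
          mul_neg, neg_mul, TensorProduct.neg_tmul, Finset.sum_neg_distrib, sub_neg_eq_add]
        rw [add_comm]
        congr 1
        exact Finset.sum_congr rfl fun j _ => by rw [mul_comm (g _)]
      convert add_mem hdiff hlow' using 1
      simp only [top]
      abel
    have hsum : ∑ l, (s l ⊗ₜ[A] (1 : B)) * ((1 : S) ⊗ₜ[A] ((i : B) * mon l)) ∈ W := by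
      have : ∀ t : Finset κ, ∑ l ∈ t, (s l ⊗ₜ[A] (1 : B)) * ((1 : S) ⊗ₜ[A] ((i : B) * mon l)) ∈ W := by
        intro t
        induction t using Finset.induction_on with
        | empty => simpa using W0
        | insert a t ha ih => rw [Finset.sum_insert ha]; exact Wadd (Wsmul _ (hs a) (key a)) ih
      exact this _
    obtain ⟨s', hs', hz'⟩ := hsum
    refine ⟨s', hs', ?_⟩
    convert add_mem (J.mul_mem_left ((1 : S) ⊗ₜ[A] (i : B)) hz) hz' using 1
    simp only [mul_sub, Finset.mul_sum, Algebra.TensorProduct.tmul_mul_tmul, one_mul, mul_one]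
    abel
  have Wall : ∀ b : B, ∀ z ∈ W, ((1 : S) ⊗ₜ[A] b) * z ∈ W := by
    intro b
    have hb : b ∈ Algebra.adjoin A (gs : Set B) := hgs ▸ Algebra.mem_top
    induction hb using Algebra.adjoin_induction with
    | mem b hb => exact fun z hz => Wmul ⟨b, hb⟩ z hz
    | algebraMap a =>
      intro z hz
      have : (1 : S) ⊗ₜ[A] algebraMap A B a = algebraMap A S a ⊗ₜ[A] (1 : B) := by
        simp [Algebra.algebraMap_eq_smul_one, TensorProduct.smul_tmul]
      rw [this]
      exact Wsmul _ (S0.algebraMap_mem _) hz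
    | add b b' _ _ hb hb' =>
      intro z hz
      rw [TensorProduct.tmul_add, add_mul]
      exact Wadd (hb z hz) (hb' z hz)
    | mul b b' _ _ hb hb' =>
      intro z hz
      have : (1 : S) ⊗ₜ[A] (b * b') = ((1 : S) ⊗ₜ[A] b) * ((1 : S) ⊗ₜ[A] b') := by simp
      rw [this, mul_assoc]
      exact hb _ (hb' z hz)
  have h := Wsmul a0 ha0 (Wall b0 1 Wone)
  rwa [mul_one, Algebra.TensorProduct.tmul_mul_tmul, mul_one, one_mul] at h

theorem finiteType_of_coefSub [Algebra.FiniteType A B] (hF : coefSub F = ⊤) :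
    Algebra.FiniteType A C := by
  classical
  obtain ⟨gs, hgs⟩ := ‹Algebra.FiniteType A B›.out
  let κ := ULift.{u} (gs → Fin (d + 1))
  let mon : κ → B := fun k => ∏ i : gs, (i : B) ^ (k.down i : ℕ)
  let gen : MvPolynomial κ A ⊗[A] B := ∑ k : κ, MvPolynomial.X k ⊗ₜ[A] mon k
  let e := TensorProduct.equivFinsuppOfBasisLeft (N := C) (MvPolynomial.basisMonomials κ A)
  let c := e (F.law.toFun' _ gen)
  let gens : Finset C := c.support.image c ∪
    Finset.univ.biUnion fun i : gs => (Finset.range (d + 1)).image (chiC F (i : B))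
  let D := Algebra.adjoin A (gens : Set C)
  suffices hD : coefSub F ≤ Subalgebra.toSubmodule D by
    refine ⟨⟨gens, eq_top_iff.mpr fun x _ => hD ?_⟩⟩
    rw [hF]
    trivial
  rw [coefSub, Submodule.span_le]
  rintro y ⟨R, _, _, _, φ, x, rfl⟩
  let S := R ⊗[A] C
  let g : C →ₐ[A] S := Algebra.TensorProduct.includeRight
  let iL : R →ₐ[A] S := Algebra.TensorProduct.includeLeft
  let S0 : Subalgebra R S := (lT D.val R).range
  have hg : ∀ z ∈ D, g z ∈ S0 := fun z hz => ⟨(1 : R) ⊗ₜ[A] (⟨z, hz⟩ : D), by simp [g]; rfl⟩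
  have hchi : ∀ (i : gs) j, j ∈ Finset.range (d + 1) → g (chiC F (i : B) j) ∈ S0.restrictScalars A :=
    fun i j hj => hg _ (Algebra.subset_adjoin (Finset.mem_coe.mpr (Finset.mem_union_right _
      (Finset.mem_biUnion.mpr ⟨i, Finset.mem_univ _, Finset.mem_image_of_mem _ hj⟩))))
  have hJ := fun z (hz : z ∈ chIdeal F gs g) => ev_add_chIdeal F gs g hz
  have hxW : ∃ s : κ → S, (∀ k, s k ∈ S0) ∧ rT B iL x - ∑ k, s k ⊗ₜ[A] mon k ∈ chIdeal F gs g := by
    induction x using TensorProduct.induction_on with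
    | zero => exact ⟨0, fun _ => zero_mem _, by simp⟩
    | add a b ha hb =>
      obtain ⟨s, hs, hz⟩ := ha
      obtain ⟨s', hs', hz'⟩ := hb
      refine ⟨s + s', fun k => add_mem (hs k) (hs' k), ?_⟩
      convert add_mem hz hz' using 1
      simp only [map_add, Pi.add_apply, TensorProduct.add_tmul, Finset.sum_add_distrib]
      abel
    | tmul r b =>
      rw [rT_tmul]
      exact exists_bounded F gs hgs g (S0.restrictScalars A) hchi _ (S0.algebraMap_mem r) b
  obtain ⟨s, hs, hsJ⟩ := hxW
  have hval : F.law.toFun' R x = ev F g (∑ k, s k ⊗ₜ[A] mon k) := by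
    rw [← ev_self, ← hJ _ hsJ (∑ k, s k ⊗ₜ[A] mon k), add_sub_cancel]
  have hmem : F.law.toFun' R x ∈ S0 := by
    let hh : MvPolynomial κ A →ₐ[A] S := MvPolynomial.aeval s
    let k' : MvPolynomial κ A ⊗[A] C →ₐ[A] S :=
      Algebra.TensorProduct.lift hh g fun _ _ => Commute.all _ _
    have h1 : rT B hh gen = ∑ k, s k ⊗ₜ[A] mon k := by simp [gen, hh]
    have hk1 : k'.comp Algebra.TensorProduct.includeLeft = hh := AlgHom.ext fun r => by simp [k']
    have hk2 : k'.comp Algebra.TensorProduct.includeRight = g := AlgHom.ext fun r => by simp [k']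
    rw [hval, ← h1, ← hk1, ← hk2, ← rT_comp, ev_natural, ev_self,
      show F.law.toFun' _ gen = e.symm c from (e.symm_apply_apply _).symm]
    simp only [e, TensorProduct.equivFinsuppOfBasisLeft_symm_apply, Finsupp.sum, map_sum]
    refine sum_mem fun α hα => ?_
    rw [Algebra.TensorProduct.lift_tmul]
    refine mul_mem ?_ (hg _ (Algebra.subset_adjoin (Finset.mem_coe.mpr
      (Finset.mem_union_left _ (Finset.mem_image_of_mem _ hα)))))
    show MvPolynomial.aeval s _ ∈ S0
    rw [MvPolynomial.coe_basisMonomials, MvPolynomial.aeval_monomial, map_one, one_mul]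
    exact prod_mem fun k _ => pow_mem (hs k) _
  obtain ⟨w, hw⟩ := hmem
  rw [SetLike.mem_coe, ← hw]
  show cf φ (lT D.val R w) ∈ _
  rw [lT_eq, cf_lTensor]
  exact (cf φ w).2

end ZeroCyc
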