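import Groth.Agent.ZeroCyc.Points

/-!
# Base change of the universal law
-/

universe u

open scoped TensorProduct

noncomputable section

namespace ZeroCyc

variable {A : Type u} [CommRing A] {B C : Type u} [CommRing B] [Algebra A B] [CommRing C]
  [Algebra A C] {d : ℕ} (γ : PolLaw.MulLaw A B C d) (A' : Type u) [CommRing A'] [Algebra A A']

omit [Algebra A C] in
theorem cancelMap_natural {S T : Type u} [CommRing S] [Algebra A S] [Algebra A' S]
    [IsScalarTower A A' S] [CommRing T] [Algebra A T] [Algebra A' T] [IsScalarTower A A' T]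
    (h : S →ₐ[A'] T) (x : S ⊗[A'] (A' ⊗[A] B)) :
    cancelMap A' T (rT _ h x) = rT B (h.restrictScalars A) (cancelMap A' S x) := by
  induction x using TensorProduct.induction_on with
  | zero => simp
  | add a b ha hb => simp only [map_add, ha, hb]
  | tmul s y =>
    induction y using TensorProduct.induction_on with
    | zero => simp
    | add a b ha hb => simp only [TensorProduct.tmul_add, map_add, ha, hb]
    | tmul a b => simp [cancelMap]

/-- The base change of a law with arbitrary target, as a family. -/
def bcFamC : Fam A' (A' ⊗[A] B) (A' ⊗[A] C) d where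
  val R _ _ g x :=
    letI : Algebra A R := ((algebraMap A' R).comp (algebraMap A A')).toAlgebra
    haveI : IsScalarTower A A' R := IsScalarTower.of_algebraMap_eq fun _ => rfl
    ev γ ((g.restrictScalars A).comp Algebra.TensorProduct.includeRight) (cancelMap A' R x)
  natural {S T} _ _ _ _ h g x := by
    let : Algebra A S := ((algebraMap A' S).comp (algebraMap A A')).toAlgebra
    let : Algebra A T := ((algebraMap A' T).comp (algebraMap A A')).toAlgebra
    have : IsScalarTower A A' S := IsScalarTower.of_algebraMap_eq fun _ => rfl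
    have : IsScalarTower A A' T := IsScalarTower.of_algebraMap_eq fun _ => rfl
    show ev γ _ (cancelMap A' T (rT _ h x)) = h (ev γ _ (cancelMap A' S x))
    show _ = (h.restrictScalars A) _
    rw [cancelMap_natural, ← ev_natural]
    rfl
  map_one g := by simp [ev_one]
  map_mul g x y := by simp [ev_mul]
  map_smul g s x := by simp [ev_smul]

/-- The base change of a law with arbitrary target. -/
def bcLawC : PolLaw.MulLaw A' (A' ⊗[A] B) (A' ⊗[A] C) d := (bcFamC γ A').toLaw

theorem ev_bcLawC {R : Type u} [CommRing R] [Algebra A R] [Algebra A' R] [IsScalarTower A A' R]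
    (g : A' ⊗[A] C →ₐ[A'] R) (x : R ⊗[A'] (A' ⊗[A] B)) :
    ev (bcLawC γ A') g x =
      ev γ ((g.restrictScalars A).comp Algebra.TensorProduct.includeRight) (cancelMap A' R x) := by
  refine (Fam.ev_toLaw _ g x).trans ?_
  have e : ‹Algebra A R› = ((algebraMap A' R).comp (algebraMap A A')).toAlgebra :=
    Algebra.algebra_ext _ _ fun a => IsScalarTower.algebraMap_apply A A' R a
  subst e
  rfl

variable {A'} in
/-- The restriction to `A` of a law over `A'`, as a family. -/
def resFam {C' : Type u} [CommRing C'] [Algebra A C'] [Algebra A' C'] [IsScalarTower A A' C']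
    (G : PolLaw.MulLaw A' (A' ⊗[A] B) C' d) : Fam A B C' d where
  val R _ _ g x :=
    letI : Algebra A' R := ((g : C' →+* R).comp (algebraMap A' C')).toAlgebra
    haveI : IsScalarTower A A' R := IsScalarTower.of_algebraMap_eq fun a => by
      show algebraMap A R a = g (algebraMap A' C' (algebraMap A A' a))
      rw [← IsScalarTower.algebraMap_apply A A' C', g.commutes]
    ev G { (g : C' →+* R) with commutes' := fun _ => rfl } ((cancelMap A' R).symm x)
  natural {S T} _ _ _ _ h g x := by
    let : Algebra A' S := ((g : C' →+* S).comp (algebraMap A' C')).toAlgebra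
    let : Algebra A' T := (((h.comp g : C' →ₐ[A] T) : C' →+* T).comp (algebraMap A' C')).toAlgebra
    have : IsScalarTower A A' S := IsScalarTower.of_algebraMap_eq fun a => by
      show algebraMap A S a = g (algebraMap A' C' (algebraMap A A' a))
      rw [← IsScalarTower.algebraMap_apply A A' C', g.commutes]
    have : IsScalarTower A A' T := IsScalarTower.of_algebraMap_eq fun a => by
      show algebraMap A T a = (h.comp g) (algebraMap A' C' (algebraMap A A' a))
      rw [← IsScalarTower.algebraMap_apply A A' C', (h.comp g).commutes]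
    let h' : S →ₐ[A'] T := { (h : S →+* T) with commutes' := fun _ => rfl }
    have e : (cancelMap A' T).symm (rT B h x) = rT (A' ⊗[A] B) h' ((cancelMap A' S).symm x) := by
      apply (cancelMap (A := A) (B := B) A' T).injective
      rw [cancelMap_natural, AlgEquiv.apply_symm_apply, AlgEquiv.apply_symm_apply]
      rfl
    show ev G _ ((cancelMap A' T).symm (rT B h x)) = h (ev G _ ((cancelMap A' S).symm x))
    show _ = h' _
    rw [← ev_natural, e]
    rfl
  map_one g := by simp [ev_one]
  map_mul g x y := by simp [ev_mul]
  map_smul g s x := by simp [ev_smul]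

theorem ev_congr_algebra {C' : Type u} [CommRing C'] [Algebra A C'] [Algebra A' C']
    [IsScalarTower A A' C'] (G : PolLaw.MulLaw A' (A' ⊗[A] B) C' d) {R : Type u} [CommRing R]
    [Algebra A R] (i1 i2 : Algebra A' R) (hi : i1 = i2)
    {t1 : @IsScalarTower A A' R _ i1.toSMul _} {t2 : @IsScalarTower A A' R _ i2.toSMul _}
    (g1 : @AlgHom A' C' R _ _ _ _ i1) (g2 : @AlgHom A' C' R _ _ _ _ i2) (hg : ∀ c, g1 c = g2 c)
    (x : R ⊗[A] B) :
    (letI := i1; haveI := t1; ev G g1 ((cancelMap A' R).symm x)) =
      (letI := i2; haveI := t2; ev G g2 ((cancelMap A' R).symm x)) := by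
  subst hi
  rw [show g1 = g2 from AlgHom.ext hg]

theorem ev_resFam {C' : Type u} [CommRing C'] [Algebra A C'] [Algebra A' C'] [IsScalarTower A A' C']
    (G : PolLaw.MulLaw A' (A' ⊗[A] B) C' d) {R : Type u} [CommRing R] [Algebra A R] [iR : Algebra A' R]
    [tR : IsScalarTower A A' R] (g : C' →ₐ[A'] R) (x : R ⊗[A] B) :
    ev (resFam G).toLaw (g.restrictScalars A) x = ev G g ((cancelMap A' R).symm x) := by
  refine (Fam.ev_toLaw _ _ x).trans ?_
  have hi : (((g.restrictScalars A) : C' →+* R).comp (algebraMap A' C')).toAlgebra = iR :=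
    Algebra.algebra_ext _ _ fun a => g.commutes a
  have t1 : @IsScalarTower A A' R _
      (((g.restrictScalars A) : C' →+* R).comp (algebraMap A' C')).toAlgebra.toSMul _ := hi.symm ▸ tR
  refine @ev_congr_algebra A _ B _ _ d A' _ _ C' _ _ _ _ G R _ _
    (((g.restrictScalars A) : C' →+* R).comp (algebraMap A' C')).toAlgebra iR hi t1 tR _ g ?_ x
  exact fun _ => rfl

/-- The universal law stays universal after base change. -/
theorem isGammaD_bcLawC (hγ : PolLaw.IsGammaD γ) : PolLaw.IsGammaD (bcLawC γ A') := by
  intro C' _ _ G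
  let : Algebra A C' := ((algebraMap A' C').comp (algebraMap A A')).toAlgebra
  have : IsScalarTower A A' C' := IsScalarTower.of_algebraMap_eq fun _ => rfl
  obtain ⟨f0, hf0, huniq⟩ := hγ C' (resFam G).toLaw
  have hf0' : γ.postcomp f0 = (resFam G).toLaw := PolLaw.MulLaw.ext hf0
  let f : A' ⊗[A] C →ₐ[A'] C' :=
    Algebra.TensorProduct.lift (Algebra.ofId A' C') f0 fun _ _ => Commute.all _ _
  have hf : (f.restrictScalars A).comp Algebra.TensorProduct.includeRight = f0 :=
    AlgHom.ext fun c => by simp [f]
  refine ⟨f, congrArg PolLaw.MulLaw.law (mulLaw_ext_ev (F := (bcLawC γ A').postcomp f) (G := G)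
    fun S _ _ g x => ?_), fun f' hf' => ?_⟩
  · let : Algebra A S := ((algebraMap A' S).comp (algebraMap A A')).toAlgebra
    have : IsScalarTower A A' S := IsScalarTower.of_algebraMap_eq fun _ => rfl
    rw [ev_postcomp, ev_bcLawC,
      show ((g.comp f).restrictScalars A).comp Algebra.TensorProduct.includeRight =
        (g.restrictScalars A).comp ((f.restrictScalars A).comp Algebra.TensorProduct.includeRight) from rfl,
      hf, ← ev_postcomp, hf0', ev_resFam, AlgEquiv.symm_apply_apply]
  · have hG : (bcLawC γ A').postcomp f' = G := PolLaw.MulLaw.ext hf'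
    have h1 : (f'.restrictScalars A).comp Algebra.TensorProduct.includeRight = f0 := by
      refine huniq _ (congrArg PolLaw.MulLaw.law (mulLaw_ext_ev
        (F := γ.postcomp ((f'.restrictScalars A).comp Algebra.TensorProduct.includeRight))
        fun R _ _ g x => ?_))
      let : Algebra A' R := ((g : C' →+* R).comp (algebraMap A' C')).toAlgebra
      have : IsScalarTower A A' R := IsScalarTower.of_algebraMap_eq fun a => by
        show algebraMap A R a = g (algebraMap A' C' (algebraMap A A' a))
        rw [← IsScalarTower.algebraMap_apply A A' C', g.commutes]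
      let g' : C' →ₐ[A'] R := { (g : C' →+* R) with commutes' := fun _ => rfl }
      have hg : g = g'.restrictScalars A := AlgHom.ext fun _ => rfl
      rw [hg, ev_resFam, ← hG, ev_postcomp, ev_postcomp, ev_bcLawC, AlgEquiv.apply_symm_apply]
      rfl
    refine Algebra.TensorProduct.ext ?_ ?_
    · exact Subsingleton.elim _ _
    · exact h1.trans hf.symm

end ZeroCyc
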