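import Groth.Agent.ZeroCyc.FinType
import Groth.Agent.ZeroCyc.BaseChange
import Mathlib.RingTheory.FiniteStability
import Mathlib.RingTheory.FinitePresentation
import Mathlib.RingTheory.Polynomial.Basic
import Mathlib.RingTheory.TensorProduct.MvPolynomial

/-!
# The degree `d` divided powers of a finitely presented algebra are finitely presented
-/

universe u

open scoped TensorProduct

noncomputable section

namespace ZeroCyc

variable {A : Type u} [CommRing A] {B C : Type u} [CommRing B] [Algebra A B] [CommRing C]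
  [Algebra A C] {d : ℕ}

theorem isGammaD_precomp {γ : PolLaw.MulLaw A B C d} (hγ : PolLaw.IsGammaD γ) {B' : Type u}
    [CommRing B'] [Algebra A B'] (e : B' ≃ₐ[A] B) : PolLaw.IsGammaD (γ.precomp e.toAlgHom) := by
  intro C' _ _ G
  obtain ⟨f, hf, hu⟩ := hγ C' (G.precomp e.symm.toAlgHom)
  have hco : coefSub (γ.precomp e.toAlgHom) = ⊤ := by
    rw [coefSub_precomp (π := e.toAlgHom) e.surjective, coefSub_eq_top hγ]
  have h : (γ.precomp e.toAlgHom).postcomp f = G := by
    refine mulLaw_ext_ev fun S _ _ g x => ?_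
    rw [ev_postcomp, ev_precomp, ← ev_postcomp,
      show γ.postcomp f = G.precomp e.symm.toAlgHom from PolLaw.MulLaw.ext hf, ev_precomp]
    congr 1
    induction x using TensorProduct.induction_on with
    | zero => simp
    | add a b ha hb => simp only [map_add, ha, hb]
    | tmul s b => simp
  exact ⟨f, congrArg PolLaw.MulLaw.law h, fun f' hf' =>
    algHom_ext_of_coefSub hco ((PolLaw.MulLaw.ext hf').trans h.symm)⟩

/-- A finitely presented model of the divided powers of a polynomial algebra. -/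
theorem exists_fp_gammaD_of_base (Z : Type u) [CommRing Z] [IsNoetherianRing Z] (A : Type u) [CommRing A]
    [Algebra Z A] (n d : ℕ) :
    ∃ (CP : Type u) (_ : CommRing CP) (_ : Algebra A CP)
      (γP : PolLaw.MulLaw A (MvPolynomial (Fin n) A) CP d),
      PolLaw.IsGammaD γP ∧ Algebra.FinitePresentation A CP := by
  let γ0 := tau Z (MvPolynomial (Fin n) Z) d
  let b : Module.Basis (ULift.{u} (Fin n →₀ ℕ)) Z (MvPolynomial (Fin n) Z) :=
    (MvPolynomial.basisMonomials (Fin n) Z).reindex Equiv.ulift.symm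
  have hγ0 : PolLaw.IsGammaD γ0 := isGammaD_tau_of_basis b
  have : Algebra.FinitePresentation Z (SymTen.TS Z (MvPolynomial (Fin n) Z) d) :=
    Algebra.FinitePresentation.of_finiteType.mp (finiteType_of_coefSub γ0 (coefSub_eq_top hγ0))
  exact ⟨A ⊗[Z] SymTen.TS Z (MvPolynomial (Fin n) Z) d, inferInstance, inferInstance,
    (bcLawC γ0 A).precomp (MvPolynomial.algebraTensorAlgEquiv Z A).symm.toAlgHom,
    isGammaD_precomp (isGammaD_bcLawC γ0 A hγ0) _, inferInstance⟩

theorem exists_fp_gammaD_mvPolynomial (A : Type u) [CommRing A] (n d : ℕ) :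
    ∃ (CP : Type u) (_ : CommRing CP) (_ : Algebra A CP)
      (γP : PolLaw.MulLaw A (MvPolynomial (Fin n) A) CP d),
      PolLaw.IsGammaD γP ∧ Algebra.FinitePresentation A CP :=
  @exists_fp_gammaD_of_base (ULift.{u} ℤ) _
    (isNoetherianRing_of_ringEquiv ℤ ULift.ringEquiv.symm) A _
    ((Int.castRingHom A).comp (ULift.ringEquiv : ULift.{u} ℤ ≃+* ℤ).toRingHom).toAlgebra n d

open scoped Classical in
/-- A generic test for membership in the kernel of a law out of an algebra of finite type. -/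
theorem mem_ker_of_generic (F : PolLaw.MulLaw A B C d) (gs : Finset B)
    (hgs : Algebra.adjoin A (gs : Set B) = ⊤) (f : B)
    (gy gw : MvPolynomial (ULift.{u} (gs → Fin (d + 1)) ⊕ ULift.{u} (gs → Fin (d + 1))) A ⊗[A] B)
    (hgy : gy = ∑ k, MvPolynomial.X (Sum.inl k) ⊗ₜ[A] bMon gs d k)
    (hgw : gw = ∑ k, MvPolynomial.X (Sum.inr k) ⊗ₜ[A] bMon gs d k)
    (h : F.law.toFun' _ (gy + gw * (1 ⊗ₜ[A] f)) = F.law.toFun' _ gy) :
    f ∈ PolLaw.ker F.law := by
  intro R _ _ p q
  let : CommRing R := testRing A R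
  let S := R ⊗[A] C
  let iL : R →ₐ[A] S := Algebra.TensorProduct.includeLeft
  let g : C →ₐ[A] S := Algebra.TensorProduct.includeRight
  have hbd : ∀ z : S ⊗[A] B, ∃ s : ULift.{u} (gs → Fin (d + 1)) → S,
      z - ∑ k, s k ⊗ₜ[A] bMon gs d k ∈ chIdeal F gs g := by
    intro z
    induction z using TensorProduct.induction_on with
    | zero => exact ⟨0, by simp⟩
    | tmul a b =>
      obtain ⟨s, -, hs⟩ := exists_bounded F gs hgs g ⊤ (fun _ _ _ => trivial) a trivial b
      exact ⟨s, hs⟩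
    | add a b ha hb =>
      obtain ⟨s, hs⟩ := ha
      obtain ⟨s', hs'⟩ := hb
      refine ⟨s + s', ?_⟩
      convert add_mem hs hs' using 1
      simp only [Pi.add_apply, TensorProduct.add_tmul, Finset.sum_add_distrib]
      abel
  obtain ⟨sy, hy⟩ := hbd (rT B iL p)
  obtain ⟨sw, hw⟩ := hbd (rT B iL q)
  let hh : MvPolynomial (ULift.{u} (gs → Fin (d + 1)) ⊕ ULift.{u} (gs → Fin (d + 1))) A →ₐ[A] S :=
    MvPolynomial.aeval (Sum.elim sy sw)
  have m1 : rT B iL p - rT B hh gy ∈ chIdeal F gs g := by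
    have : rT B hh gy = ∑ k, sy k ⊗ₜ[A] bMon gs d k := by simp [hgy, hh]
    rw [this]; exact hy
  have m2 : rT B iL q - rT B hh gw ∈ chIdeal F gs g := by
    have : rT B hh gw = ∑ k, sw k ⊗ₜ[A] bMon gs d k := by simp [hgw, hh]
    rw [this]; exact hw
  let k' := Algebra.TensorProduct.lift hh g fun _ _ => Commute.all _ _
  have hev : ∀ z, ev F g (rT B hh z) = k' (F.law.toFun' _ z) := by
    intro z
    have hk1 : k'.comp Algebra.TensorProduct.includeLeft = hh := AlgHom.ext fun r => by simp [k']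
    have hk2 : k'.comp Algebra.TensorProduct.includeRight = g := AlgHom.ext fun r => by simp [k']
    rw [← hk1, ← hk2, ← rT_comp, ev_natural, ev_self]
  have e1 : rT B iL p + rT B iL q * ((1 : S) ⊗ₜ[A] f) = rT B hh (gy + gw * (1 ⊗ₜ[A] f)) +
      ((rT B iL p - rT B hh gy) + (rT B iL q - rT B hh gw) * ((1 : S) ⊗ₜ[A] f)) := by
    rw [map_add, map_mul, rT_tmul, map_one]
    ring
  have e2 : rT B iL p = rT B hh gy + (rT B iL p - rT B hh gy) := by abel
  rw [← ev_self F, ← ev_self F, map_add, map_mul, rT_tmul, map_one, e1,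
    ev_add_chIdeal F gs g (add_mem m1 (Ideal.mul_mem_right _ _ m2))]
  conv_rhs => rw [e2, ev_add_chIdeal F gs g m1]
  rw [hev, hev, h]

set_option maxHeartbeats 800000 in
theorem finitePresentation_of_isGammaD {γ : PolLaw.MulLaw A B C d} (hγ : PolLaw.IsGammaD γ)
    [Algebra.FinitePresentation A B] : Algebra.FinitePresentation A C := by
  classical
  obtain ⟨n, π, hπ, hker⟩ := ‹Algebra.FinitePresentation A B›.out
  obtain ⟨fs, hfs⟩ := hker
  obtain ⟨CP, _, _, γP, hγP, _⟩ := exists_fp_gammaD_mvPolynomial A n d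
  let P := MvPolynomial (Fin n) A
  let gs : Finset P := Finset.univ.image (MvPolynomial.X : Fin n → P)
  have hgs : Algebra.adjoin A (gs : Set P) = ⊤ := by
    rw [Finset.coe_image, Finset.coe_univ, Set.image_univ, MvPolynomial.adjoin_range_X]
  let κ := ULift.{u} (gs → Fin (d + 1))
  let T := MvPolynomial (κ ⊕ κ) A
  let gy : T ⊗[A] P := ∑ k : κ, MvPolynomial.X (Sum.inl k) ⊗ₜ[A] bMon gs d k
  let gw : T ⊗[A] P := ∑ k : κ, MvPolynomial.X (Sum.inr k) ⊗ₜ[A] bMon gs d k
  let e := TensorProduct.equivFinsuppOfBasisLeft (N := CP) (MvPolynomial.basisMonomials (κ ⊕ κ) A)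
  let diff : P → T ⊗[A] CP := fun f =>
    γP.law.toFun' T (gy + gw * ((1 : T) ⊗ₜ[A] f)) - γP.law.toFun' T gy
  let rels : Finset CP := fs.biUnion fun f => (e (diff f)).support.image (e (diff f))
  let K0 : Ideal CP := Ideal.span (rels : Set CP)
  let mk : CP →ₐ[A] CP ⧸ K0 := Ideal.Quotient.mkₐ A K0
  let F' := γP.postcomp mk
  have hgen : ∀ f ∈ fs, lT mk T (γP.law.toFun' T (gy + gw * ((1 : T) ⊗ₜ[A] f))) =
      lT mk T (γP.law.toFun' T gy) := by
    intro f hf
    rw [← sub_eq_zero, ← map_sub]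
    show lT mk T (diff f) = 0
    rw [← e.symm_apply_apply (diff f)]
    simp only [e, TensorProduct.equivFinsuppOfBasisLeft_symm_apply, Finsupp.sum, map_sum]
    refine Finset.sum_eq_zero fun k hk => ?_
    have hk0 : mk (e (diff f) k) = 0 := Ideal.Quotient.eq_zero_iff_mem.mpr (Ideal.subset_span
      (Finset.mem_coe.mpr (Finset.mem_biUnion.mpr ⟨f, hf, Finset.mem_image_of_mem _ hk⟩)))
    rw [lT_tmul]
    exact (congrArg _ hk0).trans (TensorProduct.tmul_zero _ _)
  have hfker : ∀ f ∈ fs, f ∈ PolLaw.ker F'.law := fun f hf =>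
    mem_ker_of_generic F' gs hgs f gy gw (Finset.sum_congr (by ext; simp) fun _ _ => rfl)
      (Finset.sum_congr (by ext; simp) fun _ _ => rfl) (by
      have := hgen f hf
      rw [lT_eq, lT_eq] at this
      exact this)
  have hkerle : ∀ p, π p = 0 → p ∈ PolLaw.ker F'.law := fun p hp =>
    (Ideal.span_le.mpr fun f hf => hfker f hf : Ideal.span (fs : Set P) ≤ PolLaw.ker F'.law)
      (hfs.symm ▸ hp)
  let Fb := descLaw hπ F' hkerle
  obtain ⟨h, hh, -⟩ := hγ (CP ⧸ K0) Fb
  have hh' : γ.postcomp h = Fb := PolLaw.MulLaw.ext hh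
  obtain ⟨k, hk, -⟩ := hγP C (γ.precomp π)
  have hk' : γP.postcomp k = γ.precomp π := PolLaw.MulLaw.ext hk
  have hK : K0 ≤ RingHom.ker k := by
    rw [Ideal.span_le]
    intro c hc
    obtain ⟨f, hf, hc'⟩ := Finset.mem_biUnion.mp (Finset.mem_coe.mp hc)
    obtain ⟨i, -, rfl⟩ := Finset.mem_image.mp hc'
    have hf0 : π f = 0 := by
      have : f ∈ RingHom.ker π.toRingHom := hfs ▸ Ideal.subset_span hf
      exact this
    have hz : lT k T (diff f) = 0 := by
      have hlaw : ∀ z, lT k T (γP.law.toFun' T z) = γ.law.toFun' T (lT π T z) := fun z => by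
        rw [lT_eq, lT_eq]
        exact congrArg (fun G : PolLaw.MulLaw A P C d => G.law.toFun' T z) hk'
      rw [map_sub, hlaw, hlaw, map_add, map_mul, lT_tmul, hf0, TensorProduct.tmul_zero, mul_zero,
        add_zero, sub_self]
    show k (e (diff f) i) = 0
    simp only [e, TensorProduct.equivFinsuppOfBasisLeft_apply]
    exact (cf_lTensor _ k.toLinearMap (diff f)).symm.trans (by rw [← lT_eq, hz, map_zero])
  let kb : CP ⧸ K0 →ₐ[A] C := Ideal.Quotient.liftₐ K0 k fun a ha => hK ha
  have hkb : kb.comp mk = k := AlgHom.ext fun x => rfl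
  have hcoP : coefSub F' = ⊤ := by
    rw [eq_top_iff]
    rintro x -
    obtain ⟨y, rfl⟩ := Ideal.Quotient.mk_surjective x
    have hy : y ∈ coefSub γP := coefSub_eq_top hγP ▸ Submodule.mem_top
    induction hy using Submodule.span_induction with
    | zero => rw [map_zero]; exact zero_mem _
    | add a b _ _ ha hb => rw [map_add]; exact add_mem ha hb
    | smul a y _ hy =>
      show mk (a • y) ∈ coefSub F'
      rw [map_smul]
      exact Submodule.smul_mem _ _ hy
    | mem y hy =>
      obtain ⟨R, _, _, _, φ, z, rfl⟩ := hy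
      have h1 : mk (cf φ (γP.law.toFun' R z)) = cf φ (F'.law.toFun' R z) :=
        (cf_lTensor φ mk.toLinearMap _).symm
      exact h1 ▸ cf_mem_coefSub F' φ z
  have h1 : kb.comp h = AlgHom.id A C := by
    refine algHom_ext_of_coefSub (coefSub_eq_top hγ) (mulLaw_ext_ev fun S _ _ g x => ?_)
    obtain ⟨x, rfl⟩ := lT_surjective hπ S x
    rw [ev_postcomp, ev_postcomp, ← AlgHom.comp_assoc, ← ev_postcomp, hh', ev_descLaw, ev_postcomp,
      AlgHom.comp_assoc, hkb, ← ev_postcomp, hk', ev_precomp]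
    rfl
  have h2 : h.comp kb = AlgHom.id A (CP ⧸ K0) := by
    refine algHom_ext_of_coefSub hcoP (mulLaw_ext_ev fun S _ _ g x => ?_)
    rw [ev_postcomp, ev_postcomp, ev_postcomp, ev_postcomp, AlgHom.comp_assoc, AlgHom.comp_assoc, hkb,
      ← AlgHom.comp_assoc, ← ev_postcomp, hk', ev_precomp, ← ev_postcomp, hh', ev_descLaw, ev_postcomp]
    rfl
  have : Algebra.FinitePresentation A (CP ⧸ K0) := Algebra.FinitePresentation.quotient ⟨rels, rfl⟩
  exact Algebra.FinitePresentation.equiv (AlgEquiv.ofAlgHom kb h h1 h2)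

end ZeroCyc
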