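import Groth.Prelude.Def_PolLaw
import Mathlib.RingTheory.AdjoinRoot
import Mathlib.Algebra.CharP.Lemmas
import Mathlib.RingTheory.Noetherian.Basic
import Mathlib.Algebra.MvPolynomial.CommRing

/-!
# The kernel of `x ↦ x ^ p` in characteristic `p`
-/

universe u

open scoped TensorProduct

noncomputable section

namespace ZeroCyc

variable {A : Type u} [CommRing A] (p : ℕ) [hp : Fact p.Prime]

theorem add_mul_pow_eq {R : Type u} [CommRing R] (hR : (p : R) = 0) (x w z : R) (hz : z ^ p = 0) :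
    (x + w * z) ^ p = x ^ p := by
  obtain ⟨r, hr⟩ := exists_add_pow_prime_eq hp.out x (w * z)
  rw [hr, mul_pow, hz, hR]
  ring

theorem mem_ker_pow (hA : (p : A) = 0) {b : A} (hb : b ^ p = 0) :
    b ∈ PolLaw.ker (PolLaw.MulLaw.pow A A p).law := by
  intro S _ _ x w
  let : CommRing S := (algebraMap A S).commSemiringToCommRing
  show (x + w * ((1 : S) ⊗ₜ[A] b)) ^ p = x ^ p
  refine add_mul_pow_eq p ?_ _ _ _ (by
    rw [Algebra.TensorProduct.tmul_pow, hb, TensorProduct.tmul_zero])
  rw [← map_natCast (algebraMap A (S ⊗[A] A)), hA, map_zero]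

theorem one_notMem_ker_pow [Nontrivial A] :
    (1 : A) ∉ PolLaw.ker (PolLaw.MulLaw.pow A A p).law := by
  intro h
  have h1 : ((0 : A ⊗[A] A) + 1 * ((1 : A) ⊗ₜ[A] (1 : A))) ^ p = 0 ^ p := h A 0 1
  rw [zero_add, one_mul, ← Algebra.TensorProduct.one_def, one_pow, zero_pow hp.out.ne_zero] at h1
  have := congrArg (Algebra.TensorProduct.lid A A) h1
  rw [map_one, map_zero] at this
  exact one_ne_zero this

variable {k : Type u} [Field k]

theorem root_X_pow_ne_zero :
    AdjoinRoot.root ((Polynomial.X : Polynomial k) ^ p) ≠ 0 := by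
  rw [← AdjoinRoot.mk_X, Ne, AdjoinRoot.mk_eq_zero]
  intro h
  have := Polynomial.natDegree_le_of_dvd h Polynomial.X_ne_zero
  rw [Polynomial.natDegree_X_pow, Polynomial.natDegree_X] at this
  exact absurd this (not_le.mpr hp.out.one_lt)

theorem root_X_pow_pow :
    AdjoinRoot.root ((Polynomial.X : Polynomial k) ^ p) ^ p = 0 := by
  rw [← AdjoinRoot.mk_X, ← map_pow, AdjoinRoot.mk_self]

end ZeroCyc
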