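import Groth.Agent.ZeroCyc.Flat
import Groth.Agent.ZeroCyc.BaseChange
import Groth.Agent.EGA41Lib.ReducedTensor

/-!
# Reducedness of the fibres of divided powers
-/

universe u

open scoped TensorProduct

noncomputable section

namespace ZeroCyc

section Field

variable {K : Type u} [Field K] {B : Type u} [CommRing B] [Algebra K B]

theorem consMap_mul {A : Type u} [CommRing A] {L : Type u} [CommRing L] [Algebra A L] (d : ℕ)
    (x y : L ⊗[A] (⨂[A] _ : Fin d, L)) :
    consMap A L d (x * y) = consMap A L d x * consMap A L d y := by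
  induction x using TensorProduct.induction_on with
  | zero => simp
  | add a b ha hb => simp only [add_mul, map_add, ha, hb]
  | tmul a t =>
    induction y using TensorProduct.induction_on with
    | zero => simp
    | add p q hp hq => simp only [mul_add, map_add, hp, hq]
    | tmul b t' =>
      induction t using PiTensorProduct.induction_on with
      | add p q hp hq => simp only [TensorProduct.tmul_add, add_mul, map_add, hp, hq]
      | smul_tprod r f =>
        induction t' using PiTensorProduct.induction_on with
        | add p q hp hq => simp only [TensorProduct.tmul_add, mul_add, map_add, hp, hq]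
        | smul_tprod r' f' =>
          rw [Algebra.TensorProduct.tmul_mul_tmul, smul_mul_smul_comm, PiTensorProduct.tprod_mul_tprod]
          simp only [TensorProduct.tmul_smul, map_smul, consMap_tprod, smul_mul_smul_comm,
            PiTensorProduct.tprod_mul_tprod]
          congr 2
          funext i
          refine Fin.cases ?_ (fun j => ?_) i <;> simp

theorem isReduced_Tp (hB : ∀ (M : Type u) [Field M] [Algebra K M], IsReduced (B ⊗[K] M)) :
    ∀ d : ℕ, IsReduced (⨂[K] _ : Fin d, B) := by
  intro d
  induction d with
  | zero =>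
    let e := PiTensorProduct.isEmptyEquiv (R := K) (s := fun _ : Fin 0 => B) (Fin 0)
    have he : ∀ c, e.symm c = algebraMap K (⨂[K] _ : Fin 0, B) c := by
      intro c
      rw [Algebra.algebraMap_eq_smul_one, PiTensorProduct.isEmptyEquiv_symm_apply,
        PiTensorProduct.one_def]
      congr 2
      exact Subsingleton.elim _ _
    have hb : Function.Bijective (algebraMap K (⨂[K] _ : Fin 0, B)) := by
      rw [show (⇑(algebraMap K (⨂[K] _ : Fin 0, B))) = e.symm from funext fun c => (he c).symm]
      exact e.symm.bijective
    exact isReduced_of_injective (RingEquiv.ofBijective _ hb).symm (RingEquiv.ofBijective _ hb).symm.injective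
  | succ d ih =>
    have hred : IsReduced (B ⊗[K] (⨂[K] _ : Fin d, B)) :=
      Groth.Agent.EGA41Lib.isReduced_tensor_of_forall_field hB _
    refine ⟨fun t ht => ?_⟩
    obtain ⟨s, rfl⟩ := (consMap_bijective (A := K) B d).2 t
    obtain ⟨n, hn⟩ := ht
    have hpow : ∀ m : ℕ, consMap K B d (s ^ (m + 1)) = consMap K B d s ^ (m + 1) := by
      intro m
      induction m with
      | zero => simp
      | succ m ihm => rw [pow_succ s, consMap_mul, ihm, ← pow_succ]
    have h0 : s ^ (n + 1) = 0 := (consMap_bijective (A := K) B d).1 (by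
      rw [hpow, pow_succ, hn, zero_mul, map_zero])
    have hs : IsNilpotent s := ⟨n + 1, h0⟩
    rw [hs.eq_zero, map_zero]

end Field

theorem isReduced_baseChange_gammaD {A : Type u} [CommRing A] {B C : Type u} [CommRing B] [Algebra A B]
    [CommRing C] [Algebra A C] {d : ℕ} (γ : PolLaw.MulLaw A B C d) (hγ : PolLaw.IsGammaD γ)
    (hred : ∀ (K : Type u) [Field K] [Algebra A K], IsReduced (K ⊗[A] B))
    (K : Type u) [Field K] [Algebra A K] : IsReduced (K ⊗[A] C) := by
  have hB : ∀ (M : Type u) [Field M] [Algebra K M], IsReduced ((K ⊗[A] B) ⊗[K] M) := by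
    intro M _ _
    let : Algebra A M := ((algebraMap K M).comp (algebraMap A K)).toAlgebra
    have : IsScalarTower A K M := IsScalarTower.of_algebraMap_eq fun _ => rfl
    have := hred M
    let e : M ⊗[K] (K ⊗[A] B) ≃ₐ[M] M ⊗[A] B := Algebra.TensorProduct.cancelBaseChange A K M M B
    have hMB : IsReduced (M ⊗[K] (K ⊗[A] B)) := isReduced_of_injective e e.injective
    exact isReduced_of_injective (Algebra.TensorProduct.comm K (K ⊗[A] B) M)
      (Algebra.TensorProduct.comm K (K ⊗[A] B) M).injective
  have htp := isReduced_Tp hB d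
  have hTS : IsReduced (SymTen.TS K (K ⊗[A] B) d) :=
    isReduced_of_injective (SymTen.TS K (K ⊗[A] B) d).val Subtype.val_injective
  have h1 := isGammaD_bcLawC γ K hγ
  obtain ⟨f, hf, -⟩ := h1 _ (tau K (K ⊗[A] B) d)
  have h2 : PolLaw.IsGammaD (tau K (K ⊗[A] B) d) := isGammaD_tau (Or.inl inferInstance)
  obtain ⟨g, hg, -⟩ := h2 _ (bcLawC γ K)
  have hgf : g.comp f = AlgHom.id K _ := by
    refine algHom_ext_of_coefSub (coefSub_eq_top h1) (mulLaw_ext_ev fun S _ _ p x => ?_)
    rw [ev_postcomp, ev_postcomp, ← AlgHom.comp_assoc, ← ev_postcomp,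
      show (bcLawC γ K).postcomp f = tau K (K ⊗[A] B) d from PolLaw.MulLaw.ext hf, ← ev_postcomp,
      show (tau K (K ⊗[A] B) d).postcomp g = bcLawC γ K from PolLaw.MulLaw.ext hg]
    rfl
  refine isReduced_of_injective f fun a b h => ?_
  have := congrArg g h
  rwa [← AlgHom.comp_apply, ← AlgHom.comp_apply, hgf] at this

end ZeroCyc
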