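import Groth.Agent.ZeroCyc.Norm
import Groth.Agent.ZeroCyc.Flat
import Groth.Agent.ZeroCyc.BaseChange
import Groth.Agent.Eta.UnivHomeo

/-!
# The comparison of divided powers and symmetric tensors
-/

universe u

open scoped TensorProduct

noncomputable section

namespace ZeroCyc

variable {A : Type u} [CommRing A] {B C : Type u} [CommRing B] [Algebra A B] [CommRing C]
  [Algebra A C] {d : ℕ}

instance instScalarTowerTp (k : Type u) [CommRing k] [Algebra A k] (B' : Type u) [CommRing B']
    [Algebra k B'] [Algebra A B'] [IsScalarTower A k B'] : IsScalarTower A k (Tp k B' d) := by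
  refine IsScalarTower.of_algebraMap_smul fun a t => ?_
  induction t using PiTensorProduct.induction_on with
  | smul_tprod r f =>
    rw [smul_smul, ← Algebra.smul_def, smul_assoc]
  | add x y hx hy => rw [smul_add, smul_add, hx, hy]

variable (k : Type u) [CommRing k] [Algebra A k]

/-- Base change of tensor powers. -/
def bcTp : Tp A B d →ₐ[A] Tp k (k ⊗[A] B) d :=
  PiTensorProduct.liftAlgHom
    (((PiTensorProduct.tprod k).restrictScalars A).compLinearMap
      fun _ : Fin d => (Algebra.TensorProduct.includeRight : B →ₐ[A] k ⊗[A] B).toLinearMap)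
    (by simp [PiTensorProduct.one_def, Algebra.TensorProduct.one_def]; rfl)
    (by
      intro x y
      simp [PiTensorProduct.tprod_mul_tprod]
      congr 1
      funext i
      simp)

theorem bcTp_tprod (f : Fin d → B) :
    bcTp k (PiTensorProduct.tprod A f) = PiTensorProduct.tprod k (fun i => (1 : k) ⊗ₜ[A] f i) := by
  simp [bcTp]

theorem bcTp_slot (l : Fin d) (b : B) : bcTp k (slot l b) = slot l ((1 : k) ⊗ₜ[A] b) := by
  rw [slot_apply, bcTp_tprod, slot_apply]
  congr 1
  funext i
  by_cases h : i = l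
  · subst h; simp
  · simp [Pi.mulSingle_eq_of_ne h, Algebra.TensorProduct.one_def]

/-- Base change of symmetric tensors. -/
def bcTS : SymTen.TS A B d →ₐ[A] SymTen.TS k (k ⊗[A] B) d :=
  ((bcTp k).comp (SymTen.TS A B d).val).codRestrict
    ((SymTen.TS k (k ⊗[A] B) d).restrictScalars A) fun t σ => by
    show PiTensorProduct.reindex k (fun _ : Fin d => k ⊗[A] B) σ (bcTp k t.1) = bcTp k t.1
    rw [← SymTen.perm_apply]
    have : ∀ u : Tp A B d, SymTen.perm k (k ⊗[A] B) d σ (bcTp k u) = bcTp k (SymTen.perm A B d σ u) := by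
      intro u
      induction u using PiTensorProduct.induction_on with
      | smul_tprod r f =>
        rw [map_smul (bcTp k), map_smul (SymTen.perm A B d σ), map_smul (bcTp k), SymTen.perm_tprod,
          bcTp_tprod, bcTp_tprod, ← algebraMap_smul k r, map_smul, SymTen.perm_tprod, algebraMap_smul]
      | add x y hx hy => simp only [map_add, hx, hy]
    rw [this, perm_eq_of_mem_TS t.2 σ]

theorem tau_bcTS :
    (tau A B d).postcomp (bcTS k) = (resFam (A' := k) (tau k (k ⊗[A] B) d)).toLaw := by
  have key : ((tau A B d).postcomp (bcTS k)).postcomp ((SymTen.TS k (k ⊗[A] B) d).val.restrictScalars A) =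
      ((resFam (A' := k) (tau k (k ⊗[A] B) d)).toLaw).postcomp
        ((SymTen.TS k (k ⊗[A] B) d).val.restrictScalars A) := by
    refine mulLaw_ext_ev fun R _ _ g x => ?_
    let : Algebra k R := ((g : Tp k (k ⊗[A] B) d →+* R).comp (algebraMap k _)).toAlgebra
    have : IsScalarTower A k R := IsScalarTower.of_algebraMap_eq fun a => by
      show algebraMap A R a = g (algebraMap k _ (algebraMap A k a))
      rw [← IsScalarTower.algebraMap_apply A k (Tp k (k ⊗[A] B) d), g.commutes]
    let gk : Tp k (k ⊗[A] B) d →ₐ[k] R := { (g : Tp k (k ⊗[A] B) d →+* R) with commutes' := fun _ => rfl }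
    have hg : g = gk.restrictScalars A := AlgHom.ext fun _ => rfl
    rw [ev_postcomp, ev_postcomp, ev_postcomp, hg,
      show (gk.restrictScalars A).comp ((SymTen.TS k (k ⊗[A] B) d).val.restrictScalars A) =
        (gk.comp (SymTen.TS k (k ⊗[A] B) d).val).restrictScalars A from rfl, ev_resFam, ev_diag,
      show ((gk.comp (SymTen.TS k (k ⊗[A] B) d).val).restrictScalars A).comp (bcTS k) =
        ((gk.restrictScalars A).comp (bcTp k)).comp (SymTen.TS A B d).val from rfl, ev_diag]
    refine Finset.prod_congr rfl fun l _ => ?_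
    induction x using TensorProduct.induction_on with
    | zero => simp
    | add a b ha hb => simp only [map_add, ha, hb]
    | tmul s b =>
      rw [evMap_tmul]
      simp [cancelMap, evMap_tmul, bcTp_slot]
  refine mulLaw_ext_free fun R _ _ _ x => ?_
  apply lTensor_injective (i := ((SymTen.TS k (k ⊗[A] B) d).val.restrictScalars A).toLinearMap)
    Subtype.val_injective (R := R)
  exact congrArg (fun G : PolLaw.MulLaw A B (Tp k (k ⊗[A] B) d) d => G.law.toFun' R x) key

/-- A field-valued point of the divided powers comes from the symmetric tensors. -/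
theorem exists_point_TS {k : Type u} [Field k] [Algebra A k] {γ : PolLaw.MulLaw A B C d}
    (hγ : coefSub γ = ⊤) (φ : C →ₐ[A] SymTen.TS A B d) (hφ : γ.postcomp φ = tau A B d)
    (c : C →ₐ[A] k) : ∃ ψ : SymTen.TS A B d →ₐ[A] k, ψ.comp φ = c := by
  let G : PolLaw.MulLaw k (k ⊗[A] B) k d :=
    (bcLawC γ k).postcomp (Algebra.TensorProduct.lift (Algebra.ofId k k) c fun _ _ => Commute.all _ _)
  obtain ⟨h, hh, -⟩ := (isGammaD_tau (A := k) (B := k ⊗[A] B) (d := d) (Or.inl inferInstance)) k G
  have hh' : (tau k (k ⊗[A] B) d).postcomp h = G := PolLaw.MulLaw.ext hh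
  refine ⟨(h.restrictScalars A).comp (bcTS k), algHom_ext_of_coefSub hγ (mulLaw_ext_ev fun R _ _ g x => ?_)⟩
  let : Algebra k R := (g : k →+* R).toAlgebra
  have : IsScalarTower A k R := IsScalarTower.of_algebraMap_eq fun a => (g.commutes a).symm
  let gk : k →ₐ[k] R := Algebra.ofId k R
  have hg : g = gk.restrictScalars A := AlgHom.ext fun _ => rfl
  rw [ev_postcomp, ev_postcomp, ← AlgHom.comp_assoc, ← ev_postcomp, hφ, ← AlgHom.comp_assoc,
    ← ev_postcomp, tau_bcTS, hg,
    show (gk.restrictScalars A).comp (h.restrictScalars A) = (gk.comp h).restrictScalars A from rfl,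
    ev_resFam, ← ev_postcomp, hh', ev_postcomp, ev_bcLawC, AlgEquiv.apply_symm_apply]
  congr 1
  refine AlgHom.ext fun z => ?_
  simp [gk, Algebra.ofId_apply]

theorem pow_mem_range {γ : PolLaw.MulLaw A B C d} (φ : C →ₐ[A] SymTen.TS A B d)
    (hφ : γ.postcomp φ = tau A B d) (y : SymTen.TS A B d) : ∃ c, φ c = y ^ d.factorial := by
  have h := congrArg (fun G : PolLaw.MulLaw A (SymTen.TS A B d) (SymTen.TS A B d) d.factorial =>
    TensorProduct.lid A (SymTen.TS A B d) (G.law.toFun' A ((1 : A) ⊗ₜ[A] y))) (normLaw_postcomp γ φ hφ)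
  refine ⟨TensorProduct.lid A C (((normLaw γ).precomp (SymTen.TS A B d).val).law.toFun' A
    ((1 : A) ⊗ₜ[A] y)), Eq.trans ?_ (h.trans ?_)⟩
  · show _ = TensorProduct.lid A _ (φ.toLinearMap.lTensor A _)
    generalize ((normLaw γ).precomp (SymTen.TS A B d).val).law.toFun' A ((1 : A) ⊗ₜ[A] y) = z
    induction z using TensorProduct.induction_on with
    | zero => simp
    | add a b ha hb => simp only [map_add, ha, hb]
    | tmul a b => simp
  · show TensorProduct.lid A _ (((1 : A) ⊗ₜ[A] y) ^ d.factorial) = _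
    rw [Algebra.TensorProduct.tmul_pow, one_pow, TensorProduct.lid_tmul, one_smul]

theorem univHomeo_comparison {γ : PolLaw.MulLaw A B C d} (hγ : coefSub γ = ⊤)
    (φ : C →ₐ[A] SymTen.TS A B d) (hφ : γ.postcomp φ = tau A B d) :
    FlatMor.IsUnivHomeo (AlgebraicGeometry.Spec.map (CommRingCat.ofHom φ.toRingHom)) ∧
      HTop.ResidueFieldsIso (AlgebraicGeometry.Spec.map (CommRingCat.ofHom φ.toRingHom)) := by
  let f := φ.toRingHom
  have hN : d.factorial ≠ 0 := d.factorial_ne_zero
  have hinj : Function.Injective (PrimeSpectrum.comap f) := by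
    intro q q' h
    refine PrimeSpectrum.ext (Ideal.ext fun y => ?_)
    obtain ⟨c, hc⟩ := pow_mem_range φ hφ y
    have key : ∀ q : PrimeSpectrum (SymTen.TS A B d), y ∈ q.asIdeal ↔ c ∈ (PrimeSpectrum.comap f q).asIdeal := by
      intro q
      show y ∈ q.asIdeal ↔ φ c ∈ q.asIdeal
      rw [hc]
      exact (Ideal.IsPrime.pow_mem_iff_mem q.isPrime _ (Nat.pos_of_ne_zero hN)).symm
    rw [key, key, h]
  have hint : f.IsIntegral := by
    intro y
    obtain ⟨c, hc⟩ := pow_mem_range φ hφ y
    exact ⟨Polynomial.X ^ d.factorial - Polynomial.C c,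
      Polynomial.monic_X_pow_sub_C c hN, by
      rw [Polynomial.eval₂_sub, Polynomial.eval₂_pow, Polynomial.eval₂_X, Polynomial.eval₂_C, ← hc]
      exact sub_self _⟩
  have hpt : ∀ p : PrimeSpectrum C, ∃ ψ : SymTen.TS A B d →+* p.asIdeal.ResidueField,
      ψ.comp f = algebraMap C p.asIdeal.ResidueField := by
    intro p
    obtain ⟨ψ, hψ⟩ := exists_point_TS hγ φ hφ (IsScalarTower.toAlgHom A C p.asIdeal.ResidueField)
    exact ⟨ψ.toRingHom, congrArg AlgHom.toRingHom hψ⟩
  refine Groth.Agent.Eta.univHomeo_of_integral f hint ⟨hinj, fun p => ?_⟩ fun q => ?_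
  · obtain ⟨ψ, hψ⟩ := hpt p
    refine ⟨⟨RingHom.ker ψ, RingHom.ker_isPrime ψ⟩, PrimeSpectrum.ext ?_⟩
    show Ideal.comap f (RingHom.ker ψ) = p.asIdeal
    rw [RingHom.comap_ker, hψ, Ideal.ker_algebraMap_residueField]
  · let p := PrimeSpectrum.comap f q
    obtain ⟨ψ, hψ⟩ := hpt p
    have hker : RingHom.ker ψ = q.asIdeal := by
      have : (⟨RingHom.ker ψ, RingHom.ker_isPrime ψ⟩ : PrimeSpectrum (SymTen.TS A B d)) = q := by
        refine hinj (PrimeSpectrum.ext ?_)
        show Ideal.comap f (RingHom.ker ψ) = p.asIdeal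
        rw [RingHom.comap_ker, hψ, Ideal.ker_algebraMap_residueField]
      exact congrArg PrimeSpectrum.asIdeal this
    have hu : ∀ a ∈ q.asIdeal.primeCompl, IsUnit (ψ a) := fun a ha =>
      isUnit_iff_ne_zero.mpr fun h0 => ha (hker ▸ h0)
    let φ' : q.asIdeal.ResidueField →+* p.asIdeal.ResidueField :=
      Ideal.ResidueField.lift q.asIdeal ψ hker.ge hu
    let m := Ideal.ResidueField.map p.asIdeal q.asIdeal f rfl
    have hid : φ'.comp m = RingHom.id _ := by
      refine Ideal.ResidueField.ringHom_ext (RingHom.ext fun a => ?_)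
      show φ' (m (algebraMap C _ a)) = algebraMap C _ a
      rw [show m (algebraMap C _ a) = algebraMap _ q.asIdeal.ResidueField (f a) from
        Ideal.ResidueField.map_algebraMap _ _ _ _ a, ← hψ]
      exact Ideal.ResidueField.lift_algebraMap q.asIdeal ψ hker.ge hu (f a)
    intro z
    exact ⟨φ' z, φ'.injective (DFunLike.congr_fun hid (φ' z))⟩

end ZeroCyc
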