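import Groth.Prelude.Def_PolLaw
import Mathlib.LinearAlgebra.TensorProduct.RightExactness
import Mathlib.LinearAlgebra.TensorProduct.Basis
import Mathlib.RingTheory.Flat.Basic

/-!
# Generalities on polynomial laws

* `ZeroCyc.law_ext`: laws agree as soon as they agree on free test algebras.
* `ZeroCyc.codRestrict`: a law whose members on free test algebras land in a submodule factors through it.
* `ZeroCyc.descend`: a law invariant under the kernel of a surjection descends along it.
-/

universe u

open scoped TensorProduct

noncomputable section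

namespace ZeroCyc

variable {A : Type u} [CommRing A]

section Module

variable {M N P : Type u} [AddCommGroup M] [Module A M] [AddCommGroup N] [Module A N]
  [AddCommGroup P] [Module A P]

theorem law_natural (F : M →ₚₗ[A] N) {S S' : Type u} [CommSemiring S] [Algebra A S]
    [CommSemiring S'] [Algebra A S'] (φ : S →ₐ[A] S') (x : S ⊗[A] M) :
    φ.toLinearMap.rTensor N (F.toFun' S x) = F.toFun' S' (φ.toLinearMap.rTensor M x) :=
  congr_fun (F.isCompat' φ) x

/-- The canonical polynomial cover of an algebra. -/
def cover (A : Type u) [CommRing A] (S : Type u) [CommSemiring S] [Algebra A S] :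
    MvPolynomial S A →ₐ[A] S :=
  MvPolynomial.aeval _root_.id

theorem cover_surjective (S : Type u) [CommSemiring S] [Algebra A S] :
    Function.Surjective (cover A S) :=
  fun s => ⟨MvPolynomial.X s, by simp [cover]⟩

theorem exists_lift {S : Type u} [CommSemiring S] [Algebra A S] (x : S ⊗[A] M) :
    ∃ p : MvPolynomial S A ⊗[A] M, (cover A S).toLinearMap.rTensor M p = x :=
  LinearMap.rTensor_surjective M (cover_surjective S) x

theorem law_ext {F G : M →ₚₗ[A] N}
    (h : ∀ (R : Type u) [CommRing R] [Algebra A R] [Module.Free A R] (x : R ⊗[A] M),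
      F.toFun' R x = G.toFun' R x) : F = G := by
  ext S _ _ x
  obtain ⟨p, rfl⟩ := exists_lift x
  rw [← law_natural, ← law_natural, h]

/-- The coefficient functional attached to a linear form on the test algebra. -/
def cf {R : Type u} [AddCommMonoid R] [Module A R] (φ : R →ₗ[A] A) : R ⊗[A] N →ₗ[A] N :=
  (TensorProduct.lid A N).toLinearMap ∘ₗ φ.rTensor N

@[simp]
theorem cf_tmul {R : Type u} [AddCommMonoid R] [Module A R] (φ : R →ₗ[A] A) (r : R) (n : N) :
    cf φ (r ⊗ₜ[A] n) = φ r • n := by
  simp [cf]

theorem cf_lTensor {R : Type u} [AddCommMonoid R] [Module A R] (φ : R →ₗ[A] A) (f : N →ₗ[A] P)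
    (z : R ⊗[A] N) : cf φ (f.lTensor R z) = f (cf φ z) := by
  induction z using TensorProduct.induction_on with
  | zero => simp
  | tmul r n => simp
  | add a b ha hb => simp [ha, hb]

theorem cf_rTensor {R R' : Type u} [AddCommMonoid R] [Module A R] [AddCommMonoid R'] [Module A R']
    (φ : R' →ₗ[A] A) (g : R →ₗ[A] R') (z : R ⊗[A] N) :
    cf φ (g.rTensor N z) = cf (φ ∘ₗ g) z := by
  induction z using TensorProduct.induction_on with
  | zero => simp
  | tmul r n => simp
  | add a b ha hb => simp [ha, hb]

theorem cf_mem {R : Type u} [AddCommMonoid R] [Module A R] (N0 : Submodule A N) (φ : R →ₗ[A] A)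
    {z : R ⊗[A] N} (hz : z ∈ LinearMap.range (N0.subtype.lTensor R)) : cf φ z ∈ N0 := by
  obtain ⟨w, rfl⟩ := hz
  rw [cf_lTensor]
  exact Submodule.coe_mem _

theorem mem_range_lTensor_of_cf {R : Type u} [CommRing R] [Algebra A R] [Module.Free A R]
    (N0 : Submodule A N) {z : R ⊗[A] N} (h : ∀ φ : R →ₗ[A] A, cf φ z ∈ N0) :
    z ∈ LinearMap.range (N0.subtype.lTensor R) := by
  classical
  let b := Module.Free.chooseBasis A R
  rw [← (TensorProduct.equivFinsuppOfBasisLeft b).symm_apply_apply z,
    TensorProduct.equivFinsuppOfBasisLeft_symm_apply]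
  refine Submodule.sum_mem _ fun i _ => ?_
  have hi : TensorProduct.equivFinsuppOfBasisLeft b z i ∈ N0 := by
    rw [TensorProduct.equivFinsuppOfBasisLeft_apply]
    exact h (b.coord i)
  exact ⟨b i ⊗ₜ[A] ⟨_, hi⟩, by simp⟩

/-- Two elements of `R ⊗ N`, with `R` free, agree once all their coefficients do. -/
theorem eq_of_cf {R : Type u} [CommRing R] [Algebra A R] [Module.Free A R]
    {z z' : R ⊗[A] N} (h : ∀ φ : R →ₗ[A] A, cf φ z = cf φ z') : z = z' := by
  classical
  let b := Module.Free.chooseBasis A R
  apply (TensorProduct.equivFinsuppOfBasisLeft b).injective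
  ext i
  rw [TensorProduct.equivFinsuppOfBasisLeft_apply, TensorProduct.equivFinsuppOfBasisLeft_apply]
  exact h (b.coord i)

theorem mem_range_lTensor_of_cf' {R : Type u} [CommRing R] [Algebra A R] [Module.Free A R]
    (i : P →ₗ[A] N) {z : R ⊗[A] N} (h : ∀ φ : R →ₗ[A] A, cf φ z ∈ LinearMap.range i) :
    z ∈ LinearMap.range (i.lTensor R) := by
  obtain ⟨w, rfl⟩ := mem_range_lTensor_of_cf (LinearMap.range i) h
  obtain ⟨v, rfl⟩ := LinearMap.lTensor_surjective R i.surjective_rangeRestrict w
  exact ⟨v, by rw [← LinearMap.comp_apply, ← LinearMap.lTensor_comp]; rfl⟩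

section CodRestrict

/-- The condition that the members of a law on free test algebras land in the image of a linear map. -/
def LandsIn (i : P →ₗ[A] N) (F : M →ₚₗ[A] N) : Prop :=
  ∀ (R : Type u) [CommRing R] [Algebra A R] [Module.Free A R] (x : R ⊗[A] M),
    F.toFun' R x ∈ LinearMap.range (i.lTensor R)

theorem lTensor_injective {i : P →ₗ[A] N} (hi : Function.Injective i) {R : Type u} [CommRing R]
    [Algebra A R] [Module.Free A R] : Function.Injective (i.lTensor R) :=
  Module.Flat.lTensor_preserves_injective_linearMap _ hi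

variable {i : P →ₗ[A] N} (hi : Function.Injective i) {F : M →ₚₗ[A] N} (hF : LandsIn i F)

/-- The preimage of a value on a free test algebra. -/
def pre (R : Type u) [CommRing R] [Algebra A R] [Module.Free A R] (x : R ⊗[A] M) : R ⊗[A] P :=
  (hF R x).choose

theorem pre_spec (R : Type u) [CommRing R] [Algebra A R] [Module.Free A R] (x : R ⊗[A] M) :
    i.lTensor R (pre hF R x) = F.toFun' R x :=
  (hF R x).choose_spec

include hi in
theorem pre_natural {R R' : Type u} [CommRing R] [Algebra A R] [Module.Free A R]
    [CommRing R'] [Algebra A R'] [Module.Free A R'] (φ : R →ₐ[A] R') (x : R ⊗[A] M) :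
    φ.toLinearMap.rTensor P (pre hF R x) = pre hF R' (φ.toLinearMap.rTensor M x) := by
  apply lTensor_injective hi
  rw [pre_spec, ← LinearMap.comp_apply, LinearMap.lTensor_comp_rTensor,
    ← LinearMap.rTensor_comp_lTensor, LinearMap.comp_apply, pre_spec, law_natural]

include hi in
theorem pre_wellDefined {R S : Type u} [CommRing R] [Algebra A R] [Module.Free A R]
    [CommSemiring S] [Algebra A S] (ψ : R →ₐ[A] S) (hψ : Function.Surjective ψ)
    {p p' : R ⊗[A] M} (h : ψ.toLinearMap.rTensor M p = ψ.toLinearMap.rTensor M p') :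
    ψ.toLinearMap.rTensor P (pre hF R p) = ψ.toLinearMap.rTensor P (pre hF R p') := by
  let : CommRing S := (algebraMap A S).commSemiringToCommRing
  have hsub : ψ.toLinearMap.rTensor M (p - p') = 0 := by rw [map_sub, h, sub_self]
  obtain ⟨z, hz⟩ := ((rTensor_exact M (LinearMap.exact_subtype_ker_map ψ.toLinearMap) hψ) _).mp hsub
  have key : ∀ (z : LinearMap.ker ψ.toLinearMap ⊗[A] M) (q : R ⊗[A] M),
      ψ.toLinearMap.rTensor P (pre hF R (q + (LinearMap.ker ψ.toLinearMap).subtype.rTensor M z)) =
        ψ.toLinearMap.rTensor P (pre hF R q) := by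
    intro z
    induction z using TensorProduct.induction_on with
    | zero => simp
    | tmul f m =>
      intro q
      let R' := R ⊗[A] Polynomial A
      let inl : R →ₐ[A] R' := Algebra.TensorProduct.includeLeft
      let e : R → (R' →ₐ[A] R) := fun a =>
        Algebra.TensorProduct.lift (AlgHom.id A R) (Polynomial.aeval a) fun _ _ => Commute.all _ _
      let q' : R' ⊗[A] M := inl.toLinearMap.rTensor M q + ((1 : R) ⊗ₜ[A] Polynomial.X) ⊗ₜ[A] m
      have hinl : ∀ a, (e a).comp inl = AlgHom.id A R := fun a => by
        ext r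
        change e a (r ⊗ₜ[A] (1 : Polynomial A)) = r
        dsimp only [e]
        rw [Algebra.TensorProduct.lift_tmul]
        simp
      have he : ∀ a, (e a).toLinearMap.rTensor M q' = q + a ⊗ₜ[A] m := fun a => by
        have h1 : (e a).toLinearMap.rTensor M (inl.toLinearMap.rTensor M q) = q := by
          rw [← LinearMap.comp_apply, ← LinearMap.rTensor_comp, ← AlgHom.comp_toLinearMap, hinl]
          simp
        simp only [q', map_add, h1, LinearMap.rTensor_tmul, AlgHom.toLinearMap_apply]
        congr 1
        dsimp only [e]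
        rw [Algebra.TensorProduct.lift_tmul]
        simp
      have hcomp : ψ.comp (e (f : R)) = ψ.comp (e 0) := by
        have hf : ψ (f : R) = 0 := f.2
        apply Algebra.TensorProduct.ext
        · ext r; simp [e]
        · ext; simp [e, hf]
      have h0 : q = q + (0 : R) ⊗ₜ[A] m := by simp
      rw [LinearMap.rTensor_tmul, Submodule.coe_subtype, ← he (f : R)]
      conv_rhs => rw [h0, ← he 0]
      rw [← pre_natural hi, ← pre_natural hi, ← LinearMap.comp_apply, ← LinearMap.rTensor_comp,
        ← LinearMap.comp_apply, ← LinearMap.rTensor_comp, ← AlgHom.comp_toLinearMap,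
        ← AlgHom.comp_toLinearMap, hcomp]
    | add a b ha hb =>
      intro q
      rw [map_add, ← add_assoc, hb, ha]
  have := key z p'
  rw [hz] at this
  rw [← this]
  congr 2
  abel

include hi in
/-- A law whose members on free test algebras land in the image of an injective linear map, as a law
into its source. -/
def codRestrict : M →ₚₗ[A] P where
  toFun' S _ _ := fun x =>
    (cover A S).toLinearMap.rTensor P (pre hF (MvPolynomial S A) (exists_lift x).choose)
  isCompat' {S} _ _ {S'} _ _ φ := by
    funext x
    simp only [Function.comp_apply]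
    have hc : (cover A S').comp (MvPolynomial.rename φ) = φ.comp (cover A S) := by
      ext s; simp [cover]
    rw [← LinearMap.comp_apply, ← LinearMap.rTensor_comp, ← AlgHom.comp_toLinearMap, ← hc,
      AlgHom.comp_toLinearMap, LinearMap.rTensor_comp, LinearMap.comp_apply, pre_natural hi]
    apply pre_wellDefined hi hF _ (cover_surjective S')
    rw [← LinearMap.comp_apply, ← LinearMap.rTensor_comp, ← AlgHom.comp_toLinearMap, hc,
      AlgHom.comp_toLinearMap, LinearMap.rTensor_comp, LinearMap.comp_apply,
      (exists_lift x).choose_spec, (exists_lift (φ.toLinearMap.rTensor M x)).choose_spec]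

theorem codRestrict_spec (S : Type u) [CommSemiring S] [Algebra A S] (x : S ⊗[A] M) :
    i.lTensor S ((codRestrict hi hF).toFun' S x) = F.toFun' S x := by
  simp only [codRestrict]
  rw [← LinearMap.comp_apply, LinearMap.lTensor_comp_rTensor, ← LinearMap.rTensor_comp_lTensor,
    LinearMap.comp_apply, pre_spec, law_natural, (exists_lift x).choose_spec]

theorem postcomp_codRestrict : PolLaw.postcomp i (codRestrict hi hF) = F := by
  ext S _ _ x
  exact codRestrict_spec hi hF S x

end CodRestrict

section Descend

variable {M' : Type u} [AddCommGroup M'] [Module A M'] {π : M →ₗ[A] M'}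
  (hπ : Function.Surjective π) {F : M →ₚₗ[A] N}
  (hF : ∀ (S : Type u) [CommSemiring S] [Algebra A S] (x : S ⊗[A] M) (s : S) (k : M),
    π k = 0 → F.toFun' S (x + s ⊗ₜ[A] k) = F.toFun' S x)

include hπ hF in
theorem descend_wellDefined {S : Type u} [CommSemiring S] [Algebra A S] {x x' : S ⊗[A] M}
    (h : π.lTensor S x = π.lTensor S x') : F.toFun' S x = F.toFun' S x' := by
  let : CommRing S := (algebraMap A S).commSemiringToCommRing
  have hsub : π.lTensor S (x - x') = 0 := by rw [map_sub, h, sub_self]
  obtain ⟨z, hz⟩ := ((lTensor_exact S (LinearMap.exact_subtype_ker_map π) hπ) _).mp hsub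
  have key : ∀ (z : S ⊗[A] LinearMap.ker π) (q : S ⊗[A] M),
      F.toFun' S (q + (LinearMap.ker π).subtype.lTensor S z) = F.toFun' S q := by
    intro z
    induction z using TensorProduct.induction_on with
    | zero => simp
    | tmul s k =>
      intro q
      rw [LinearMap.lTensor_tmul, Submodule.coe_subtype]
      exact hF S q s k k.2
    | add a b ha hb =>
      intro q
      rw [map_add, ← add_assoc, hb, ha]
  have := key z x'
  rw [hz] at this
  rw [← this]
  congr 1
  abel

include hπ hF in
/-- The descent of a law along a surjective linear map. -/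
def descend : M' →ₚₗ[A] N where
  toFun' S _ _ := fun y => F.toFun' S (Function.surjInv (LinearMap.lTensor_surjective S hπ) y)
  isCompat' {S} _ _ {S'} _ _ φ := by
    funext y
    simp only [Function.comp_apply]
    rw [law_natural]
    apply descend_wellDefined hπ hF
    rw [← LinearMap.comp_apply, LinearMap.lTensor_comp_rTensor, ← LinearMap.rTensor_comp_lTensor,
      LinearMap.comp_apply, Function.surjInv_eq (LinearMap.lTensor_surjective S hπ),
      Function.surjInv_eq (LinearMap.lTensor_surjective S' hπ)]

theorem descend_spec (S : Type u) [CommSemiring S] [Algebra A S] (x : S ⊗[A] M) :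
    (descend hπ hF).toFun' S (π.lTensor S x) = F.toFun' S x :=
  descend_wellDefined hπ hF (Function.surjInv_eq (LinearMap.lTensor_surjective S hπ) _)

theorem precomp_descend : PolLaw.precomp (descend hπ hF) π = F := by
  ext S _ _ x
  exact descend_spec hπ hF S x

end Descend

end Module

end ZeroCyc
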