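import Groth.Agent.ZeroCyc.Law
import Mathlib.RingTheory.TensorProduct.Maps

/-!
# Multiplicative polynomial laws

* `ZeroCyc.ev F g x`: the value of a law `B → C` read in a test algebra `S` through `g : C →ₐ[A] S`.
* `ZeroCyc.Fam`: natural families of such values, and the law attached to such a family.
* `ZeroCyc.codLaw`, `ZeroCyc.descLaw`: restriction of the target, descent along a surjection.
* `ZeroCyc.coefSub F`: the span of the coefficients of a law.
-/

universe u

open scoped TensorProduct

noncomputable section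

namespace ZeroCyc

variable {A : Type u} [CommRing A]

section Maps

variable (B : Type u) [CommRing B] [Algebra A B]

/-- Change of test algebra. -/
def rT {S T : Type u} [CommSemiring S] [Algebra A S] [CommSemiring T] [Algebra A T] (h : S →ₐ[A] T) :
    S ⊗[A] B →ₐ[A] T ⊗[A] B :=
  Algebra.TensorProduct.map h (AlgHom.id A B)

theorem rT_eq {S T : Type u} [CommSemiring S] [Algebra A S] [CommSemiring T] [Algebra A T]
    (h : S →ₐ[A] T) (x : S ⊗[A] B) : rT B h x = h.toLinearMap.rTensor B x := by
  induction x using TensorProduct.induction_on with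
  | zero => simp
  | tmul s b => simp [rT]
  | add a b ha hb => simp [ha, hb]

@[simp]
theorem rT_tmul {S T : Type u} [CommSemiring S] [Algebra A S] [CommSemiring T] [Algebra A T]
    (h : S →ₐ[A] T) (s : S) (b : B) : rT B h (s ⊗ₜ[A] b) = h s ⊗ₜ[A] b := by
  simp [rT]

theorem rT_comp {S T U : Type u} [CommSemiring S] [Algebra A S] [CommSemiring T] [Algebra A T]
    [CommSemiring U] [Algebra A U] (h : S →ₐ[A] T) (k : T →ₐ[A] U) (x : S ⊗[A] B) :
    rT B k (rT B h x) = rT B (k.comp h) x := by
  induction x using TensorProduct.induction_on with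
  | zero => simp
  | tmul s b => simp
  | add a b ha hb => simp [ha, hb]

theorem rT_id {S : Type u} [CommSemiring S] [Algebra A S] (x : S ⊗[A] B) :
    rT B (AlgHom.id A S) x = x := by
  induction x using TensorProduct.induction_on with
  | zero => simp
  | tmul s b => simp
  | add a b ha hb => simp [ha, hb]

theorem rT_smul {S T : Type u} [CommSemiring S] [Algebra A S] [CommSemiring T] [Algebra A T]
    (h : S →ₐ[A] T) (s : S) (x : S ⊗[A] B) : rT B h (s • x) = h s • rT B h x := by
  induction x using TensorProduct.induction_on with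
  | zero => simp
  | tmul t b => simp [TensorProduct.smul_tmul']
  | add a b ha hb => simp [ha, hb]

variable {B} {B' : Type u} [CommRing B'] [Algebra A B']

/-- Change of coefficients. -/
def lT (f : B →ₐ[A] B') (S : Type u) [CommSemiring S] [Algebra A S] :
    S ⊗[A] B →ₐ[S] S ⊗[A] B' :=
  Algebra.TensorProduct.map (AlgHom.id S S) f

theorem lT_eq (f : B →ₐ[A] B') (S : Type u) [CommSemiring S] [Algebra A S] (x : S ⊗[A] B) :
    lT f S x = f.toLinearMap.lTensor S x :=
  (PolLaw.lTensor_algHom_apply f S x).symm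

@[simp]
theorem lT_tmul (f : B →ₐ[A] B') {S : Type u} [CommSemiring S] [Algebra A S] (s : S) (b : B) :
    lT f S (s ⊗ₜ[A] b) = s ⊗ₜ[A] f b := by
  simp [lT]

theorem rT_lT (f : B →ₐ[A] B') {S T : Type u} [CommSemiring S] [Algebra A S] [CommSemiring T]
    [Algebra A T] (h : S →ₐ[A] T) (x : S ⊗[A] B) : rT B' h (lT f S x) = lT f T (rT B h x) := by
  induction x using TensorProduct.induction_on with
  | zero => simp
  | tmul s b => simp
  | add a b ha hb => simp [ha, hb]

theorem lT_surjective {f : B →ₐ[A] B'} (hf : Function.Surjective f) (S : Type u) [CommSemiring S]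
    [Algebra A S] : Function.Surjective (lT f S) := by
  intro y
  obtain ⟨x, rfl⟩ := LinearMap.lTensor_surjective S (g := f.toLinearMap) hf y
  exact ⟨x, lT_eq f S x⟩

end Maps

variable {B C C' : Type u} [CommRing B] [Algebra A B] [CommRing C] [Algebra A C]
  [CommRing C'] [Algebra A C'] {d : ℕ}

theorem mulLaw_natural (F : PolLaw.MulLaw A B C d) {S T : Type u} [CommSemiring S] [Algebra A S]
    [CommSemiring T] [Algebra A T] (h : S →ₐ[A] T) (x : S ⊗[A] B) :
    rT C h (F.law.toFun' S x) = F.law.toFun' T (rT B h x) := by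
  rw [rT_eq, rT_eq, law_natural]

/-- Evaluation of `S ⊗ C` in `S` through `g`. -/
def evMap {S : Type u} [CommSemiring S] [Algebra A S] (g : C →ₐ[A] S) : S ⊗[A] C →ₐ[A] S :=
  Algebra.TensorProduct.lift (AlgHom.id A S) g fun _ _ => Commute.all _ _

@[simp]
theorem evMap_tmul {S : Type u} [CommSemiring S] [Algebra A S] (g : C →ₐ[A] S) (s : S) (c : C) :
    evMap g (s ⊗ₜ[A] c) = s * g c := by
  simp [evMap]

theorem evMap_natural {S T : Type u} [CommSemiring S] [Algebra A S] [CommSemiring T] [Algebra A T]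
    (h : S →ₐ[A] T) (g : C →ₐ[A] S) (z : S ⊗[A] C) :
    evMap (h.comp g) (rT C h z) = h (evMap g z) := by
  induction z using TensorProduct.induction_on with
  | zero => simp
  | tmul s c => simp
  | add a b ha hb => simp [ha, hb]

theorem evMap_smul {S : Type u} [CommSemiring S] [Algebra A S] (g : C →ₐ[A] S) (s : S)
    (z : S ⊗[A] C) : evMap g (s • z) = s * evMap g z := by
  induction z using TensorProduct.induction_on with
  | zero => simp
  | tmul t c => simp [TensorProduct.smul_tmul', mul_assoc]
  | add a b ha hb => simp [ha, hb, mul_add]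

theorem evMap_lT {S : Type u} [CommSemiring S] [Algebra A S] (f : C →ₐ[A] C') (g : C' →ₐ[A] S)
    (z : S ⊗[A] C) : evMap g (lT f S z) = evMap (g.comp f) z := by
  induction z using TensorProduct.induction_on with
  | zero => simp
  | tmul s c => simp
  | add a b ha hb => simp [ha, hb]

theorem evMap_self {S : Type u} [CommSemiring S] [Algebra A S] (z : S ⊗[A] C) :
    evMap (Algebra.TensorProduct.includeRight : C →ₐ[A] S ⊗[A] C)
      (rT C (Algebra.TensorProduct.includeLeft : S →ₐ[A] S ⊗[A] C) z) = z := by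
  induction z using TensorProduct.induction_on with
  | zero => simp
  | tmul s c => simp [Algebra.TensorProduct.tmul_mul_tmul]
  | add a b ha hb => simp [ha, hb]

/-- The value of a law `B → C` read in `S` through `g : C → S`. -/
def ev (F : PolLaw.MulLaw A B C d) {S : Type u} [CommSemiring S] [Algebra A S] (g : C →ₐ[A] S)
    (x : S ⊗[A] B) : S :=
  evMap g (F.law.toFun' S x)

section Ev

variable (F : PolLaw.MulLaw A B C d) {S T : Type u} [CommSemiring S] [Algebra A S] [CommSemiring T]
  [Algebra A T]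

theorem ev_natural (h : S →ₐ[A] T) (g : C →ₐ[A] S) (x : S ⊗[A] B) :
    ev F (h.comp g) (rT B h x) = h (ev F g x) := by
  rw [ev, ← mulLaw_natural, evMap_natural, ev]

@[simp]
theorem ev_one (g : C →ₐ[A] S) : ev F g 1 = 1 := by
  rw [ev, (F.mult S).1, map_one]

theorem ev_mul (g : C →ₐ[A] S) (x y : S ⊗[A] B) : ev F g (x * y) = ev F g x * ev F g y := by
  rw [ev, (F.mult S).2 x y, map_mul, ev, ev]

theorem ev_pow (g : C →ₐ[A] S) (x : S ⊗[A] B) (n : ℕ) : ev F g (x ^ n) = ev F g x ^ n := by
  induction n with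
  | zero => simp
  | succ k hk => rw [pow_succ, pow_succ, ev_mul, hk]

theorem ev_smul (g : C →ₐ[A] S) (s : S) (x : S ⊗[A] B) : ev F g (s • x) = s ^ d * ev F g x := by
  rw [ev, F.homog S s x, evMap_smul, ev]

theorem ev_self (x : S ⊗[A] B) :
    ev F (Algebra.TensorProduct.includeRight : C →ₐ[A] S ⊗[A] C)
      (rT B (Algebra.TensorProduct.includeLeft : S →ₐ[A] S ⊗[A] C) x) = F.law.toFun' S x := by
  rw [ev, ← mulLaw_natural, evMap_self]

theorem ev_postcomp (f : C →ₐ[A] C') (g : C' →ₐ[A] S) (x : S ⊗[A] B) :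
    ev (F.postcomp f) g x = ev F (g.comp f) x := by
  show evMap g (f.toLinearMap.lTensor S (F.law.toFun' S x)) = _
  rw [← lT_eq, evMap_lT, ev]

theorem ev_precomp {B' : Type u} [CommRing B'] [Algebra A B'] (f : B' →ₐ[A] B) (g : C →ₐ[A] S)
    (x : S ⊗[A] B') : ev (F.precomp f) g x = ev F g (lT f S x) := by
  show evMap g (F.law.toFun' S (f.toLinearMap.lTensor S x)) = _
  rw [← lT_eq, ev]

end Ev

theorem mulLaw_ext_free {F G : PolLaw.MulLaw A B C d}
    (h : ∀ (R : Type u) [CommRing R] [Algebra A R] [Module.Free A R] (x : R ⊗[A] B),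
      F.law.toFun' R x = G.law.toFun' R x) : F = G :=
  PolLaw.MulLaw.ext (law_ext h)

theorem mulLaw_ext_ev {F G : PolLaw.MulLaw A B C d}
    (h : ∀ (S : Type u) [CommRing S] [Algebra A S] (g : C →ₐ[A] S) (x : S ⊗[A] B),
      ev F g x = ev G g x) : F = G :=
  mulLaw_ext_free fun R _ _ _ x => by rw [← ev_self F x, ← ev_self G x, h]

section Fam

variable (A B C d) in
/-- Natural multiplicative families of values. -/
structure Fam where
  /-- the values -/
  val : ∀ (S : Type u) [CommRing S] [Algebra A S], (C →ₐ[A] S) → S ⊗[A] B → S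
  natural : ∀ {S T : Type u} [CommRing S] [Algebra A S] [CommRing T] [Algebra A T] (h : S →ₐ[A] T)
    (g : C →ₐ[A] S) (x : S ⊗[A] B), val T (h.comp g) (rT B h x) = h (val S g x)
  map_one : ∀ {S : Type u} [CommRing S] [Algebra A S] (g : C →ₐ[A] S), val S g 1 = 1
  map_mul : ∀ {S : Type u} [CommRing S] [Algebra A S] (g : C →ₐ[A] S) (x y : S ⊗[A] B),
    val S g (x * y) = val S g x * val S g y
  map_smul : ∀ {S : Type u} [CommRing S] [Algebra A S] (g : C →ₐ[A] S) (s : S) (x : S ⊗[A] B),
    val S g (s • x) = s ^ d * val S g x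

/-- The ring structure on a test algebra. -/
abbrev testRing (A : Type u) [CommRing A] (S : Type u) [CommSemiring S] [Algebra A S] : CommRing S :=
  (algebraMap A S).commSemiringToCommRing

/-- The member of the law attached to a family. -/
def famFun (E : Fam A B C d) (S : Type u) [CommSemiring S] [Algebra A S] (x : S ⊗[A] B) :
    S ⊗[A] C :=
  letI : CommRing S := testRing A S
  E.val (S ⊗[A] C) Algebra.TensorProduct.includeRight
    (rT B (Algebra.TensorProduct.includeLeft : S →ₐ[A] S ⊗[A] C) x)

theorem famFun_natural (E : Fam A B C d) {S T : Type u} [CommSemiring S] [Algebra A S]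
    [CommSemiring T] [Algebra A T] (h : S →ₐ[A] T) (x : S ⊗[A] B) :
    rT C h (famFun E S x) = famFun E T (rT B h x) := by
  let : CommRing S := testRing A S
  let : CommRing T := testRing A T
  refine (E.natural (rT C h) _ _).symm.trans ?_
  have h1 : (rT C h).comp (Algebra.TensorProduct.includeRight : C →ₐ[A] S ⊗[A] C) =
      Algebra.TensorProduct.includeRight := by
    ext c; simp
  have h2 : rT B (rT C h) (rT B (Algebra.TensorProduct.includeLeft : S →ₐ[A] S ⊗[A] C) x) =
      rT B (Algebra.TensorProduct.includeLeft : T →ₐ[A] T ⊗[A] C) (rT B h x) := by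
    rw [rT_comp, rT_comp]
    congr 1
  rw [h1, h2]
  rfl

/-- The law attached to a family. -/
def Fam.toLaw (E : Fam A B C d) : PolLaw.MulLaw A B C d where
  law :=
    { toFun' := fun S _ _ => famFun E S
      isCompat' := fun φ => by
        funext x
        simp only [Function.comp_apply]
        rw [← rT_eq, ← rT_eq, famFun_natural] }
  homog S _ _ s x := by
    let : CommRing S := testRing A S
    show famFun E S (s • x) = s ^ d • famFun E S x
    rw [famFun, famFun, rT_smul, E.map_smul]
    simp [Algebra.smul_def]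
  mult S _ _ := by
    let : CommRing S := testRing A S
    refine ⟨?_, fun x y => ?_⟩
    · show famFun E S 1 = 1
      exact (congrArg (E.val _ _) (_root_.map_one _)).trans (E.map_one _)
    · show famFun E S (x * y) = famFun E S x * famFun E S y
      exact (congrArg (E.val _ _) (_root_.map_mul _ x y)).trans (E.map_mul _ _ _)

theorem Fam.ev_toLaw (E : Fam A B C d) {S : Type u} [CommRing S] [Algebra A S] (g : C →ₐ[A] S)
    (x : S ⊗[A] B) : ev E.toLaw g x = E.val S g x := by
  refine Eq.trans (b := evMap g (famFun E S x)) rfl ?_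
  rw [famFun]
  refine Eq.trans (@Fam.natural A _ B C _ _ _ _ d E (S ⊗[A] C) S
    (@Algebra.TensorProduct.instCommRing A S C _ (testRing A S) _ _ _) _ _ _ (evMap g) _ _).symm ?_
  rw [rT_comp]
  have h1 : (evMap g).comp (Algebra.TensorProduct.includeRight : C →ₐ[A] S ⊗[A] C) = g := by
    ext c; simp
  have h2 : (evMap g).comp (Algebra.TensorProduct.includeLeft : S →ₐ[A] S ⊗[A] C) =
      AlgHom.id A S := by
    ext s; simp
  rw [h1, h2, rT_id]

end Fam

theorem exists_lift_ring {S : Type u} [CommSemiring S] [Algebra A S] (x : S ⊗[A] B) :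
    ∃ p : MvPolynomial S A ⊗[A] B, rT B (cover A S) p = x := by
  obtain ⟨p, hp⟩ := exists_lift x
  exact ⟨p, (rT_eq B _ p).trans hp⟩

/-- A law whose members on free test algebras are homogeneous and multiplicative is a multiplicative law. -/
def mulOfFree (F : B →ₚₗ[A] C)
    (h1 : ∀ (R : Type u) [CommRing R] [Algebra A R] [Module.Free A R],
      F.toFun' R (1 : R ⊗[A] B) = 1)
    (hm : ∀ (R : Type u) [CommRing R] [Algebra A R] [Module.Free A R] (x y : R ⊗[A] B),
      F.toFun' R (x * y) = F.toFun' R x * F.toFun' R y)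
    (hs : ∀ (R : Type u) [CommRing R] [Algebra A R] [Module.Free A R] (r : R) (x : R ⊗[A] B),
      F.toFun' R (r • x) = r ^ d • F.toFun' R x) : PolLaw.MulLaw A B C d where
  law := F
  homog S _ _ s x := by
    obtain ⟨p, rfl⟩ := exists_lift_ring x
    obtain ⟨r, rfl⟩ := cover_surjective (A := A) S s
    rw [← rT_smul, rT_eq, ← law_natural, ← rT_eq, hs, rT_smul, map_pow, rT_eq, law_natural, ← rT_eq]
  mult S _ _ := by
    have hn : ∀ p, F.toFun' S (rT B (cover A S) p) = rT C (cover A S) (F.toFun' _ p) := fun p => by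
      rw [rT_eq, rT_eq, law_natural]
    refine ⟨?_, fun x y => ?_⟩
    · rw [← map_one (rT B (cover A S)), hn, h1, map_one]
    · obtain ⟨p, rfl⟩ := exists_lift_ring x
      obtain ⟨q, rfl⟩ := exists_lift_ring y
      rw [← map_mul, hn, hn, hn, hm, map_mul]

section CodLaw

variable {C0 : Type u} [CommRing C0] [Algebra A C0] {i : C0 →ₐ[A] C} (hi : Function.Injective i)
  (F : PolLaw.MulLaw A B C d) (hF : LandsIn i.toLinearMap F.law)

include hi hF in
/-- A multiplicative law landing in a subalgebra, as a law into that subalgebra. -/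
def codLaw : PolLaw.MulLaw A B C0 d :=
  mulOfFree (codRestrict (i := i.toLinearMap) hi hF)
    (fun R _ _ _ => lTensor_injective (i := i.toLinearMap) hi (by
      rw [codRestrict_spec (i := i.toLinearMap) hi hF, (F.mult R).1, ← lT_eq, map_one]))
    (fun R _ _ _ x y => lTensor_injective (i := i.toLinearMap) hi (by
      rw [codRestrict_spec (i := i.toLinearMap) hi hF, ← lT_eq i, map_mul, lT_eq, lT_eq,
        codRestrict_spec (i := i.toLinearMap) hi hF, codRestrict_spec (i := i.toLinearMap) hi hF,
        (F.mult R).2]))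
    (fun R _ _ _ r x => lTensor_injective (i := i.toLinearMap) hi (by
      rw [codRestrict_spec (i := i.toLinearMap) hi hF, ← lT_eq i, map_smul, lT_eq,
        codRestrict_spec (i := i.toLinearMap) hi hF, F.homog R r x]))

theorem postcomp_codLaw : (codLaw hi F hF).postcomp i = F :=
  PolLaw.MulLaw.ext (postcomp_codRestrict (i := i.toLinearMap) hi hF)

theorem codLaw_spec (S : Type u) [CommSemiring S] [Algebra A S] (x : S ⊗[A] B) :
    lT i S ((codLaw hi F hF).law.toFun' S x) = F.law.toFun' S x := by
  rw [lT_eq]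
  exact codRestrict_spec (i := i.toLinearMap) hi hF S x

end CodLaw

section DescLaw

variable {B' : Type u} [CommRing B'] [Algebra A B'] {π : B →ₐ[A] B'} (hπ : Function.Surjective π)
  (F : PolLaw.MulLaw A B C d) (hF : ∀ b, π b = 0 → b ∈ PolLaw.ker F.law)

include hπ hF in
theorem desc_invariant (S : Type u) [CommSemiring S] [Algebra A S] (x : S ⊗[A] B) (s : S) (k : B)
    (hk : π.toLinearMap k = 0) : F.law.toFun' S (x + s ⊗ₜ[A] k) = F.law.toFun' S x := by
  have := hF k hk S x (s ⊗ₜ[A] 1)
  rwa [Algebra.TensorProduct.tmul_mul_tmul, mul_one, one_mul] at this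

theorem desc_spec_lT (S : Type u) [CommSemiring S] [Algebra A S] (x : S ⊗[A] B) :
    (descend (π := π.toLinearMap) hπ (desc_invariant hπ F hF)).toFun' S (lT π S x) =
      F.law.toFun' S x := by
  rw [lT_eq]
  exact descend_spec (π := π.toLinearMap) hπ (desc_invariant hπ F hF) S x

include hπ hF in
/-- Descent of a multiplicative law along a surjection whose kernel is contained in the kernel of the law. -/
def descLaw : PolLaw.MulLaw A B' C d where
  law := descend (π := π.toLinearMap) hπ (desc_invariant hπ F hF)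
  homog S _ _ s y := by
    obtain ⟨x, rfl⟩ := lT_surjective hπ S y
    rw [← map_smul, desc_spec_lT hπ F hF, desc_spec_lT hπ F hF, F.homog S s x]
  mult S _ _ := by
    refine ⟨?_, fun y y' => ?_⟩
    · rw [← map_one (lT π S), desc_spec_lT hπ F hF, (F.mult S).1]
    · obtain ⟨x, rfl⟩ := lT_surjective hπ S y
      obtain ⟨x', rfl⟩ := lT_surjective hπ S y'
      rw [← map_mul, desc_spec_lT hπ F hF, desc_spec_lT hπ F hF, desc_spec_lT hπ F hF, (F.mult S).2]

theorem descLaw_spec (S : Type u) [CommSemiring S] [Algebra A S] (x : S ⊗[A] B) :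
    (descLaw hπ F hF).law.toFun' S (lT π S x) = F.law.toFun' S x := by
  rw [lT_eq]
  exact descend_spec (π := π.toLinearMap) hπ (desc_invariant hπ F hF) S x

theorem precomp_descLaw : (descLaw hπ F hF).precomp π = F :=
  PolLaw.MulLaw.ext (precomp_descend (π := π.toLinearMap) hπ (desc_invariant hπ F hF))

theorem ev_descLaw {S : Type u} [CommSemiring S] [Algebra A S] (g : C →ₐ[A] S) (x : S ⊗[A] B) :
    ev (descLaw hπ F hF) g (lT π S x) = ev F g x := by
  rw [ev, descLaw_spec, ev]

end DescLaw

section Coef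

/-- The set of coefficients of a law. -/
def coefSet (F : PolLaw.MulLaw A B C d) : Set C :=
  {c | ∃ (R : Type u) (_ : CommRing R) (_ : Algebra A R) (_ : Module.Free A R) (φ : R →ₗ[A] A)
    (x : R ⊗[A] B), cf φ (F.law.toFun' R x) = c}

/-- The span of the coefficients of a law. -/
def coefSub (F : PolLaw.MulLaw A B C d) : Submodule A C :=
  Submodule.span A (coefSet F)

theorem cf_mem_coefSub (F : PolLaw.MulLaw A B C d) {R : Type u} [CommRing R] [Algebra A R]
    [Module.Free A R] (φ : R →ₗ[A] A) (x : R ⊗[A] B) : cf φ (F.law.toFun' R x) ∈ coefSub F := by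
  have h : cf φ (F.law.toFun' R x) ∈ coefSet F :=
    ⟨R, inferInstance, inferInstance, inferInstance, φ, x, rfl⟩
  exact Submodule.subset_span h

theorem one_mem_coefSub (F : PolLaw.MulLaw A B C d) : (1 : C) ∈ coefSub F := by
  have := cf_mem_coefSub F (R := A) LinearMap.id 1
  rwa [(F.mult A).1, Algebra.TensorProduct.one_def, cf_tmul, LinearMap.id_apply, one_smul] at this

/-- The product of two coefficient functionals. -/
def mulFun {R R' : Type u} [AddCommMonoid R] [Module A R] [AddCommMonoid R'] [Module A R']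
    (φ : R →ₗ[A] A) (φ' : R' →ₗ[A] A) : R ⊗[A] R' →ₗ[A] A :=
  (TensorProduct.lid A A).toLinearMap ∘ₗ TensorProduct.map φ φ'

theorem cf_mulFun {R R' : Type u} [CommRing R] [Algebra A R] [CommRing R'] [Algebra A R']
    (φ : R →ₗ[A] A) (φ' : R' →ₗ[A] A) (z : R ⊗[A] C) (z' : R' ⊗[A] C) :
    cf (mulFun φ φ') (rT C (Algebra.TensorProduct.includeLeft : R →ₐ[A] R ⊗[A] R') z *
      rT C (Algebra.TensorProduct.includeRight : R' →ₐ[A] R ⊗[A] R') z') = cf φ z * cf φ' z' := by
  induction z using TensorProduct.induction_on with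
  | zero => simp
  | add a b ha hb => simp [add_mul, ha, hb]
  | tmul r c =>
    induction z' using TensorProduct.induction_on with
    | zero => simp
    | add a b ha hb => simp only [map_add, mul_add, ha, hb]
    | tmul r' c' =>
      simp [mulFun, Algebra.TensorProduct.tmul_mul_tmul, smul_smul, mul_comm]

theorem cf_mulFun_law (F : PolLaw.MulLaw A B C d) {R R' : Type u} [CommRing R] [Algebra A R]
    [CommRing R'] [Algebra A R'] (φ : R →ₗ[A] A) (φ' : R' →ₗ[A] A) (x : R ⊗[A] B)
    (x' : R' ⊗[A] B) :
    cf (mulFun φ φ') (F.law.toFun' (R ⊗[A] R')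
        (rT B (Algebra.TensorProduct.includeLeft : R →ₐ[A] R ⊗[A] R') x *
          rT B (Algebra.TensorProduct.includeRight : R' →ₐ[A] R ⊗[A] R') x')) =
      cf φ (F.law.toFun' R x) * cf φ' (F.law.toFun' R' x') := by
  rw [(F.mult _).2, ← mulLaw_natural, ← mulLaw_natural, cf_mulFun]

theorem mul_mem_coefSub (F : PolLaw.MulLaw A B C d) {c c' : C} (hc : c ∈ coefSub F)
    (hc' : c' ∈ coefSub F) : c * c' ∈ coefSub F := by
  induction hc using Submodule.span_induction with
  | zero => simp
  | add a b _ _ ha hb => rw [add_mul]; exact add_mem ha hb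
  | smul a x _ hx => rw [Algebra.smul_mul_assoc]; exact Submodule.smul_mem _ _ hx
  | mem y hy =>
    induction hc' using Submodule.span_induction with
    | zero => simp
    | add a b _ _ ha hb => rw [mul_add]; exact add_mem ha hb
    | smul a x _ hx => rw [Algebra.mul_smul_comm]; exact Submodule.smul_mem _ _ hx
    | mem y' hy' =>
      obtain ⟨R, _, _, _, φ, x, rfl⟩ := hy
      obtain ⟨R', _, _, _, φ', x', rfl⟩ := hy'
      rw [← cf_mulFun_law]
      exact cf_mem_coefSub F _ _

/-- The subalgebra spanned by the coefficients of a law. -/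
def coefAlg (F : PolLaw.MulLaw A B C d) : Subalgebra A C :=
  (coefSub F).toSubalgebra (one_mem_coefSub F) fun _ _ => mul_mem_coefSub F

theorem mem_coefAlg {F : PolLaw.MulLaw A B C d} {c : C} : c ∈ coefAlg F ↔ c ∈ coefSub F :=
  Iff.rfl

theorem landsIn_coefAlg (F : PolLaw.MulLaw A B C d) : LandsIn (coefAlg F).val.toLinearMap F.law :=
  fun R _ _ _ x => mem_range_lTensor_of_cf' _ fun φ => ⟨⟨_, cf_mem_coefSub F φ x⟩, rfl⟩

theorem coefSub_eq_top {γ : PolLaw.MulLaw A B C d} (hγ : PolLaw.IsGammaD γ) : coefSub γ = ⊤ := by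
  let γ0 := codLaw (i := (coefAlg γ).val) Subtype.val_injective γ (landsIn_coefAlg γ)
  obtain ⟨f, hf, -⟩ := hγ (coefAlg γ) γ0
  obtain ⟨-, -, huniq⟩ := hγ C γ
  have h1 : (AlgHom.id A C) = (coefAlg γ).val.comp f := by
    obtain ⟨g, -, hg⟩ := hγ C γ
    have e1 : PolLaw.postcomp (AlgHom.id A C).toLinearMap γ.law = γ.law := by
      ext S _ _ x
      show (AlgHom.id A C).toLinearMap.lTensor S (γ.law.toFun' S x) = _
      simp
    have e2 : PolLaw.postcomp ((coefAlg γ).val.comp f).toLinearMap γ.law = γ.law := by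
      ext S _ _ x
      show ((coefAlg γ).val.comp f).toLinearMap.lTensor S (γ.law.toFun' S x) = _
      rw [AlgHom.comp_toLinearMap, LinearMap.lTensor_comp, LinearMap.comp_apply]
      have h2 : f.toLinearMap.lTensor S (γ.law.toFun' S x) = γ0.law.toFun' S x := by
        rw [← hf]; rfl
      rw [h2, ← lT_eq]
      exact codLaw_spec _ _ _ S x
    rw [hg _ e1, hg _ e2]
  rw [eq_top_iff]
  intro c _
  have : c = (f c : C) := AlgHom.congr_fun h1 c
  rw [this]
  exact (f c).2

theorem algHom_eq_on_coefSub {f g : C →ₐ[A] C'} {F : PolLaw.MulLaw A B C d}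
    (h : ∀ (R : Type u) [CommRing R] [Algebra A R] [Module.Free A R] (x : R ⊗[A] B),
      lT f R (F.law.toFun' R x) = lT g R (F.law.toFun' R x)) {c : C} (hc : c ∈ coefSub F) :
    f c = g c := by
  induction hc using Submodule.span_induction with
  | zero => simp
  | add a b _ _ ha hb => simp [ha, hb]
  | smul a x _ hx => simp [hx]
  | mem y hy =>
    obtain ⟨R, _, _, _, φ, x, rfl⟩ := hy
    have := congr_arg (cf φ) (h R x)
    rwa [lT_eq, lT_eq, cf_lTensor, cf_lTensor] at this

theorem algHom_ext_of_coefSub {f g : C →ₐ[A] C'} {F : PolLaw.MulLaw A B C d}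
    (hF : coefSub F = ⊤) (h : F.postcomp f = F.postcomp g) : f = g := by
  ext c
  refine algHom_eq_on_coefSub (F := F) (fun R _ _ _ x => ?_) (hF.symm ▸ Submodule.mem_top)
  have := congr_arg (fun G : PolLaw.MulLaw A B C' d => G.law.toFun' R x) h
  rw [lT_eq, lT_eq]
  exact this

end Coef

end ZeroCyc
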