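import Groth.Agent.ZeroCyc.Mul
import Groth.Prelude.Def_SymTen
import Mathlib.LinearAlgebra.PiTensorProduct.Basis
import Mathlib.Algebra.MvPolynomial.Basic
import Mathlib.Algebra.Polynomial.Div
import Mathlib.Algebra.Polynomial.Lifts
import Mathlib.Algebra.Polynomial.Eval.Coeff
import Mathlib.GroupTheory.Perm.Basic

/-!
# Tensor powers, the diagonal law and symmetric tensors
-/

universe u v

open scoped TensorProduct

noncomputable section

namespace ZeroCyc

variable {A : Type u} [CommRing A]

/-- The weight of a map `Fin d → κ`. -/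
def wt {κ : Type v} {d : ℕ} (c : Fin d → κ) : κ →₀ ℕ := ∑ l, Finsupp.single (c l) 1

theorem wt_apply {κ : Type v} [DecidableEq κ] {d : ℕ} (c : Fin d → κ) (i : κ) :
    wt c i = (Finset.univ.filter fun l => c l = i).card := by
  rw [wt, Finsupp.finsetSum_apply, Finset.card_filter]
  simp [Finsupp.single_apply]

theorem wt_comp {κ : Type v} {d : ℕ} (c : Fin d → κ) (σ : Equiv.Perm (Fin d)) :
    wt (c ∘ σ) = wt c :=
  Fintype.sum_equiv σ _ _ fun _ => rfl

theorem exists_perm_of_wt {κ : Type v} {d : ℕ} (Fx : Finset (Fin d)) {c c' : Fin d → κ}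
    (hw : wt c = wt c') (hF : ∀ l ∈ Fx, c l = c' l) :
    ∃ σ : Equiv.Perm (Fin d), (∀ l ∈ Fx, σ l = l) ∧ c' ∘ σ = c := by
  classical
  have hcard : ∀ i, Fintype.card {l : {l // l ∉ Fx} // c l = i} =
      Fintype.card {l : {l // l ∉ Fx} // c' l = i} := by
    intro i
    have h := DFunLike.congr_fun hw i
    rw [wt_apply, wt_apply] at h
    have split : ∀ f : Fin d → κ, (Finset.univ.filter fun l => f l = i).card =
        (Fx.filter fun l => f l = i).card + Fintype.card {l : {l // l ∉ Fx} // f l = i} := by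
      intro f
      rw [Fintype.card_congr (Equiv.subtypeSubtypeEquivSubtypeInter (· ∉ Fx) (fun l => f l = i)),
        Fintype.card_subtype, ← Finset.card_union_of_disjoint]
      · congr 1
        ext l
        by_cases hl : l ∈ Fx <;> simp [hl]
      · rw [Finset.disjoint_left]
        intro l hl hl'
        simp_all
    rw [split c, split c', Finset.filter_congr fun l hl => by rw [hF l hl]] at h
    omega
  let τ : Equiv.Perm {l // l ∉ Fx} :=
    Equiv.ofFiberEquiv fun i => Fintype.equivOfCardEq (hcard i)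
  refine ⟨Equiv.Perm.ofSubtype τ, fun l hl => ?_, ?_⟩
  · exact Equiv.Perm.ofSubtype_apply_of_not_mem τ (by simpa using hl)
  · funext l
    by_cases hl : l ∈ Fx
    · rw [Function.comp_apply, Equiv.Perm.ofSubtype_apply_of_not_mem τ (by simpa using hl), hF l hl]
    · rw [Function.comp_apply, Equiv.Perm.ofSubtype_apply_of_mem τ hl]
      exact Equiv.ofFiberEquiv_map (fun i => Fintype.equivOfCardEq (hcard i)) ⟨l, hl⟩

section Module

variable {M : Type u} [AddCommGroup M] [Module A M] {d : ℕ}

variable (A M d) in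
/-- The permutation of the factors of a tensor power. -/
def permL (σ : Equiv.Perm (Fin d)) : (⨂[A] _ : Fin d, M) →ₗ[A] (⨂[A] _ : Fin d, M) :=
  (PiTensorProduct.reindex A (fun _ : Fin d => M) σ).toLinearMap

theorem permL_tprod (σ : Equiv.Perm (Fin d)) (f : Fin d → M) :
    permL A M d σ (PiTensorProduct.tprod A f) = PiTensorProduct.tprod A fun i => f (σ.symm i) := by
  simp [permL, PiTensorProduct.reindex_tprod]

theorem permL_map {N : Type u} [AddCommGroup N] [Module A N] (f : M →ₗ[A] N)
    (σ : Equiv.Perm (Fin d)) :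
    PiTensorProduct.map (fun _ : Fin d => f) ∘ₗ permL A M d σ =
      permL A N d σ ∘ₗ PiTensorProduct.map (fun _ : Fin d => f) := by
  ext g
  simp [permL_tprod, PiTensorProduct.map_tprod]

variable {κ : Type v} (b : Module.Basis κ A M)

/-- The basis of a tensor power. -/
def powBasis : Module.Basis (Fin d → κ) A (⨂[A] _ : Fin d, M) :=
  _root_.Basis.piTensorProduct fun _ : Fin d => b

theorem powBasis_apply (c : Fin d → κ) :
    powBasis b c = PiTensorProduct.tprod A fun l => b (c l) :=
  _root_.Basis.piTensorProduct_apply _ _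

theorem powBasis_repr_perm (σ : Equiv.Perm (Fin d)) (t : ⨂[A] _ : Fin d, M) (c : Fin d → κ) :
    (powBasis b).repr (permL A M d σ t) c = (powBasis b).repr t (c ∘ σ) := by
  classical
  have : (Finsupp.lapply c : ((Fin d → κ) →₀ A) →ₗ[A] A) ∘ₗ (powBasis b).repr.toLinearMap ∘ₗ
      permL A M d σ = Finsupp.lapply (c ∘ σ) ∘ₗ (powBasis b).repr.toLinearMap := by
    apply (powBasis b).ext
    intro p
    have hp : permL A M d σ (powBasis b p) = powBasis b (p ∘ σ.symm) := by
      rw [powBasis_apply, permL_tprod, powBasis_apply]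
      rfl
    simp only [LinearMap.comp_apply, LinearEquiv.coe_coe, hp, Module.Basis.repr_self,
      Finsupp.lapply_apply, Finsupp.single_apply]
    congr 1
    exact propext ⟨fun h => by rw [← h]; funext l; simp, fun h => by rw [h]; funext l; simp⟩
  exact LinearMap.congr_fun this t

/-- The sum of the basis tensors with a given weight and given values on `Fx`. -/
def orbSum [DecidableEq κ] (t : Fin d → Finset κ) (k : κ →₀ ℕ) : ⨂[A] _ : Fin d, M :=
  ∑ c ∈ (Fintype.piFinset t).filter (fun c => wt c = k), PiTensorProduct.tprod A fun l => b (c l)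

theorem mem_of_invariant [DecidableEq κ] (Fx : Finset (Fin d)) (W : Submodule A (⨂[A] _ : Fin d, M))
    (hW : ∀ (s : Finset κ) (c0 : Fin d → κ), (∀ l, c0 l ∈ s) →
      orbSum b (fun l => if l ∈ Fx then {c0 l} else s) (wt c0) ∈ W)
    (t : ⨂[A] _ : Fin d, M)
    (ht : ∀ σ : Equiv.Perm (Fin d), (∀ l ∈ Fx, σ l = l) → permL A M d σ t = t) : t ∈ W := by
  induction hn : ((powBasis b).repr t).support.card using Nat.strong_induction_on generalizing t with
  | _ n ih =>
    by_cases h0 : ((powBasis b).repr t).support = ∅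
    · rw [Finsupp.support_eq_empty] at h0
      rw [(powBasis b).repr.map_eq_zero_iff.mp h0]
      exact zero_mem W
    obtain ⟨c0, hc0⟩ := Finset.nonempty_iff_ne_empty.mpr h0
    let s := Finset.univ.image c0
    let tt : Fin d → Finset κ := fun l => if l ∈ Fx then {c0 l} else s
    let m := orbSum b tt (wt c0)
    let S := (Fintype.piFinset tt).filter fun c => wt c = wt c0
    have hmW : m ∈ W := hW s c0 fun l => Finset.mem_image_of_mem _ (Finset.mem_univ l)
    have hmem : ∀ c, c ∈ S ↔ wt c = wt c0 ∧ ∀ l ∈ Fx, c l = c0 l := by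
      intro c
      constructor
      · intro hc
        rw [Finset.mem_filter, Fintype.mem_piFinset] at hc
        exact ⟨hc.2, fun l hl => by simpa [tt, hl] using hc.1 l⟩
      · rintro ⟨hw, hF⟩
        obtain ⟨σ, -, hσc⟩ := exists_perm_of_wt Fx hw hF
        rw [Finset.mem_filter, Fintype.mem_piFinset]
        refine ⟨fun l => ?_, hw⟩
        by_cases hl : l ∈ Fx
        · simp [tt, hl, hF l hl]
        · simp only [tt, hl, if_false, s, ← hσc]
          exact Finset.mem_image_of_mem _ (Finset.mem_univ _)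
    have hrep : ∀ c, (powBasis b).repr m c = if c ∈ S then 1 else 0 := by
      intro c
      have : m = ∑ p ∈ S, powBasis b p := Finset.sum_congr rfl fun p _ => (powBasis_apply b p).symm
      rw [this, map_sum, Finsupp.finsetSum_apply]
      simp [Finsupp.single_apply]
    have hconst : ∀ c ∈ S, (powBasis b).repr t c = (powBasis b).repr t c0 := by
      intro c hc
      obtain ⟨hw, hF⟩ := (hmem c).mp hc
      obtain ⟨σ, hσ, hσc⟩ := exists_perm_of_wt Fx hw hF
      rw [← hσc, ← powBasis_repr_perm, ht σ hσ]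
    let t' := t - (powBasis b).repr t c0 • m
    have ht' : ∀ σ : Equiv.Perm (Fin d), (∀ l ∈ Fx, σ l = l) → permL A M d σ t' = t' := by
      intro σ hσ
      have hm : permL A M d σ m = m := by
        apply (powBasis b).repr.injective
        ext c
        rw [powBasis_repr_perm, hrep, hrep]
        congr 1
        refine propext ?_
        rw [hmem, hmem, wt_comp]
        exact and_congr Iff.rfl (forall₂_congr fun l hl => by rw [Function.comp_apply, hσ l hl])
      rw [map_sub, map_smul, ht σ hσ, hm]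
    have hsupp : ((powBasis b).repr t').support ⊆ ((powBasis b).repr t).support.erase c0 := by
      intro c hc
      rw [Finsupp.mem_support_iff, map_sub, map_smul, Finsupp.sub_apply, Finsupp.smul_apply, hrep] at hc
      rw [Finset.mem_erase, Finsupp.mem_support_iff]
      by_cases hcS : c ∈ S
      · rw [if_pos hcS, hconst c hcS] at hc
        simp at hc
      · rw [if_neg hcS] at hc
        refine ⟨fun h => hcS ((hmem c).mpr ⟨by rw [h], fun l _ => by rw [h]⟩), by simpa using hc⟩
    have hlt : ((powBasis b).repr t').support.card < n := by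
      rw [← hn]
      exact lt_of_le_of_lt (Finset.card_le_card hsupp) (Finset.card_erase_lt_of_mem hc0)
    have := ih _ hlt t' ht' rfl
    have e : t = t' + (powBasis b).repr t c0 • m := by simp [t']
    rw [e]
    exact add_mem this (W.smul_mem _ hmW)

end Module

section Algebra

variable (A) (B : Type u) [CommRing B] [Algebra A B] (d : ℕ)

/-- The tensor power. -/
abbrev Tp : Type u := ⨂[A] _ : Fin d, B

variable {A B d}

/-- The `l`-th coordinate map into the tensor power. -/
def slot (l : Fin d) : B →ₐ[A] Tp A B d :=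
  PiTensorProduct.singleAlgHom (R := A) (A := fun _ : Fin d => B) l

theorem slot_apply (l : Fin d) (b : B) :
    slot l b = PiTensorProduct.tprod A (Pi.mulSingle l b : Fin d → B) := rfl

theorem tprod_eq_prod (f : Fin d → B) :
    (PiTensorProduct.tprod A f : Tp A B d) = ∏ l, slot l (f l) := by
  have h := map_prod (PiTensorProduct.tprodMonoidHom A (A := fun _ : Fin d => B))
    (fun l => (Pi.mulSingle l (f l) : Fin d → B)) Finset.univ
  rw [Finset.univ_prod_mulSingle] at h
  exact h

theorem permL_eq_perm (σ : Equiv.Perm (Fin d)) (t : Tp A B d) :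
    permL A B d σ t = SymTen.perm A B d σ t :=
  (SymTen.perm_apply A B d σ t).symm

theorem perm_slot (σ : Equiv.Perm (Fin d)) (l : Fin d) :
    (SymTen.perm A B d σ).comp (slot l) = slot (σ l) := by
  ext b
  rw [AlgHom.comp_apply, slot_apply, slot_apply, SymTen.perm_tprod]
  congr 1
  funext i
  by_cases h : σ.symm i = l
  · subst h; simp
  · have h' : i ≠ σ l := fun e => h (by simp [e])
    simp [h, h']

theorem mem_TS_of_perm {t : Tp A B d} (h : ∀ σ, SymTen.perm A B d σ t = t) :
    t ∈ SymTen.TS A B d :=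
  (SymTen.mem_TS_iff A B d t).mpr fun σ => by rw [← SymTen.perm_apply]; exact h σ

theorem perm_eq_of_mem_TS {t : Tp A B d} (h : t ∈ SymTen.TS A B d) (σ : Equiv.Perm (Fin d)) :
    SymTen.perm A B d σ t = t := by
  rw [SymTen.perm_apply]
  exact (SymTen.mem_TS_iff A B d t).mp h σ

theorem mem_range_TS {R : Type u} [CommRing R] [Algebra A R] [Module.Free A R]
    {z : R ⊗[A] Tp A B d} (h : ∀ σ, lT (SymTen.perm A B d σ) R z = z) :
    z ∈ LinearMap.range ((SymTen.TS A B d).val.toLinearMap.lTensor R) := by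
  refine mem_range_lTensor_of_cf' _ fun φ => ⟨⟨cf φ z, mem_TS_of_perm fun σ => ?_⟩, rfl⟩
  conv_rhs => rw [← h σ]
  rw [lT_eq, cf_lTensor]
  rfl

variable (A B d) in
/-- The family of the law `x ↦ x ⊗ ⋯ ⊗ x`. -/
def diagFam : Fam A B (Tp A B d) d where
  val _ _ _ g x := ∏ l, evMap (g.comp (slot l)) x
  natural h g x := by
    rw [map_prod]
    exact Finset.prod_congr rfl fun l _ => by rw [AlgHom.comp_assoc, evMap_natural]
  map_one g := by simp
  map_mul g x y := by simp [Finset.prod_mul_distrib]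
  map_smul g s x := by simp [evMap_smul, Finset.prod_mul_distrib]

variable (A B d) in
/-- The law `x ↦ x ⊗ ⋯ ⊗ x` into the tensor power. -/
def diagLaw : PolLaw.MulLaw A B (Tp A B d) d := (diagFam A B d).toLaw

theorem evMap_slot_self {S : Type u} [CommSemiring S] [Algebra A S] (l : Fin d) (x : S ⊗[A] B) :
    evMap ((Algebra.TensorProduct.includeRight : Tp A B d →ₐ[A] S ⊗[A] Tp A B d).comp (slot l))
      (rT B (Algebra.TensorProduct.includeLeft : S →ₐ[A] S ⊗[A] Tp A B d) x) = lT (slot l) S x := by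
  induction x using TensorProduct.induction_on with
  | zero => simp
  | tmul s b => simp [Algebra.TensorProduct.tmul_mul_tmul]
  | add a b ha hb => simp [ha, hb]

theorem diagLaw_apply (S : Type u) [CommSemiring S] [Algebra A S] (x : S ⊗[A] B) :
    (diagLaw A B d).law.toFun' S x = ∏ l, lT (slot l) S x := by
  refine Eq.trans (b := ∏ l, evMap
    ((Algebra.TensorProduct.includeRight : Tp A B d →ₐ[A] S ⊗[A] Tp A B d).comp (slot l))
    (rT B (Algebra.TensorProduct.includeLeft : S →ₐ[A] S ⊗[A] Tp A B d) x)) rfl ?_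
  exact Finset.prod_congr rfl fun l _ => evMap_slot_self l x

theorem diagLaw_landsIn :
    LandsIn (SymTen.TS A B d).val.toLinearMap (diagLaw A B d).law := by
  intro R _ _ _ x
  refine mem_range_TS fun σ => ?_
  rw [diagLaw_apply, map_prod]
  refine Fintype.prod_equiv σ _ _ fun l => ?_
  rw [← perm_slot σ l]
  induction x using TensorProduct.induction_on with
  | zero => simp
  | tmul s b => simp
  | add a b ha hb => simp [ha, hb]

variable (A B d) in
/-- The law `x ↦ x ⊗ ⋯ ⊗ x` into the symmetric tensors. -/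
def tau : PolLaw.MulLaw A B (SymTen.TS A B d) d :=
  codLaw (i := (SymTen.TS A B d).val) Subtype.val_injective (diagLaw A B d) diagLaw_landsIn

theorem tau_spec (S : Type u) [CommSemiring S] [Algebra A S] (x : S ⊗[A] B) :
    lT (SymTen.TS A B d).val S ((tau A B d).law.toFun' S x) = ∏ l, lT (slot l) S x := by
  rw [← diagLaw_apply]
  exact codLaw_spec (i := (SymTen.TS A B d).val) Subtype.val_injective (diagLaw A B d) diagLaw_landsIn S x

theorem postcomp_tau : (tau A B d).postcomp (SymTen.TS A B d).val = diagLaw A B d :=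
  postcomp_codLaw (i := (SymTen.TS A B d).val) Subtype.val_injective (diagLaw A B d) diagLaw_landsIn

theorem prod_tmul {κ : Type v} (s : Finset κ) {S C : Type u} [CommSemiring S] [Algebra A S]
    [CommRing C] [Algebra A C] (f : κ → S) (g : κ → C) :
    ∏ i ∈ s, (f i ⊗ₜ[A] g i) = (∏ i ∈ s, f i) ⊗ₜ[A] ∏ i ∈ s, g i := by
  classical
  induction s using Finset.induction_on with
  | empty => simp [Algebra.TensorProduct.one_def]
  | insert a s ha ih =>
    rw [Finset.prod_insert ha, Finset.prod_insert ha, Finset.prod_insert ha, ih,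
      Algebra.TensorProduct.tmul_mul_tmul]

theorem prod_slot_sum {κ : Type v} [DecidableEq κ] (S : Type u) [CommSemiring S] [Algebra A S]
    (t : Fin d → Finset κ) (s : κ → S) (v : κ → B) :
    ∏ l, lT (slot l) S (∑ i ∈ t l, s i ⊗ₜ[A] v i) =
      ∑ c ∈ Fintype.piFinset t, (∏ l, s (c l)) ⊗ₜ[A] PiTensorProduct.tprod A fun l => v (c l) := by
  simp only [map_sum, lT_tmul]
  rw [Finset.prod_univ_sum]
  exact Finset.sum_congr rfl fun c _ => by rw [prod_tmul, tprod_eq_prod]

theorem exists_fin_sum {M : Type u} [AddCommGroup M] [Module A M] {S : Type u} [CommSemiring S]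
    [Algebra A S] (x : S ⊗[A] M) :
    ∃ (n : ℕ) (s : Fin n → S) (m : Fin n → M), ∑ j, s j ⊗ₜ[A] m j = x := by
  induction x using TensorProduct.induction_on with
  | zero => exact ⟨0, Fin.elim0, Fin.elim0, by simp⟩
  | tmul s m => exact ⟨1, fun _ => s, fun _ => m, by simp⟩
  | add a b ha hb =>
    obtain ⟨n, s, m, rfl⟩ := ha
    obtain ⟨n', s', m', rfl⟩ := hb
    exact ⟨n + n', Fin.append s s', Fin.append m m', by simp [Fin.sum_univ_add]⟩

theorem postcomp_eq_tau {C : Type u} [CommRing C] [Algebra A C] (γ : PolLaw.MulLaw A B C d)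
    (φ : C →ₐ[A] SymTen.TS A B d)
    (hφ : ∀ (S : Type u) [CommSemiring S] [Algebra A S] (n : ℕ) (s : Fin n → S) (b : Fin n → B),
      ((SymTen.TS A B d).val.comp φ).toLinearMap.lTensor S (γ.law.toFun' S (∑ j, s j ⊗ₜ[A] b j)) =
        ∑ c : Fin d → Fin n, (∏ i, s (c i)) ⊗ₜ[A] PiTensorProduct.tprod A (fun i => b (c i))) :
    γ.postcomp φ = tau A B d := by
  refine mulLaw_ext_free fun R _ _ _ x => ?_
  apply lTensor_injective (i := (SymTen.TS A B d).val.toLinearMap) Subtype.val_injective (R := R)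
  rw [← lT_eq (SymTen.TS A B d).val, ← lT_eq (SymTen.TS A B d).val, tau_spec]
  obtain ⟨n, s, b, rfl⟩ := exists_fin_sum x
  rw [prod_slot_sum R (fun _ : Fin d => (Finset.univ : Finset (Fin n))) s b, Fintype.piFinset_univ,
    ← hφ R n s b, AlgHom.comp_toLinearMap, LinearMap.lTensor_comp, LinearMap.comp_apply, lT_eq]
  rfl

theorem hom_lTensor_tau (S : Type u) [CommSemiring S] [Algebra A S] (n : ℕ) (s : Fin n → S)
    (b : Fin n → B) :
    (SymTen.TS A B d).val.toLinearMap.lTensor S ((tau A B d).law.toFun' S (∑ j, s j ⊗ₜ[A] b j)) =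
      ∑ c : Fin d → Fin n, (∏ i, s (c i)) ⊗ₜ[A] PiTensorProduct.tprod A (fun i => b (c i)) := by
  rw [← lT_eq, tau_spec, prod_slot_sum S (fun _ : Fin d => (Finset.univ : Finset (Fin n))) s b,
    Fintype.piFinset_univ]

/-- `∏ X (c l) = X^(wt c)`. -/
theorem prod_X {κ : Type v} (c : Fin d → κ) :
    ∏ l, (MvPolynomial.X (c l) : MvPolynomial κ A) = MvPolynomial.monomial (wt c) 1 := by
  rw [wt, MvPolynomial.monomial_sum_one]
  rfl

theorem cf_prod_slot_X {κ : Type u} [DecidableEq κ] (t : Fin d → Finset κ) (v : κ → B)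
    (k : κ →₀ ℕ) :
    cf (MvPolynomial.lcoeff A k)
        (∏ l, lT (slot l) (MvPolynomial κ A) (∑ i ∈ t l, MvPolynomial.X i ⊗ₜ[A] v i)) =
      ∑ c ∈ (Fintype.piFinset t).filter (fun c => wt c = k),
        PiTensorProduct.tprod A fun l => v (c l) := by
  classical
  rw [prod_slot_sum (MvPolynomial κ A) t (fun i => MvPolynomial.X i) v, map_sum, Finset.sum_filter]
  refine Finset.sum_congr rfl fun c _ => ?_
  rw [cf_tmul, prod_X, MvPolynomial.lcoeff_apply, MvPolynomial.coeff_monomial]
  split_ifs <;> simp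

theorem mem_coefSub_orbSum {κ : Type u} [DecidableEq κ] (s : Finset κ) (v : κ → B) (k : κ →₀ ℕ)
    (h : (∑ c ∈ (Fintype.piFinset fun _ : Fin d => s).filter (fun c => wt c = k),
        PiTensorProduct.tprod A fun l => v (c l)) ∈ SymTen.TS A B d) :
    (⟨_, h⟩ : SymTen.TS A B d) ∈ coefSub (tau A B d) := by
  have := cf_mem_coefSub (tau A B d) (MvPolynomial.lcoeff A k)
    (∑ i ∈ s, MvPolynomial.X i ⊗ₜ[A] v i)
  convert this using 1
  apply Subtype.ext
  show _ = (SymTen.TS A B d).val.toLinearMap _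
  rw [← cf_lTensor, ← lT_eq, tau_spec, cf_prod_slot_X (fun _ => s) v k]

theorem coefSub_tau_of_basis {κ : Type u} (b : Module.Basis κ A B) :
    coefSub (tau A B d) = ⊤ := by
  classical
  rw [eq_top_iff]
  rintro ⟨t, ht⟩ -
  have key : t ∈ (coefSub (tau A B d)).map (SymTen.TS A B d).val.toLinearMap := by
    refine mem_of_invariant b ∅ _ (fun s c0 _ => ?_) t fun σ _ => ?_
    · have hmem := cf_mem_coefSub (tau A B d) (MvPolynomial.lcoeff A (wt c0))
        (∑ i ∈ s, MvPolynomial.X i ⊗ₜ[A] b i)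
      refine ⟨_, hmem, ?_⟩
      rw [← cf_lTensor, ← lT_eq, tau_spec, cf_prod_slot_X (fun _ => s) b]
      simp [orbSum]
    · rw [permL_eq_perm]; exact perm_eq_of_mem_TS ht σ
  obtain ⟨u, hu, rfl⟩ := key
  exact hu

/-- Every tensor fixed by the permutations fixing a slot lies in the subalgebra generated by the
symmetric tensors and that slot. -/
theorem mem_sup_of_stab {κ : Type u} (b : Module.Basis κ A B) (l0 : Fin d) {t : Tp A B d}
    (ht : ∀ σ : Equiv.Perm (Fin d), σ l0 = l0 → SymTen.perm A B d σ t = t) :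
    t ∈ SymTen.TS A B d ⊔ (slot (A := A) (B := B) l0).range := by
  classical
  set E := SymTen.TS A B d ⊔ (slot (A := A) (B := B) l0).range
  refine mem_of_invariant b {l0} (Subalgebra.toSubmodule E) (fun s c0 _ => ?_) t fun σ hσ => ?_
  swap
  · rw [permL_eq_perm]; exact ht σ (hσ l0 (Finset.mem_singleton_self _))
  let R := MvPolynomial κ A
  let z : Fin d → R ⊗[A] Tp A B d := fun l => lT (slot l) R (∑ i ∈ s, MvPolynomial.X i ⊗ₜ[A] b i)
  let E' : Subalgebra R (R ⊗[A] Tp A B d) := (lT E.val R).range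
  have hE' : ∀ y, y ∈ LinearMap.range ((SymTen.TS A B d).val.toLinearMap.lTensor R) → y ∈ E' := by
    rintro y ⟨w, rfl⟩
    refine ⟨lT (Subalgebra.inclusion le_sup_left) R w, ?_⟩
    rw [← lT_eq]
    show lT E.val R (lT (Subalgebra.inclusion le_sup_left) R w) = _
    induction w using TensorProduct.induction_on with
    | zero => simp
    | tmul s b => simp
    | add a b ha hb => simp only [map_add, ha, hb]
  let P : Polynomial (R ⊗[A] Tp A B d) := ∏ l, (Polynomial.X + Polynomial.C (z l))
  have hPcoef : ∀ j, P.coeff j ∈ E' := by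
    intro j
    refine hE' _ (mem_range_TS fun σ => ?_)
    have hz : ∀ l, lT (SymTen.perm A B d σ) R (z l) = z (σ l) := by
      intro l
      simp only [z, map_sum, lT_tmul]
      exact Finset.sum_congr rfl fun i _ => by rw [← perm_slot σ l]; rfl
    have hP : P.map (lT (SymTen.perm A B d σ) R).toRingHom = P := by
      rw [Polynomial.map_prod]
      refine Fintype.prod_equiv σ _ _ fun l => ?_
      simp [hz]
    conv_rhs => rw [← hP]
    rw [Polynomial.coeff_map]
    rfl
  have hz0 : z l0 ∈ E' := by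
    simp only [z, map_sum, lT_tmul]
    refine Subalgebra.sum_mem _ fun i _ =>
      ⟨MvPolynomial.X i ⊗ₜ[A] (⟨slot l0 (b i), (le_sup_right : _ ≤ E) ⟨b i, rfl⟩⟩ : E), by simp⟩
  let Q : Polynomial (R ⊗[A] Tp A B d) :=
    ∏ l ∈ Finset.univ.erase l0, (Polynomial.X + Polynomial.C (z l))
  have hQ : P /ₘ (Polynomial.X + Polynomial.C (z l0)) = Q := by
    show (∏ l, (Polynomial.X + Polynomial.C (z l))) /ₘ _ = _
    rw [← Finset.mul_prod_erase Finset.univ _ (Finset.mem_univ l0)]
    exact Polynomial.mul_divByMonic_cancel_left _ (Polynomial.monic_X_add_C _)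
  have hQ0 : Q.coeff 0 ∈ E' := by
    let E'' := E'.toSubring
    let ψ : E'' →+* R ⊗[A] Tp A B d := E''.subtype
    obtain ⟨P', hP'⟩ : ∃ P' : Polynomial E'', P'.map ψ = P :=
      (Polynomial.mem_lifts P).mp
        ((Polynomial.lifts_iff_coeff_lifts P).mpr fun j => ⟨⟨_, hPcoef j⟩, rfl⟩)
    have hm : (Polynomial.X + Polynomial.C (⟨z l0, hz0⟩ : E'')).Monic := Polynomial.monic_X_add_C _
    have := Polynomial.map_divByMonic (p := P') ψ hm
    rw [hP'] at this
    have hmap : (Polynomial.X + Polynomial.C (⟨z l0, hz0⟩ : E'')).map ψ =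
        Polynomial.X + Polynomial.C (z l0) := by
      simp [ψ]
    rw [hmap, hQ] at this
    rw [← this, Polynomial.coeff_map]
    exact ((P' /ₘ _).coeff 0).2
  have hQ' : Q.coeff 0 = ∏ l ∈ Finset.univ.erase l0, z l := by
    rw [Polynomial.coeff_zero_eq_eval_zero, Polynomial.eval_prod]
    simp
  have hw : (MvPolynomial.X (c0 l0) : R) ⊗ₜ[A] slot l0 (b (c0 l0)) ∈ E' :=
    ⟨MvPolynomial.X (c0 l0) ⊗ₜ[A]
      (⟨slot l0 (b (c0 l0)), (le_sup_right : _ ≤ E) ⟨b (c0 l0), rfl⟩⟩ : E), by simp⟩
  have hprod : (MvPolynomial.X (c0 l0) : R) ⊗ₜ[A] slot l0 (b (c0 l0)) * Q.coeff 0 ∈ E' :=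
    mul_mem hw hQ0
  have hcalc : (MvPolynomial.X (c0 l0) : R) ⊗ₜ[A] slot l0 (b (c0 l0)) * Q.coeff 0 =
      ∏ l, lT (slot l) R (∑ i ∈ (if l ∈ ({l0} : Finset (Fin d)) then {c0 l} else s),
        MvPolynomial.X i ⊗ₜ[A] b i) := by
    rw [← Finset.mul_prod_erase Finset.univ (fun l => lT (slot l) R
      (∑ i ∈ (if l ∈ ({l0} : Finset (Fin d)) then {c0 l} else s), MvPolynomial.X i ⊗ₜ[A] b i))
      (Finset.mem_univ l0), hQ']
    congr 1
    · simp
    · refine Finset.prod_congr rfl fun l hl => ?_
      rw [Finset.mem_erase] at hl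
      simp [z, hl.1]
  obtain ⟨w, hw'⟩ := hprod
  have hfin : cf (MvPolynomial.lcoeff A (wt c0)) (lT E.val R w) =
      (cf (MvPolynomial.lcoeff A (wt c0)) w : E) := by
    rw [lT_eq, cf_lTensor]; rfl
  have heq : orbSum b (fun l => if l ∈ ({l0} : Finset (Fin d)) then {c0 l} else s) (wt c0) =
      cf (MvPolynomial.lcoeff A (wt c0)) (lT E.val R w) := by
    have hw'' : lT E.val R w =
        ∏ l, lT (slot l) R (∑ i ∈ (if l ∈ ({l0} : Finset (Fin d)) then {c0 l} else s),
          MvPolynomial.X i ⊗ₜ[A] b i) := hw'.trans hcalc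
    rw [hw'', cf_prod_slot_X]
    rfl
  rw [Subalgebra.mem_toSubmodule, heq, hfin]
  exact Subtype.coe_prop _

end Algebra

end ZeroCyc
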