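import Groth.Agent.ZeroCyc.Tensor
import Mathlib.RingTheory.MvPolynomial.Basic
import Mathlib.Algebra.Polynomial.AlgebraMap

/-!
# The symmetric tensors of a free algebra are its divided powers

* `ZeroCyc.freeLift b F`: the algebra map `TS^d(B) → C` attached to a law on an algebra with a basis.
* `ZeroCyc.presLift F`: the same for the canonical polynomial presentation of an arbitrary algebra.
* `ZeroCyc.ker_map_le`: the kernel of a tensor power of a surjection.
-/

universe u v

open scoped TensorProduct

noncomputable section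

namespace ZeroCyc

variable {A : Type u} [CommRing A] {B C : Type u} [CommRing B] [Algebra A B] [CommRing C]
  [Algebra A C] {d : ℕ}

section Coef

variable {κ : Type u} (v : κ → B) (F : PolLaw.MulLaw A B C d)

/-- The coefficient of `∏ Tᵢ^(kᵢ)` in the value of a law at `∑ Tᵢ vᵢ`. -/
def coefF (k : κ →₀ ℕ) : C :=
  cf (MvPolynomial.lcoeff A k)
    (F.law.toFun' (MvPolynomial κ A) (∑ i ∈ k.support, MvPolynomial.X i ⊗ₜ[A] v i))

open Classical in
/-- Setting the variables outside a finite set to zero. -/
def killHom (A : Type u) [CommRing A] (s : Finset κ) : MvPolynomial κ A →ₐ[A] MvPolynomial κ A :=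
  MvPolynomial.aeval fun i => if i ∈ s then MvPolynomial.X i else 0

theorem killHom_X [DecidableEq κ] (s : Finset κ) (i : κ) :
    killHom A s (MvPolynomial.X i) = if i ∈ s then MvPolynomial.X i else 0 := by
  rw [killHom, MvPolynomial.aeval_X]
  congr

theorem killHom_monomial [DecidableEq κ] (s : Finset κ) (m : κ →₀ ℕ) (a : A) :
    killHom A s (MvPolynomial.monomial m a) =
      if m.support ⊆ s then MvPolynomial.monomial m a else 0 := by
  rw [MvPolynomial.monomial_eq, map_mul, MvPolynomial.algHom_C, Finsupp.prod, map_prod]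
  simp only [map_pow, killHom_X]
  split_ifs with h
  · congr 1
    exact Finset.prod_congr rfl fun i hi => by rw [if_pos (h hi)]
  · obtain ⟨i, hi, his⟩ := Finset.not_subset.mp h
    rw [Finset.prod_eq_zero hi, mul_zero]
    rw [if_neg his]
    exact zero_pow (Finsupp.mem_support_iff.mp hi)

theorem lcoeff_killHom_of_subset (s : Finset κ) {k : κ →₀ ℕ} (hk : k.support ⊆ s) :
    MvPolynomial.lcoeff A k ∘ₗ (killHom A s).toLinearMap = MvPolynomial.lcoeff A k := by
  classical
  apply MvPolynomial.linearMap_ext
  intro m
  ext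
  simp only [LinearMap.comp_apply, AlgHom.toLinearMap_apply, MvPolynomial.lcoeff_apply]
  rw [killHom_monomial]
  split_ifs with h
  · rfl
  · rw [MvPolynomial.coeff_zero, MvPolynomial.coeff_monomial, if_neg]
    rintro rfl
    exact h hk

theorem lcoeff_killHom_of_not_subset (s : Finset κ) {k : κ →₀ ℕ} (hk : ¬ k.support ⊆ s) :
    MvPolynomial.lcoeff A k ∘ₗ (killHom A s).toLinearMap = 0 := by
  classical
  apply MvPolynomial.linearMap_ext
  intro m
  ext
  simp only [LinearMap.comp_apply, AlgHom.toLinearMap_apply, MvPolynomial.lcoeff_apply,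
    LinearMap.zero_apply]
  rw [killHom_monomial]
  split_ifs with h
  · rw [MvPolynomial.coeff_monomial, if_neg]
    rintro rfl
    exact hk h
  · rfl

theorem rT_killHom [DecidableEq κ] (s t : Finset κ) :
    rT B (killHom A t) (∑ i ∈ s, MvPolynomial.X i ⊗ₜ[A] v i) =
      ∑ i ∈ s.filter (· ∈ t), MvPolynomial.X i ⊗ₜ[A] v i := by
  rw [map_sum, Finset.sum_filter]
  refine Finset.sum_congr rfl fun i _ => ?_
  rw [rT_tmul, killHom_X]
  split_ifs <;> simp

theorem cf_law_of_subset (s : Finset κ) {k : κ →₀ ℕ} (hk : k.support ⊆ s) :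
    cf (MvPolynomial.lcoeff A k)
      (F.law.toFun' (MvPolynomial κ A) (∑ i ∈ s, MvPolynomial.X i ⊗ₜ[A] v i)) = coefF v F k := by
  classical
  conv_lhs => rw [← lcoeff_killHom_of_subset k.support (Finset.Subset.refl k.support),
    ← cf_rTensor, ← rT_eq, mulLaw_natural, rT_killHom]
  rw [coefF, Finset.filter_mem_eq_inter, Finset.inter_eq_right.mpr hk]

theorem cf_law_of_not_subset (s : Finset κ) {k : κ →₀ ℕ} (hk : ¬ k.support ⊆ s) :
    cf (MvPolynomial.lcoeff A k)
      (F.law.toFun' (MvPolynomial κ A) (∑ i ∈ s, MvPolynomial.X i ⊗ₜ[A] v i)) = 0 := by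
  classical
  have hfix : rT B (killHom A s) (∑ i ∈ s, MvPolynomial.X i ⊗ₜ[A] v i) =
      ∑ i ∈ s, MvPolynomial.X i ⊗ₜ[A] v i := by
    rw [rT_killHom, Finset.filter_true_of_mem fun i hi => hi]
  rw [← hfix, ← mulLaw_natural, rT_eq, cf_rTensor, lcoeff_killHom_of_not_subset s hk]
  simp [cf]

/-- Scaling all variables by a new one. -/
def scaleHom (κ : Type u) (A : Type u) [CommRing A] :
    MvPolynomial κ A →ₐ[A] Polynomial (MvPolynomial κ A) :=
  MvPolynomial.aeval fun i => Polynomial.C (MvPolynomial.X i) * Polynomial.X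

theorem scaleHom_monomial (m : κ →₀ ℕ) :
    scaleHom κ A (MvPolynomial.monomial m 1) =
      Polynomial.monomial (m.sum fun _ e => e) (MvPolynomial.monomial m (1 : A)) := by
  classical
  rw [scaleHom, MvPolynomial.aeval_monomial, map_one, one_mul]
  have : (Finsupp.prod m fun i e =>
      (Polynomial.C (MvPolynomial.X i : MvPolynomial κ A) * Polynomial.X) ^ e) =
      Polynomial.C (Finsupp.prod m fun i e => (MvPolynomial.X i : MvPolynomial κ A) ^ e) *
        Polynomial.X ^ (m.sum fun _ e => e) := by
    simp only [Finsupp.prod, Finsupp.sum, mul_pow, Finset.prod_mul_distrib, map_prod, map_pow,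
      Finset.prod_pow_eq_pow_sum]
  rw [this, ← Polynomial.C_mul_X_pow_eq_monomial, MvPolynomial.monomial_eq, map_one, one_mul]

theorem coefF_eq_zero {k : κ →₀ ℕ} (hk : (k.sum fun _ e => e) ≠ d) : coefF v F k = 0 := by
  classical
  let j := k.sum fun _ e => e
  let x := ∑ i ∈ k.support, (MvPolynomial.X i : MvPolynomial κ A) ⊗ₜ[A] v i
  let χ : Polynomial (MvPolynomial κ A) →ₗ[A] A :=
    MvPolynomial.lcoeff A k ∘ₗ (Polynomial.lcoeff (MvPolynomial κ A) j).restrictScalars A
  let Cm : MvPolynomial κ A →ₐ[A] Polynomial (MvPolynomial κ A) :=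
    IsScalarTower.toAlgHom A (MvPolynomial κ A) (Polynomial (MvPolynomial κ A))
  have hχ : χ ∘ₗ (scaleHom κ A).toLinearMap = MvPolynomial.lcoeff A k := by
    apply MvPolynomial.linearMap_ext
    intro m
    ext
    simp only [χ, LinearMap.comp_apply, AlgHom.toLinearMap_apply, LinearMap.restrictScalars_apply,
      Polynomial.lcoeff_apply, MvPolynomial.lcoeff_apply]
    rw [scaleHom_monomial, Polynomial.coeff_monomial]
    split_ifs with h
    · rfl
    · rw [MvPolynomial.coeff_zero, MvPolynomial.coeff_monomial, if_neg]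
      rintro rfl
      exact h rfl
  have hx : rT B (scaleHom κ A) x = (Polynomial.X : Polynomial (MvPolynomial κ A)) • rT B Cm x := by
    simp only [x, map_sum, Finset.smul_sum, rT_tmul]
    refine Finset.sum_congr rfl fun i _ => ?_
    rw [TensorProduct.smul_tmul', scaleHom, MvPolynomial.aeval_X, smul_eq_mul, mul_comm]
    rfl
  have h1 : coefF v F k =
      cf χ ((Polynomial.X : Polynomial (MvPolynomial κ A)) ^ d •
        rT C Cm (F.law.toFun' _ x)) := by
    rw [coefF, ← hχ, ← cf_rTensor, ← rT_eq, mulLaw_natural, hx, F.homog _ Polynomial.X, mulLaw_natural]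
  rw [h1]
  induction F.law.toFun' _ x using TensorProduct.induction_on with
  | zero => simp
  | add a b ha hb => simp only [map_add, smul_add, ha, hb, add_zero]
  | tmul r c =>
    rw [rT_tmul, TensorProduct.smul_tmul', cf_tmul]
    have : χ ((Polynomial.X : Polynomial (MvPolynomial κ A)) ^ d • Cm r) = 0 := by
      simp only [χ, Cm, LinearMap.comp_apply, LinearMap.restrictScalars_apply,
        Polynomial.lcoeff_apply, smul_eq_mul, IsScalarTower.toAlgHom_apply, Polynomial.algebraMap_eq]
      rw [Polynomial.X_pow_mul, Polynomial.coeff_C_mul_X_pow, if_neg hk, map_zero]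
    rw [this, zero_smul]

theorem eq_of_coeff {N : Type u} [AddCommGroup N] [Module A N] {z z' : MvPolynomial κ A ⊗[A] N}
    (h : ∀ k, cf (MvPolynomial.lcoeff A k) z = cf (MvPolynomial.lcoeff A k) z') : z = z' := by
  classical
  apply (TensorProduct.equivFinsuppOfBasisLeft (MvPolynomial.basisMonomials κ A)).injective
  ext k
  have hc : (MvPolynomial.basisMonomials κ A).coord k = MvPolynomial.lcoeff A k := by
    ext; rfl
  rw [TensorProduct.equivFinsuppOfBasisLeft_apply, TensorProduct.equivFinsuppOfBasisLeft_apply, hc]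
  exact h k

end Coef

theorem wt_sum {κ : Type v} (c : Fin d → κ) : ((wt c).sum fun _ e => e) = d := by
  classical
  rw [wt, ← Finsupp.sum_finsetSum_index (fun _ => rfl) fun _ _ _ => rfl]
  simp [Finsupp.sum_single_index]

theorem wt_support {κ : Type v} {c : Fin d → κ} {l : Fin d} : c l ∈ (wt c).support := by
  classical
  rw [Finsupp.mem_support_iff, wt_apply]
  exact Finset.card_ne_zero.mpr ⟨l, by simp⟩

theorem exists_wt {κ : Type v} (k : κ →₀ ℕ) {d : ℕ} (hd : (k.sum fun _ e => e) = d) :
    ∃ c : Fin d → κ, wt c = k := by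
  classical
  subst hd
  induction k using Finsupp.induction_linear with
  | zero => exact ⟨fun l => absurd l.2 (by simp), by simp [wt]⟩
  | single i n =>
    refine ⟨fun _ => i, ?_⟩
    rw [wt, ← Finsupp.single_finsetSum]
    simp
  | add f g hf hg =>
    obtain ⟨cf', hcf⟩ := hf
    obtain ⟨cg, hcg⟩ := hg
    rw [Finsupp.sum_add_index' (fun _ => rfl) fun _ _ _ => rfl]
    refine ⟨Fin.append cf' cg, ?_⟩
    conv_rhs => rw [← hcf, ← hcg]
    simp [wt, Fin.sum_univ_add]

section FreeLift

variable {κ : Type u} (b : Module.Basis κ A B) (F : PolLaw.MulLaw A B C d)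

/-- A chosen map of given weight. -/
def repWt {d : ℕ} (k : κ →₀ ℕ) (h : ∃ c : Fin d → κ, wt c = k) : Fin d → κ := h.choose

open Classical in
/-- The linear form on the tensor power attached to a law. -/
def powLift : Tp A B d →ₗ[A] C :=
  (powBasis b).constr A fun c => if c = repWt (wt c) ⟨c, rfl⟩ then coefF b F (wt c) else 0

theorem powLift_orbit [DecidableEq κ] (s : Finset κ) (k : κ →₀ ℕ) (hk : k.support ⊆ s) :
    powLift b F (∑ c ∈ (Fintype.piFinset fun _ : Fin d => s).filter (fun c => wt c = k),
        PiTensorProduct.tprod A fun l => b (c l)) = coefF b F k := by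
  classical
  by_cases hd : (k.sum fun _ e => e) = d
  · have h := exists_wt k hd
    have h0 : wt (repWt k h) = k := h.choose_spec
    have hmem : repWt k h ∈ (Fintype.piFinset fun _ : Fin d => s).filter (fun c => wt c = k) := by
      rw [Finset.mem_filter, Fintype.mem_piFinset]
      refine ⟨fun l => hk ?_, h0⟩
      have := wt_support (c := repWt k h) (l := l)
      rwa [h0] at this
    have key : ∀ c : Fin d → κ, wt c = k → repWt (wt c) ⟨c, rfl⟩ = repWt k h := by
      intro c hc; subst hc; rfl
    rw [map_sum, Finset.sum_eq_single_of_mem _ hmem]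
    · rw [← powBasis_apply, powLift, Module.Basis.constr_basis, key _ h0, if_pos rfl, h0]
    · intro c hc hne
      rw [Finset.mem_filter] at hc
      rw [← powBasis_apply, powLift, Module.Basis.constr_basis, key _ hc.2, if_neg hne]
  · have : (Fintype.piFinset fun _ : Fin d => s).filter (fun c => wt c = k) = ∅ := by
      rw [Finset.filter_eq_empty_iff]
      rintro c - rfl
      exact hd (wt_sum c)
    rw [this, Finset.sum_empty, map_zero, coefF_eq_zero b F hd]

theorem powLift_diag (R : Type u) [CommSemiring R] [Algebra A R] (x : R ⊗[A] B) :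
    (powLift b F).lTensor R (∏ l, lT (slot l) R x) = F.law.toFun' R x := by
  classical
  obtain ⟨r, rfl⟩ := TensorProduct.eq_repr_basis_right (M := R) b x
  let x0 : MvPolynomial κ A ⊗[A] B := ∑ i ∈ r.support, MvPolynomial.X i ⊗ₜ[A] b i
  let h : MvPolynomial κ A →ₐ[A] R := MvPolynomial.aeval fun i => r i
  have hx : (r.sum fun i m => m ⊗ₜ[A] b i) = rT B h x0 := by
    simp [x0, h, map_sum, Finsupp.sum]
  have h0 : (powLift b F).lTensor (MvPolynomial κ A)
      (∏ l, lT (slot l) (MvPolynomial κ A) x0) = F.law.toFun' _ x0 := by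
    refine eq_of_coeff fun k => ?_
    rw [cf_lTensor]
    by_cases hk : k.support ⊆ r.support
    · rw [cf_prod_slot_X (fun _ => r.support), powLift_orbit b F _ k hk,
        cf_law_of_subset b F _ hk]
    · rw [cf_law_of_not_subset b F _ hk, cf_prod_slot_X (fun _ => r.support)]
      have : (Fintype.piFinset fun _ : Fin d => r.support).filter (fun c => wt c = k) = ∅ := by
        rw [Finset.filter_eq_empty_iff]
        rintro c hc rfl
        apply hk
        intro i hi
        rw [Finsupp.mem_support_iff, wt_apply] at hi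
        obtain ⟨l, hl⟩ := Finset.card_ne_zero.mp hi
        rw [Finset.mem_filter] at hl
        rw [← hl.2]
        exact Fintype.mem_piFinset.mp hc l
      rw [this, Finset.sum_empty, map_zero]
  have hn : ∏ l, lT (slot l) R (rT B h x0) =
      h.toLinearMap.rTensor (Tp A B d) (∏ l, lT (slot l) (MvPolynomial κ A) x0) := by
    rw [← rT_eq, map_prod]
    exact Finset.prod_congr rfl fun l _ => (rT_lT _ _ _).symm
  rw [hx, ← mulLaw_natural, ← h0, hn, rT_eq, ← LinearMap.comp_apply, LinearMap.lTensor_comp_rTensor, ← LinearMap.rTensor_comp_lTensor]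
  rfl

/-- The restriction of `powLift` to symmetric tensors. -/
def tsLiftL : SymTen.TS A B d →ₗ[A] C := powLift b F ∘ₗ (SymTen.TS A B d).val.toLinearMap

theorem tsLiftL_tau (R : Type u) [CommSemiring R] [Algebra A R] (x : R ⊗[A] B) :
    (tsLiftL b F).lTensor R ((tau A B d).law.toFun' R x) = F.law.toFun' R x := by
  rw [tsLiftL, LinearMap.lTensor_comp, LinearMap.comp_apply, ← lT_eq, tau_spec, powLift_diag]

theorem tsLiftL_cf {R : Type u} [CommRing R] [Algebra A R] (φ : R →ₗ[A] A) (x : R ⊗[A] B) :
    tsLiftL b F (cf φ ((tau A B d).law.toFun' R x)) = cf φ (F.law.toFun' R x) := by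
  rw [← cf_lTensor, tsLiftL_tau]

theorem tsLiftL_one : tsLiftL b F 1 = 1 := by
  have := tsLiftL_cf b F (R := A) LinearMap.id 1
  rw [((tau A B d).mult A).1, (F.mult A).1, Algebra.TensorProduct.one_def,
    Algebra.TensorProduct.one_def, cf_tmul, cf_tmul, LinearMap.id_apply, one_smul, one_smul] at this
  exact this

theorem tsLiftL_mul (t t' : SymTen.TS A B d) :
    tsLiftL b F (t * t') = tsLiftL b F t * tsLiftL b F t' := by
  have hmem : ∀ s : SymTen.TS A B d, s ∈ coefSub (tau A B d) := fun s =>
    (coefSub_tau_of_basis b).symm ▸ Submodule.mem_top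
  induction hmem t using Submodule.span_induction with
  | zero => simp
  | add a a' _ _ ha ha' => rw [add_mul, map_add, map_add, ha, ha', add_mul]
  | smul r a _ ha => rw [Algebra.smul_mul_assoc, map_smul, map_smul, ha, Algebra.smul_mul_assoc]
  | mem y hy =>
    induction hmem t' using Submodule.span_induction with
    | zero => simp
    | add a a' _ _ ha ha' => rw [mul_add, map_add, map_add, ha, ha', mul_add]
    | smul r a _ ha => rw [Algebra.mul_smul_comm, map_smul, map_smul, ha, Algebra.mul_smul_comm]
    | mem y' hy' =>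
      obtain ⟨R, _, _, _, φ, x, rfl⟩ := hy
      obtain ⟨R', _, _, _, φ', x', rfl⟩ := hy'
      rw [← cf_mulFun_law, tsLiftL_cf, tsLiftL_cf, tsLiftL_cf, cf_mulFun_law]

/-- The algebra map `TS^d(B) → C` attached to a law, for `B` with a basis. -/
def freeLift : SymTen.TS A B d →ₐ[A] C :=
  AlgHom.ofLinearMap (tsLiftL b F) (tsLiftL_one b F) (tsLiftL_mul b F)

theorem freeLift_tau : (tau A B d).postcomp (freeLift b F) = F :=
  PolLaw.MulLaw.ext (by ext R _ _ x; exact tsLiftL_tau b F R x)

theorem freeLift_apply (t : SymTen.TS A B d) : freeLift b F t = powLift b F (t : Tp A B d) := rfl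

include b in
theorem isGammaD_tau_of_basis : PolLaw.IsGammaD (tau A B d) := by
  intro C' _ _ G
  refine ⟨freeLift b G, congrArg PolLaw.MulLaw.law (freeLift_tau b G), fun g hg => ?_⟩
  refine algHom_ext_of_coefSub (coefSub_tau_of_basis b) ?_
  rw [freeLift_tau]
  exact PolLaw.MulLaw.ext hg

end FreeLift

section Presentation

variable (A B) in
/-- The polynomial presentation. -/
abbrev Pres : Type u := MvPolynomial B A

variable (A B) in
/-- The presentation map. -/
def presMap : Pres A B →ₐ[A] B := MvPolynomial.aeval _root_.id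

theorem presMap_surjective : Function.Surjective (presMap A B) :=
  fun b => ⟨MvPolynomial.X b, by simp [presMap]⟩

/-- The algebra map from the symmetric tensors of the presentation attached to a law. -/
def presLift (F : PolLaw.MulLaw A B C d) : SymTen.TS A (Pres A B) d →ₐ[A] C :=
  freeLift (MvPolynomial.basisMonomials B A) (F.precomp (presMap A B))

theorem presLift_tau (F : PolLaw.MulLaw A B C d) :
    (tau A (Pres A B) d).postcomp (presLift F) = F.precomp (presMap A B) :=
  freeLift_tau _ _

theorem presLift_ev (F : PolLaw.MulLaw A B C d) {S : Type u} [CommSemiring S] [Algebra A S]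
    (g : C →ₐ[A] S) (x : S ⊗[A] Pres A B) :
    ev (tau A (Pres A B) d) (g.comp (presLift F)) x = ev F g (lT (presMap A B) S x) := by
  rw [← ev_postcomp, presLift_tau, ev_precomp]

theorem coefSub_precomp {B' : Type u} [CommRing B'] [Algebra A B'] {π : B' →ₐ[A] B}
    (hπ : Function.Surjective π) (F : PolLaw.MulLaw A B C d) :
    coefSub (F.precomp π) = coefSub F := by
  refine le_antisymm (Submodule.span_mono ?_) (Submodule.span_mono ?_)
  · rintro c ⟨R, _, _, _, φ, x, rfl⟩
    exact ⟨R, inferInstance, inferInstance, inferInstance, φ, lT π R x, by rw [lT_eq]; rfl⟩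
  · rintro c ⟨R, _, _, _, φ, x, rfl⟩
    obtain ⟨y, rfl⟩ := lT_surjective hπ R x
    exact ⟨R, inferInstance, inferInstance, inferInstance, φ, y, by rw [lT_eq]; rfl⟩

theorem coefSub_postcomp_le {C' : Type u} [CommRing C'] [Algebra A C'] (f : C →ₐ[A] C')
    (F : PolLaw.MulLaw A B C d) : coefSub (F.postcomp f) ≤ (coefSub F).map f.toLinearMap := by
  rw [coefSub, Submodule.span_le]
  rintro c ⟨R, _, _, _, φ, x, rfl⟩
  refine ⟨_, cf_mem_coefSub F φ x, ?_⟩
  rw [← cf_lTensor]
  rfl

theorem surjective_of_coefSub {C' : Type u} [CommRing C'] [Algebra A C'] (f : C →ₐ[A] C')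
    (F : PolLaw.MulLaw A B C d) (h : coefSub (F.postcomp f) = ⊤) : Function.Surjective f := by
  intro c
  obtain ⟨a, -, ha⟩ := coefSub_postcomp_le f F (h ▸ (Submodule.mem_top : c ∈ (⊤ : Submodule A C')))
  exact ⟨a, ha⟩

theorem presLift_surjective {γ : PolLaw.MulLaw A B C d} (hγ : coefSub γ = ⊤) :
    Function.Surjective (presLift γ) := by
  refine surjective_of_coefSub _ (tau A (Pres A B) d) ?_
  rw [presLift_tau, coefSub_precomp presMap_surjective, hγ]

end Presentation

section Kernel

variable {M M' : Type u} [AddCommGroup M] [Module A M] [AddCommGroup M'] [Module A M']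

/-- The kernel of a tensor power of a surjection is spanned by tensors with a factor in the kernel. -/
theorem ker_map_le (π : M →ₗ[A] M') (hπ : Function.Surjective π) (d : ℕ) :
    LinearMap.ker (PiTensorProduct.map (fun _ : Fin d => π)) ≤
      Submodule.span A {t | ∃ c : Fin d → M, (∃ i, π (c i) = 0) ∧ PiTensorProduct.tprod A c = t} := by
  classical
  set W := Submodule.span A
    {t | ∃ c : Fin d → M, (∃ i, π (c i) = 0) ∧ PiTensorProduct.tprod A c = t}
  have key : ∀ (s : Finset (Fin d)) (c c' : Fin d → M), (∀ i, π (c i) = π (c' i)) →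
      (∀ i, i ∉ s → c i = c' i) →
      (Submodule.Quotient.mk (PiTensorProduct.tprod A c) : (⨂[A] _ : Fin d, M) ⧸ W) =
        Submodule.Quotient.mk (PiTensorProduct.tprod A c') := by
    intro s
    induction s using Finset.induction_on with
    | empty =>
      intro c c' _ h
      rw [funext fun i => h i (Finset.notMem_empty i)]
    | insert a s ha ih =>
      intro c c' hπ' h
      have h1 := ih (Function.update c a (c' a)) c' (fun i => by
        by_cases hi : i = a
        · subst hi; simp
        · simp [hi, hπ' i]) (fun i hi => by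
        by_cases hia : i = a
        · subst hia; simp
        · rw [Function.update_of_ne hia]
          exact h i (by simp [hia, hi]))
      rw [← h1, Submodule.Quotient.eq]
      refine Submodule.subset_span
        ⟨Function.update c a (c a - c' a), ⟨a, by simp [hπ' a]⟩, ?_⟩
      rw [MultilinearMap.map_update_sub, Function.update_eq_self]
  let σ := Function.surjInv hπ
  have hσ : ∀ m, π (σ m) = m := Function.surjInv_eq hπ
  have key' : ∀ c c' : Fin d → M, (∀ i, π (c i) = π (c' i)) →
      (Submodule.Quotient.mk (PiTensorProduct.tprod A c) : (⨂[A] _ : Fin d, M) ⧸ W) =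
        Submodule.Quotient.mk (PiTensorProduct.tprod A c') :=
    fun c c' h => key Finset.univ c c' h fun i hi => absurd (Finset.mem_univ i) hi
  let g : MultilinearMap A (fun _ : Fin d => M') ((⨂[A] _ : Fin d, M) ⧸ W) :=
    { toFun := fun v => Submodule.Quotient.mk (PiTensorProduct.tprod A fun i => σ (v i))
      map_update_add' := by
        intro _ v i x y
        rw [← Submodule.Quotient.mk_add]
        rw [key' _ (Function.update (fun j => σ (v j)) i (σ x + σ y)) fun j => by
          by_cases hj : j = i
          · subst hj; simp [hσ]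
          · simp [hj]]
        rw [MultilinearMap.map_update_add]
        congr 3 <;>
        · funext j
          by_cases hj : j = i
          · subst hj; simp
          · simp [hj]
      map_update_smul' := by
        intro _ v i r x
        rw [← Submodule.Quotient.mk_smul]
        rw [key' _ (Function.update (fun j => σ (v j)) i (r • σ x)) fun j => by
          by_cases hj : j = i
          · subst hj; simp [hσ]
          · simp [hj]]
        rw [MultilinearMap.map_update_smul]
        congr 3
        funext j
        by_cases hj : j = i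
        · subst hj; simp
        · simp [hj] }
  have hcomp : PiTensorProduct.lift g ∘ₗ PiTensorProduct.map (fun _ : Fin d => π) = W.mkQ := by
    ext c
    show PiTensorProduct.lift g (PiTensorProduct.map (fun _ : Fin d => π) (PiTensorProduct.tprod A c))
      = _
    rw [PiTensorProduct.map_tprod, PiTensorProduct.lift.tprod]
    exact key' _ _ fun i => hσ _
  intro t ht
  rw [← Submodule.Quotient.mk_eq_zero]
  have := LinearMap.congr_fun hcomp t
  rw [LinearMap.comp_apply, ht, map_zero] at this
  exact this.symm

end Kernel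

theorem tmap_eq_map {B' : Type u} [CommRing B'] [Algebra A B'] (f : B →ₐ[A] B') (t : Tp A B d) :
    SymTen.tmap A d f t = PiTensorProduct.map (fun _ : Fin d => f.toLinearMap) t := by
  induction t using PiTensorProduct.induction_on with
  | smul_tprod r g => simp
  | add x y hx hy => simp [hx, hy]

theorem tmap_slot {B' : Type u} [CommRing B'] [Algebra A B'] (f : B →ₐ[A] B') (l : Fin d) :
    (SymTen.tmap A d f).comp (slot l) = (slot l).comp f := by
  ext b
  rw [AlgHom.comp_apply, AlgHom.comp_apply, slot_apply, slot_apply, SymTen.tmap_tprod]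
  congr 1
  funext i
  by_cases h : i = l
  · subst h; simp
  · simp [h]

theorem tau_natural {B' : Type u} [CommRing B'] [Algebra A B'] (f : B →ₐ[A] B') :
    (tau A B d).postcomp (SymTen.TSmap A d f) = (tau A B' d).precomp f := by
  refine mulLaw_ext_free fun R _ _ _ x => ?_
  apply lTensor_injective (i := (SymTen.TS A B' d).val.toLinearMap) Subtype.val_injective (R := R)
  rw [← lT_eq, ← lT_eq]
  show lT _ R ((SymTen.TSmap A d f).toLinearMap.lTensor R ((tau A B d).law.toFun' R x)) =
    lT _ R ((tau A B' d).law.toFun' R (f.toLinearMap.lTensor R x))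
  rw [← lT_eq, ← lT_eq f, tau_spec]
  have : ∀ z, lT (SymTen.TS A B' d).val R (lT (SymTen.TSmap A d f) R z) =
      lT (SymTen.tmap A d f) R (lT (SymTen.TS A B d).val R z) := by
    intro z
    induction z using TensorProduct.induction_on with
    | zero => simp
    | tmul s t => simp [SymTen.TSmap] <;> rfl
    | add a b ha hb => simp only [map_add, ha, hb]
  rw [this, tau_spec, map_prod]
  refine Finset.prod_congr rfl fun l _ => ?_
  induction x using TensorProduct.induction_on with
  | zero => simp
  | tmul s b => simp only [lT_tmul]; rw [← AlgHom.comp_apply, tmap_slot]; rfl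
  | add a b ha hb => simp only [map_add, ha, hb]

theorem comp_presLift {C : Type u} [CommRing C] [Algebra A C] (γ : PolLaw.MulLaw A B C d)
    (φ : C →ₐ[A] SymTen.TS A B d) (hφ : γ.postcomp φ = tau A B d) :
    φ.comp (presLift γ) = SymTen.TSmap A d (presMap A B) := by
  refine algHom_ext_of_coefSub (coefSub_tau_of_basis (MvPolynomial.basisMonomials B A)) ?_
  rw [tau_natural, ← hφ]
  apply PolLaw.MulLaw.ext
  have h := congrArg PolLaw.MulLaw.law (presLift_tau γ)
  show PolLaw.postcomp (φ.comp (presLift γ)).toLinearMap (tau A (Pres A B) d).law = _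
  ext S _ _ x
  show (φ.comp (presLift γ)).toLinearMap.lTensor S _ = φ.toLinearMap.lTensor S _
  rw [AlgHom.comp_toLinearMap, LinearMap.lTensor_comp, LinearMap.comp_apply]
  congr 1
  exact congrArg (fun G : PolynomialLaw A (Pres A B) C => G.toFun' S x) h

end ZeroCyc
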